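import Cfsg.Agent.TameSQ.Counts

/-!
# The members vanishing on the rotations of order at least four

Such a member of positive height vanishes on the sections of those rotations; on the defect class
its value is then a multiple of `h`, so `h` divides `2 ^ ht`.
-/

set_option autoImplicit false
set_option linter.unusedSectionVars false
set_option linter.style.haveILetI false

namespace CfsgLib.TameSQ

open Cfsg CfsgLib.BlockPairs CfsgLib.Star
open CfsgLib.Blocks (Res localRing)
open CfsgLib.TameBlocks (Fused IsReps sval)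
open CfsgLib.Contributions (contrib)
open scoped ComplexConjugate Classical

universe u

variable {G : Type u} [Group G] [Fintype G]

/-- Sums of a character over a progression of exponents, against a root of unity. -/
theorem sum_twisted (χ : IrrCharacter G) {s y : G} (hsy : Commute s y) {n : ℕ}
    (hs : orderOf s = n) (hco : n.Coprime (orderOf y)) {ω : ℂ} (hω : ω ^ n = 1) :
    ∃ c : ℂ, IsIntegral ℤ c ∧
      ∑ a ∈ Finset.range n, (χ : G → ℂ) (s ^ a * y) * ω ^ a = (n : ℂ) * c := by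
  obtain ⟨u, hu1, hu2⟩ := Nat.chineseRemainder hco 1 0
  obtain ⟨v, hv1, hv2⟩ := Nat.chineseRemainder hco 0 1
  have hord : orderOf (s * y) = n * orderOf y := by
    rw [hsy.orderOf_mul_eq_mul_orderOf_of_coprime (hs ▸ hco), hs]
  have hpow : ∀ a : ℕ, (s * y) ^ (u * a + v) = s ^ a * y := fun a => by
    rw [hsy.mul_pow]
    congr 1
    · rw [pow_eq_pow_iff_modEq, hs]
      simpa using (hu1.mul_right a).add hv1
    · conv_rhs => rw [← pow_one y]
      rw [pow_eq_pow_iff_modEq]
      simpa using (hu2.mul_right a).add hv2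
  obtain ⟨d, ρ, hρ, hch⟩ := χ.2
  obtain ⟨μ, hμ, hj, -⟩ := Characters.exists_eigenvalues ρ (s * y)
  have hval : ∀ a : ℕ, (χ : G → ℂ) (s ^ a * y) = ∑ l, μ l ^ (u * a + v) := fun a => by
    rw [← hpow a, ← hch, hj]
  have hroot : ∀ l, (μ l ^ u) ^ n = 1 := fun l => by
    rw [← pow_mul]
    obtain ⟨c, hc⟩ : orderOf (s * y) ∣ u * n := by
      rw [hord, mul_comm u]
      exact Nat.mul_dvd_mul_left n (Nat.modEq_zero_iff_dvd.1 hu2)
    rw [hc, pow_mul, hμ l, one_pow]
  refine ⟨∑ l, if μ l ^ u * ω = 1 then μ l ^ v else 0, IsIntegral.sum _ fun l _ => ?_, ?_⟩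
  · split_ifs
    · exact IsIntegral.pow (IsIntegral.of_pow (orderOf_pos (s * y))
        (by rw [hμ l]; exact isIntegral_one)) _
    · exact isIntegral_zero
  · rw [Finset.sum_congr rfl fun a _ => by rw [hval a, Finset.sum_mul], Finset.sum_comm,
      Finset.mul_sum]
    refine Finset.sum_congr rfl fun l _ => ?_
    rw [Finset.sum_congr rfl (g := fun a => μ l ^ v * (μ l ^ u * ω) ^ a) fun a _ => by
      rw [pow_add, pow_mul, mul_pow]; ring, ← Finset.mul_sum]
    split_ifs with h1
    · simp [h1, mul_comm]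
    · rw [geom_sum_eq h1, mul_pow, hroot l, hω, one_mul, sub_self, zero_div, mul_zero, mul_zero]

variable {M : Ideal AlgInt} [M.IsPrime]
  [CharP (Res M) 2] [IsAlgClosed (Res M)] (hM : Cfsg.IsPModular 2 M)
  {B : Set (IrrCharacter G)} (hB : Cfsg.IsPBlock M B)
  {D : Subgroup G} {eP : GA (Res M) G} (hmax : IsMaxPair 2 (⊤ : Subgroup G) (gblk M B) D eP)
  {h : ℕ} {S : QShape D h} {hDK : D ≤ KT S eP} (𝒞 : LocData M eP (KT S eP) hDK)
  {q : ℕ} (hq : h = 2 * (q + 1))

include hM hB hmax hq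

/-- A member of positive height vanishing on the rotations is of height at least `log h`. -/
theorem h_dvd_pow {χ : IrrCharacter G} (hχ : χ ∈ B)
    (h0 : Cfsg.blockHeight 2 B (χ : G → ℂ) ≠ 0) (hx : ∀ i : Fin q, xv 𝒞 χ i = 0)
    (hd : ∀ i : Fin q, dv 𝒞 χ i = 0) :
    h ∣ 2 ^ Cfsg.blockHeight 2 B (χ : G → ℂ) := by
  haveI : Fact (Nat.Prime 2) := ⟨Nat.prime_two⟩
  have hh := S.h_pos
  have hcol : ∀ a ∈ rset h, col 𝒞 a χ = 0 := fun a ha =>
    eq_zero_of_const hh (zeta_spec hh) (fun a => col 𝒞 a χ) (mcoef 𝒞 χ) (col_eq 𝒞 χ)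
      (fun j hj => coeff_const (q := q) (mcoef_symm' 𝒞 hq χ)
        (Nv_eq_zero hM hB hmax 𝒞 hq hχ h0) hx hd (by omega)) ha
  have hR := isReps_reps hB hmax S
  have hD : Cfsg.IsDefectGroup 2 M B D :=
    (isDefectGroup_gblk_iff hB D).2 (hmax.isDefectGrp (isBlock_gblk hB)).1
  obtain ⟨y, hy, hSy⟩ := CfsgLib.Blocks.isDefectGroup_iff.1 hD
  have hyreg := CfsgLib.Blocks.regular_of_isDefectClass hM hB hy
  have hσy : Commute S.σ y := Subgroup.mem_centralizer_singleton_iff.1 (hSy.1 S.σ_mem)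
  have hvan : ∀ a ∈ rset h, (χ : G → ℂ) (S.σ ^ a * y) = 0 := by
    intro a ha
    obtain ⟨h1, hz⟩ := rset_ne 𝒞 ha
    obtain ⟨i, hi⟩ := exists_orderOf hmax.1.1.2.1 (S.zpowers_le (S.pow_mem_zpowers a))
    refine char_eq_zero_of_sval hM hB hmax hR hχ ⟨i, hi⟩ (hσy.pow_left a) hyreg fun r hr hc => ?_
    have hord : orderOf r = orderOf (S.σ ^ a) := by
      obtain ⟨g, rfl⟩ := isConj_iff.1 hc
      exact (MulAut.conj g).orderOf_eq _
    by_cases hrot : r ∈ rots S
    · obtain ⟨b, hb, rfl⟩ := (mem_rots S).1 hrot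
      have hbr : b ∈ rset h := by
        refine mem_rset.2 ⟨by omega, fun e => h1 ?_, fun e => ?_⟩
        · rw [e, pow_zero, orderOf_one] at hord
          exact orderOf_eq_one_iff.1 hord.symm
        · rw [e] at hord
          have h2 : (S.σ ^ a) * (S.σ ^ a) = 1 := by
            rw [← pow_two, ← orderOf_dvd_iff_pow_eq_one, ← hord, orderOf_dvd_iff_pow_eq_one,
              pow_two]
            exact S.z_mul_z
          rcases S.eq_one_or_z (S.pow_mem_zpowers a) h2 with e' | e'
          exacts [h1 e', hz e']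
      rw [sval_col hM hB hmax 𝒞 hbr, hcol b hbr, mul_zero, zero_div]
    · rw [sval_other hM hB hmax 𝒞 hq hr hrot hχ, if_neg h0]
  have hco : (2 * h).Coprime (orderOf y) := by
    obtain ⟨e, -, he⟩ := S.two_pow
    rw [he, ← pow_succ']
    exact (Nat.prime_two.coprime_iff_not_dvd.2 hyreg).pow_left _
  have key : ∀ ω : ℂ, ω ^ (2 * h) = 1 → ∃ c : ℂ, IsIntegral ℤ c ∧
      (χ : G → ℂ) y + (χ : G → ℂ) (S.σ ^ h * y) * ω ^ h = (2 * h : ℂ) * c := by
    intro ω hω
    obtain ⟨c, hc, hce⟩ := sum_twisted χ hσy S.order hco hω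
    rw [sum_rset _ hh, Finset.sum_eq_zero fun a ha => by rw [hvan a ha, zero_mul]] at hce
    refine ⟨c, hc, ?_⟩
    simpa using hce
  obtain ⟨c₀, hc₀, he₀⟩ := key 1 (one_pow _)
  obtain ⟨c₁, hc₁, he₁⟩ := key (zeta h) (zeta_spec hh).pow_eq_one
  have hzh : zeta h ^ h = -1 := by
    have := expo_h hh (zeta_spec hh) 1
    rw [expo, zpow_one] at this
    rw [this, if_neg (by norm_num)]
  rw [hzh] at he₁
  rw [one_pow, mul_one] at he₀
  have hval : (χ : G → ℂ) y = (h : ℂ) * (c₀ + c₁) := by linear_combination (he₀ + he₁) / 2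
  -- the central character at the defect class is a unit
  obtain ⟨e, -, he⟩ := S.two_pow
  rw [he]
  refine pow_dvd_pow 2 ?_
  by_contra hlt
  set t := Cfsg.blockHeight 2 B (χ : G → ℂ)
  have hlt' : t < e := not_le.1 hlt
  refine hy.2.2 χ hχ ?_
  have hheight := CfsgLib.Blocks.blockHeight_eq hM hB hD hχ
  have hidx := CfsgLib.Blocks.index_centralizer_factorization hSy
  have hdeg := CfsgLib.Blocks.charDegree_factorization_le (p := 2) χ
  set w := ((Subgroup.centralizer ({y} : Set G)).index).factorization 2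
  set v := (Cfsg.charDegree (χ : G → ℂ)).factorization 2
  have hidx0 : (Subgroup.centralizer ({y} : Set G)).index ≠ 0 := Subgroup.index_ne_zero_of_finite
  have hq' : Cfsg.MemLocalIdeal M
      ((((Subgroup.centralizer ({y} : Set G)).index * 2 ^ e : ℕ) : ℂ) /
        ((Cfsg.charDegree (χ : G → ℂ) : ℕ) : ℂ)) := by
    have := CfsgLib.Blocks.memLocalIdeal_mul_div_of_lt (n := (Subgroup.centralizer ({y} : Set G)).index * 2 ^ e)
      (m := Cfsg.charDegree (χ : G → ℂ)) hM (CfsgLib.Blocks.charDegree_ne_zero χ) (by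
        rw [Nat.factorization_mul hidx0 (pow_ne_zero _ two_ne_zero), Finsupp.add_apply,
          Nat.Prime.factorization_pow Nat.prime_two, Finsupp.single_eq_same]
        omega) (z := 1) (CfsgLib.Blocks.memLocalRing_of_isIntegral isIntegral_one)
    simpa using this
  have := CfsgLib.Blocks.memLocalIdeal_mul_right hq'
    (CfsgLib.Blocks.memLocalRing_of_isIntegral (hc₀.add hc₁))
  convert this using 1
  rw [Cfsg.centralChar, hval, CfsgLib.Blocks.charDegree_cast, he]
  push_cast
  ring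

end CfsgLib.TameSQ
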