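import Cfsg.Agent.TameSQ.Reduce
import Cfsg.Agent.TameSQ.High

/-!
# Blocks with quaternion defect groups

The count of the block by representatives gives `k = l + h + 2`; the contributions and the
differences of the coefficients of the columns form a frame, which gives the heights and `l ≤ 3`.
-/

set_option autoImplicit false
set_option linter.unusedSectionVars false
set_option linter.style.haveILetI false

namespace CfsgLib.TameSQ

open Cfsg CfsgLib.BlockPairs CfsgLib.Star
open CfsgLib.Blocks (Res)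
open CfsgLib.TameBlocks (Fused IsReps sval)
open CfsgLib.Contributions (contrib)
open scoped ComplexConjugate Classical

universe u

/-- The pattern on small exponents. -/
theorem delta_small {h a b : ℕ} (h0 : 0 < a + b) (h1 : a + b < 2 * h) :
    delta h a b = if a = b then 1 else 0 := by
  rw [delta, if_neg, zero_add]
  · refine if_congr ?_ rfl rfl
    rw [dvd_small (by omega) (by omega)]
    omega
  · rw [dvd_small (by omega) (by omega)]
    omega

theorem delta_zero (h : ℕ) : delta h ((0 : ℕ) : ℤ) ((0 : ℕ) : ℤ) = 2 := by simp [delta]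

theorem four_dvd_qf {q : ℕ} (y : Fin q → ℤ) : (4 : ℤ) ∣ qf 0 0 y := by
  rw [qf, sub_self, zero_pow two_ne_zero, mul_zero, zero_add]
  exact dvd_add (dvd_mul_right _ _) (dvd_mul_right _ _)

variable {G : Type u} [Group G] [Fintype G] {M : Ideal AlgInt} [M.IsPrime]
  [CharP (Res M) 2] [IsAlgClosed (Res M)] (hM : Cfsg.IsPModular 2 M)
  {B : Set (IrrCharacter G)} (hB : Cfsg.IsPBlock M B)
  {D : Subgroup G} {eP : GA (Res M) G} (hmax : IsMaxPair 2 (⊤ : Subgroup G) (gblk M B) D eP)
  {h : ℕ} (S : QShape D h)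

include S in
omit [CharP (Res M) 2] [IsAlgClosed (Res M)] in
theorem exists_half : ∃ q, h = 2 * (q + 1) ∧ (q ≤ 1 ∨ 3 ≤ q) := by
  obtain ⟨e, he, rfl⟩ := S.two_pow
  refine ⟨2 ^ (e - 1) - 1, ?_, ?_⟩
  · rw [Nat.sub_add_cancel Nat.one_le_two_pow, ← pow_succ']
    congr 1
    omega
  · rcases Nat.lt_or_ge e 3 with h3 | h3
    · interval_cases e <;> simp
    · have := Nat.pow_le_pow_right (show 0 < 2 by norm_num) (show 2 ≤ e - 1 by omega)
      omega

include hM hB hmax S

/-- The number of members. -/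
theorem card_block {q : ℕ} (hq : h = 2 * (q + 1)) :
    Nat.card B = Cfsg.blockRank 2 B + h + 2 := by
  haveI : Fact (Nat.Prime 2) := ⟨Nat.prime_two⟩
  have hR := isReps_reps hB hmax S
  obtain ⟨𝒞⟩ := exists_locData_KT hB hmax S hM
  choose! l hl1 hl using fun r (hr : r ∈ reps S eP) =>
    TameBlocks.exists_rank hM hB hmax (hR.1 r hr)
  obtain ⟨lz, hlz, hc⟩ := exists_lz hM hB hmax S hq
  have hsub := rots_subset_reps hB hmax S
  rw [TameBlocks.card_eq_sum_rank hM hB hmax hR hl, ← Finset.sum_sdiff hsub,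
    Finset.sum_congr rfl (g := fun _ => 1) fun r hr => ?_, Finset.sum_const, smul_eq_mul, mul_one]
  · have h1 : l 1 = Cfsg.blockRank 2 B := by
      have := (hl 1 (hsub (one_mem_rots S))).symm.trans (TameBlocks.sum_sval_one hM hB hmax)
      exact_mod_cast this
    have hz : l S.z = lz := by
      have := (hl S.z (hsub (z_mem_rots S))).symm.trans hlz
      exact_mod_cast this
    have ha : ∀ a ∈ Finset.Ico 1 h, l (S.σ ^ a) = 1 := fun a ha => by
      obtain ⟨h1, h2⟩ := Finset.mem_Ico.1 ha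
      have := (hl _ (hsub (rot_mem_rots S h2.le))).symm.trans
        (trace_rot hM hB hmax 𝒞 (mem_rset.2 ⟨by omega, by omega, by omega⟩) h2.le)
      exact_mod_cast this
    have hrots : ∑ r ∈ rots S, l r = Cfsg.blockRank 2 B + (h - 1) + lz := by
      rw [rots, Finset.sum_image fun a ha b hb e => S.sigma_pow_inj
          (by simp at ha; omega) (by simp at hb; omega) e,
        Finset.range_eq_Ico, Finset.sum_Ico_succ_top (Nat.zero_le h),
        Finset.sum_eq_sum_Ico_succ_bot S.h_pos, pow_zero, h1, show l (S.σ ^ h) = lz from hz,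
        Finset.sum_congr rfl ha, Finset.sum_const, smul_eq_mul, mul_one, Nat.card_Ico]
    rw [hrots]
    omega
  · rw [Finset.mem_sdiff] at hr
    have hrD := hR.1 r hr.1
    have hrσ := not_mem_zpowers_of_reps hB hmax S hr.1 hr.2
    have := (hl r hr.1).symm.trans (trace_small hM hB hmax hrD
      (S.inf_centralizer_refl hrD hrσ) (defect_other hB hmax S hr.1 hr.2))
    exact_mod_cast this

/-- The contribution at the involution has positive diagonal. -/
theorem sval_z_ne_zero {χ : IrrCharacter G} (hχ : χ ∈ B) :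
    sval 2 D eP S.z (χ : G → ℂ) χ ≠ 0 := by
  haveI : Fact (Nat.Prime 2) := ⟨Nat.prime_two⟩
  haveI := Fintype.ofFinite ↥(Subgroup.centralizer ({S.z} : Set G))
  intro h0
  obtain ⟨⟨k, hk⟩, f, hf, hind, hle⟩ := exists_sub hM hB hmax S.z_mem
  obtain ⟨φ, hφ, hφ0⟩ := CfsgLib.Blocks.exists_height_zero hM (p := 2) hB
  have h1 := cval_eq_subContrib hM hB hmax hf hle
    (card_inf_cent_central hM hB hmax S.z_mem_centralizer hf hle)
    (Characters.isClassFunction_of_isIrr χ.2) (Characters.isClassFunction_of_isIrr φ.2)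
  rw [cval_eq, sval_eq_zero_of_self h0 _, mul_zero] at h1
  exact BlocksCharsC.subContrib_ne_zero hM hB hind
    (blockDefect_sub hM hB hmax S.D_le_centralizer hf hle) hk hχ hφ hφ0 h1.symm

/-- The frame of the block. -/
theorem exists_frame {q : ℕ} (hq : h = 2 * (q + 1)) (hqc : q ≤ 1 ∨ 3 ≤ q) :
    ∃ T : Frame (IrrCharacter G) B.toFinset q,
      T.ht = fun χ : IrrCharacter G => Cfsg.blockHeight 2 B (χ : G → ℂ) := by
  haveI : Fact (Nat.Prime 2) := ⟨Nat.prime_two⟩
  obtain ⟨𝒞⟩ := exists_locData_KT hB hmax S hM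
  have hh := S.h_pos
  have hh2 := S.h_two_le
  set c := (reps S eP \ rots S).card with hc
  set Z : IrrCharacter G → ℤ := fun χ => 4 * (h : ℤ) - contrib 2 B χ χ - lev 𝒞 q χ -
    if Cfsg.blockHeight 2 B (χ : G → ℂ) = 0 then (h : ℤ) * c else 0 with hZ
  have hmem : ∀ {χ : IrrCharacter G}, χ ∈ B.toFinset → χ ∈ B := fun h => Set.mem_toFinset.1 h
  have hcast : ∀ χ ∈ B, (Z χ : ℂ) = 4 * h * sval 2 D eP S.z (χ : G → ℂ) χ := by
    intro χ hχ
    have h1 := sum_sval_split hM hB hmax 𝒞 hχ hχ
    rw [if_pos rfl, mul_one, sum_col_sq 𝒞 hq χ,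
      Finset.sum_congr (s₁ := reps S eP \ rots S) rfl (g := fun _ =>
        if Cfsg.blockHeight 2 B (χ : G → ℂ) = 0 then (4 : ℂ)⁻¹ else 0) fun r hr => by
        rw [Finset.mem_sdiff] at hr
        exact sval_other hM hB hmax 𝒞 hq hr.1 hr.2 hχ,
      Finset.sum_const, nsmul_eq_mul, ← hc] at h1
    simp only [hZ]
    split_ifs at h1 ⊢ <;> push_cast <;> linear_combination h1
  have hpow := pow_defect hM hB hmax S
  have hq' : (h : ℤ) = 2 * ((q : ℤ) + 1) := by exact_mod_cast hq
  have hi : ∀ i : Fin q, (i : ℕ) < q := fun i => i.2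
  refine ⟨{
    ht := fun χ : IrrCharacter G => Cfsg.blockHeight 2 B (χ : G → ℂ)
    A := contrib 2 B
    Z := Z
    N := Nv 𝒞 q
    x := xv 𝒞
    d := dv 𝒞
    q_cases := hqc
    k_ge := ?_
    zero_card := card_height_zero hM hB hmax 𝒞 hq
    N_sq := sum_Nv_sq hM hB hmax 𝒞 hq
    N_odd := fun χ hχ => Nv_odd hM hB hmax 𝒞 hq (hmem hχ)
    gram_xx := fun i j => ?_
    gram_xN := fun i => ?_
    gram_dd := fun i j => ?_
    Z_pos := fun χ hχ => ?_
    total := fun χ hχ => ?_
    mul := fun χ hχ χ' hχ' => ?_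
    symm := fun χ hχ ψ hψ => Contributions.contrib_symm (hmem hχ) (hmem hψ)
    exact_zero := fun χ hχ φ hφ h0 => by
      have := Contributions.not_dvd_of_height_zero (p := 2) hM hB (hmem hχ) (hmem hφ) h0
      exact_mod_cast this
    pow_dvd := fun χ hχ ψ _ => by
      have := (Contributions.height_spec (p := 2) hM (hmem hχ) ψ).1
      exact_mod_cast this
    diag_dvd := fun χ hχ h0 => by
      have := Contributions.dvd_of_height_pos (p := 2) hM hB (hmem hχ) (hmem hχ) h0
      exact_mod_cast this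
    ht_le := fun χ hχ => ?_
    high := fun χ hχ h0 _ hx hd => ⟨?_, ?_, fun i => ?_⟩ }, rfl⟩
  · have := card_block hM hB hmax S hq
    have h1 := BlockPairing.one_le_blockRank (p := 2) (CfsgLib.Blocks.isPBlock_nonempty hB)
    rw [Set.toFinset_card, ← Nat.card_eq_fintype_card]
    omega
  · have hi' := hi i
    have hj' := hi j
    simp only [xv, xd]
    rw [gram hM hB hmax 𝒞 hq _ _ _ _ (by omega) (by omega) (by omega) (by omega) (by omega)
      (by omega), delta_small (a := 2 * (i : ℕ) + 2) (b := 2 * (j : ℕ) + 2) (by omega) (by omega),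
      delta_small (a := 2 * (i : ℕ) + 2) (b := 0) (by omega) (by omega),
      delta_small (a := 0) (b := 2 * (j : ℕ) + 2) (by omega) (by omega), delta_zero,
      if_neg (show ¬ 2 * (i : ℕ) + 2 = 0 by omega), if_neg (show ¬ 0 = 2 * (j : ℕ) + 2 by omega)]
    simp only [Fin.ext_iff]
    split_ifs <;> omega
  · have hi' := hi i
    simp only [xv, xd, Nv, nd, ← hq]
    rw [gram hM hB hmax 𝒞 hq _ _ _ _ (by omega) (by omega) (by omega) (by omega) (by omega)
      (by omega), delta_small (a := 2 * (i : ℕ) + 2) (b := 0) (by omega) (by omega),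
      delta_small (a := 2 * (i : ℕ) + 2) (b := h) (by omega) (by omega),
      delta_small (a := 0) (b := h) (by omega) (by omega), delta_zero]
    rw [if_neg (show ¬ 2 * (i : ℕ) + 2 = 0 by omega), if_neg (show ¬ 2 * (i : ℕ) + 2 = h by omega),
      if_neg (show ¬ 0 = h by omega)]
    norm_num
  · have hi' := hi i
    have hj' := hi j
    simp only [dv, dd]
    rw [gram hM hB hmax 𝒞 hq _ _ _ _ (by omega) (by omega) (by omega) (by omega) (by omega)
      (by omega), delta_small (a := 2 * (i : ℕ) + 3) (b := 2 * (j : ℕ) + 3) (by omega) (by omega),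
      delta_small (a := 2 * (i : ℕ) + 3) (b := 1) (by omega) (by omega),
      delta_small (a := 1) (b := 2 * (j : ℕ) + 3) (by omega) (by omega),
      delta_small (a := 1) (b := 1) (by omega) (by omega),
      if_neg (show ¬ 2 * (i : ℕ) + 3 = 1 by omega), if_neg (show ¬ 1 = 2 * (j : ℕ) + 3 by omega),
      if_pos (show 1 = 1 from rfl)]
    simp only [Fin.ext_iff]
    split_ifs <;> omega
  · obtain ⟨t, ht0, ht, -⟩ := exists_sval_self (D := D) (eP := eP) S.z ((χ : G → ℂ))
    have htpos : 0 < t := lt_of_le_of_ne ht0 fun e => by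
      refine sval_z_ne_zero hM hB hmax S (hmem hχ) ?_
      rw [ht, ← e, Complex.ofReal_zero]
    have h1 : (Z χ : ℝ) = 4 * h * t := by
      refine Complex.ofReal_injective ?_
      push_cast
      rw [← ht]
      exact hcast χ (hmem hχ)
    have h2 : (0 : ℝ) < Z χ := by rw [h1]; positivity
    exact_mod_cast h2
  · refine ⟨?_, fun h0 => ?_⟩
    · simp only [hZ, lev]
      have : (0 : ℤ) ≤ (h : ℤ) * c := by positivity
      split_ifs <;> linarith
    · refine ⟨?_, ?_⟩
      · simp only [hZ, lev, if_neg h0]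
        linarith
      · have h4 : (4 : ℤ) ∣ contrib 2 B χ χ :=
          (show (4 : ℤ) ∣ ((2 : ℕ) : ℤ) ^ (Cfsg.blockHeight 2 B (χ : G → ℂ) + 1) by
            simpa using pow_dvd_pow (2 : ℤ) (show 2 ≤ Cfsg.blockHeight 2 B (χ : G → ℂ) + 1 by omega)).trans
            (Contributions.dvd_of_height_pos (p := 2) hM hB (hmem hχ) (hmem hχ) h0)
        simp only [hZ, lev, if_neg h0, sub_zero,
          Nv_eq_zero hM hB hmax 𝒞 hq (hmem hχ) h0, neg_zero]
        exact dvd_sub (dvd_sub (dvd_mul_right _ _) h4)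
          (dvd_add (four_dvd_qf _) (four_dvd_qf _))
  · refine Int.cast_injective (α := ℂ) ?_
    have hR := isReps_reps hB hmax S
    have h1 := TameBlocks.sum_sval_mul hM hB hmax hR (hmem hχ) (hmem hχ')
      (rots_subset_reps hB hmax S (one_mem_rots S)) (rots_subset_reps hB hmax S (one_mem_rots S))
    rw [if_pos rfl, ← Finset.sum_filter] at h1
    push_cast
    rw [show (8 : ℂ) * ((q : ℂ) + 1) = (Nat.card D : ℂ) by
        rw [S.card, hq]; push_cast; ring,
      ← card_mul_sval_one hM hB hmax (hmem hχ) (hmem hχ'), ← h1, Finset.mul_sum, Finset.mul_sum]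
    refine Finset.sum_congr (by ext; simp) fun ψ hψ => ?_
    have hψB : ψ ∈ B := (Finset.mem_filter.1 hψ).2
    rw [Contributions.contrib_symm (hmem hχ') hψB, ← card_mul_sval_one hM hB hmax (hmem hχ) hψB,
      ← card_mul_sval_one hM hB hmax hψB (hmem hχ')]
    ring
  · by_cases h0 : Cfsg.blockHeight 2 B (χ : G → ℂ) = 0
    · simp only [h0, pow_zero]
      omega
    · have h1 := Nat.pow_le_pow_right (show 0 < 2 by norm_num)
        (Contributions.height_add_two_le (p := 2) hM hB (hmem hχ) h0)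
      rw [hpow, pow_add] at h1
      rw [← hq]
      linarith
  · rw [← hq]
    exact h_dvd_pow hM hB hmax 𝒞 hq (hmem hχ) h0 hx hd
  · simp only [Nv, nd, ← hq]
    exact sum_contrib_mul_diff hM hB hmax 𝒞 hq (hmem hχ) (by omega) (by omega) (by omega)
  · have hi' := hi i
    exact sum_contrib_mul_diff hM hB hmax 𝒞 hq (hmem hχ) (by omega) (by omega) (by omega)

/-- Blocks with quaternion defect groups of order `4 * h`. -/
theorem quaternion_block :
    1 ≤ Cfsg.blockRank 2 B ∧ Cfsg.blockRank 2 B ≤ 3 ∧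
      Nat.card B = Cfsg.blockRank 2 B + h + 2 ∧
      Nat.card {χ : IrrCharacter G // χ ∈ B ∧ Cfsg.blockHeight 2 B (χ : G → ℂ) = 0} = 4 ∧
      (∀ χ ∈ B, Cfsg.blockHeight 2 B (χ : G → ℂ) = 0 ∨ Cfsg.blockHeight 2 B (χ : G → ℂ) = 1 ∨
        2 ^ Cfsg.blockHeight 2 B (χ : G → ℂ) = h) ∧
      (4 ≤ h →
        Nat.card {χ : IrrCharacter G // χ ∈ B ∧ Cfsg.blockHeight 2 B (χ : G → ℂ) = 1} = h - 1) := by
  haveI : Fact (Nat.Prime 2) := ⟨Nat.prime_two⟩
  obtain ⟨q, hq, hqc⟩ := exists_half S
  have hcard := card_block hM hB hmax S hq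
  obtain ⟨T, hT⟩ := exists_frame hM hB hmax S hq hqc
  obtain ⟨hht, hone, hle⟩ := T.main
  rw [Set.toFinset_card, ← Nat.card_eq_fintype_card] at hle
  have hsub : ∀ n : ℕ, Nat.card {χ : IrrCharacter G // χ ∈ B ∧ Cfsg.blockHeight 2 B (χ : G → ℂ) = n} =
      (B.toFinset.filter fun χ => T.ht χ = n).card := fun n => by
    rw [hT, Nat.card_eq_fintype_card, Fintype.card_subtype]
    exact congrArg Finset.card (by ext; simp)
  refine ⟨BlockPairing.one_le_blockRank (CfsgLib.Blocks.isPBlock_nonempty hB), by omega, hcard,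
    ?_, fun χ hχ => ?_, fun h4 => ?_⟩
  · rw [hsub]
    exact T.zero_card
  · have := hht χ (Set.mem_toFinset.2 hχ)
    rw [hT, ← hq] at this
    exact this
  · rw [hsub, hone (by omega)]
    omega

end CfsgLib.TameSQ
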