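import Cfsg.Agent.TameSQ.Quotient

/-!
# Reduction to the centralizer of the involution

Elements of `D` of order at least two are fused below the maximal pair only inside `C(z)`, where the
block below has the same maximal pair; its rank is the trace at `z`.
-/

set_option autoImplicit false
set_option linter.unusedSectionVars false
set_option linter.style.haveILetI false

namespace CfsgLib.TameSQ

open Cfsg CfsgLib.BlockPairs CfsgLib.Star
open CfsgLib.Blocks (Res)
open CfsgLib.TameBlocks (Fused IsReps sval)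
open scoped ComplexConjugate Classical

universe u

variable {G : Type u} [Group G] [Fintype G] {M : Ideal AlgInt} [M.IsPrime]
  [CharP (Res M) 2] [IsAlgClosed (Res M)]

/-- A block of a subgroup with its maximal pair as one of the subgroup as a group. -/
theorem exists_local {K P : Subgroup G} {e eP : GA (Res M) G} (he : IsBlock K e)
    (hmax : IsMaxPair 2 K e P eP) :
    ∃ (b : Set (IrrCharacter K)) (eP' : GA (Res M) K), Cfsg.IsPBlock M b ∧
      sblk M K b = e ∧ emb K.subtype eP' = eP ∧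
      IsMaxPair 2 ⊤ (gblk M b) (P.subgroupOf K) eP' := by
  haveI : Fact (Nat.Prime 2) := ⟨Nat.prime_two⟩
  haveI := Fintype.ofFinite K
  have hinj := K.subtype_injective
  have hPK : P ≤ K := hmax.1.1.1
  have hPm : (P.subgroupOf K).map K.subtype = P := Subgroup.map_subgroupOf_eq_of_le hPK
  have htop : (⊤ : Subgroup K).map K.subtype = K := by
    rw [← MonoidHom.range_eq_map, K.range_subtype]
  obtain ⟨b, hb, rfl⟩ := exists_eq_sblk (M := M) he
  obtain ⟨eP', he'⟩ := exists_emb_of_isSupp (φ := K.subtype) hinj (z := eP)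
    (hmax.1.1.2.2.supp.mono (by rw [K.range_subtype]; exact inf_le_left))
  have hbh : BlockHas 2 ⊤ (gblk M b) (P.subgroupOf K) eP' := by
    refine (blockHas_map_iff (φ := K.subtype) hinj).1 ?_
    rw [htop, hPm, he', InertialQuotient.emb_gblk]
    exact hmax.1
  have hd : IsDefectGrp 2 ⊤ (gblk M b) (P.subgroupOf K) := by
    rw [← isDefectGroup_gblk_iff hb, isDefectGroup_subgroupOf_iff hb hPK]
    exact (hmax.isDefectGrp he).1
  exact ⟨b, eP', hb, rfl, he', isMaxPair_of_defect hd hbh⟩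

/-- The block below at an element whose centralizer lies in the subgroup. -/
theorem below_sub {B : Set (IrrCharacter G)} {D : Subgroup G} {eP : GA (Res M) G}
    (hmax : IsMaxPair 2 (⊤ : Subgroup G) (gblk M B) D eP) {K : Subgroup G} [Fintype K] (hDK : D ≤ K)
    {b : Set (IrrCharacter K)} {e' : GA (Res M) K} (he : emb K.subtype e' = eP)
    (hm : IsMaxPair 2 ⊤ (gblk M b) (D.subgroupOf K) e') {r : ↥K} (hr : r ∈ D.subgroupOf K)
    (hC : Subgroup.centralizer ({(r : G)} : Set G) ≤ K) :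
    below 2 D eP (Subgroup.zpowers (r : G)) =
      emb K.subtype (below 2 (D.subgroupOf K) e' (Subgroup.zpowers r)) := by
  haveI : Fact (Nat.Prime 2) := ⟨Nat.prime_two⟩
  have h := Le.map (φ := K.subtype) K.subtype_injective (le_below hm hr)
  rw [← MonoidHom.range_eq_map, K.range_subtype, MonoidHom.map_zpowers,
    Subgroup.map_subgroupOf_eq_of_le hDK, he] at h
  refine below_eq hmax (h.to_top (Q := Subgroup.zpowers (r : G)) ?_ le_rfl)
  rwa [← top_inf_eq (Subgroup.centralizer _), ← cent, Star.cent_zpowers]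

/-- Fusion through the blocks below. -/
theorem fused_iff {B : Set (IrrCharacter G)} {D : Subgroup G} {eP : GA (Res M) G}
    (hmax : IsMaxPair 2 (⊤ : Subgroup G) (gblk M B) D eP) {w v : G} :
    Fused 2 D eP w v ↔ w ∈ D ∧ v ∈ D ∧ ∃ g : G, g * w * g⁻¹ = v ∧
      conjA (Res M) g (below 2 D eP (Subgroup.zpowers w)) =
        below 2 D eP (Subgroup.zpowers v) := by
  haveI : Fact (Nat.Prime 2) := ⟨Nat.prime_two⟩
  constructor
  · intro hf
    have h1 := hf.mem_left
    have h2 := hf.mem_right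
    obtain ⟨g, hg, rfl⟩ := hf
    refine ⟨h1, h2, g, rfl, (below_eq hmax ?_).symm⟩
    have h3 := (mor_iff (le_below hmax h1)).1 hg
    rwa [Star.cj_zpowers] at h3
  · rintro ⟨hw, hv, g, rfl, he⟩
    refine ⟨g, (mor_iff (le_below hmax hw)).2 ?_, rfl⟩
    rw [Star.cj_zpowers, he]
    exact le_below hmax hv

variable (hM : Cfsg.IsPModular 2 M) {B : Set (IrrCharacter G)} (hB : Cfsg.IsPBlock M B)
  {D : Subgroup G} {eP : GA (Res M) G} (hmax : IsMaxPair 2 (⊤ : Subgroup G) (gblk M B) D eP)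
  {h : ℕ} (S : QShape D h) {q : ℕ} (hq : h = 2 * (q + 1))

include S in
theorem z_mem_zpowers_of_mem {w : G} (hw : w ∈ D) (h1 : w ≠ 1) : S.z ∈ Subgroup.zpowers w := by
  by_cases hσ : w ∈ Subgroup.zpowers S.σ
  · by_cases hz : w = S.z
    · exact hz ▸ Subgroup.mem_zpowers w
    · exact S.w_mul_w ▸ mul_mem (S.w_mem_zpowers_rot hσ h1 hz) (S.w_mem_zpowers_rot hσ h1 hz)
  · exact S.refl_sq hw hσ ▸ mul_mem (Subgroup.mem_zpowers w) (Subgroup.mem_zpowers w)

include S in
theorem centralizer_le_z {w : G} (hw : w ∈ D) (h1 : w ≠ 1) :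
    Subgroup.centralizer ({w} : Set G) ≤ Subgroup.centralizer ({S.z} : Set G) := fun g hg => by
  obtain ⟨k, hk⟩ := z_mem_zpowers_of_mem S hw h1
  rw [Subgroup.mem_centralizer_singleton_iff] at hg ⊢
  rw [← hk]
  exact (Commute.zpow_right hg k).eq

include hM hB hmax hq

/-- The ranks at `z` and at the representatives outside the rotations add up to three. -/
theorem exists_lz : ∃ lz : ℕ,
    ∑ χ : IrrCharacter G, (if χ ∈ B then sval 2 D eP S.z (χ : G → ℂ) χ else 0) = (lz : ℂ) ∧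
      lz + (reps S eP \ rots S).card = 3 := by
  haveI : Fact (Nat.Prime 2) := ⟨Nat.prime_two⟩
  set K := Subgroup.centralizer ({S.z} : Set G) with hKdef
  haveI := Fintype.ofFinite ↥K
  letI : DecidableEq ↥K := Classical.decEq _
  have hDK : D ≤ K := S.D_le_centralizer
  have hblk := mem_blocks.1 (below_mem_blocks hmax S.z_mem)
  have hmK := Star.isMaxPair_central hB hmax S.z_mem S.z_mem_centralizer
  rw [Star.cent_zpowers] at hblk hmK
  obtain ⟨b, e', hb, hsb, he, hm⟩ := exists_local hblk hmK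
  refine ⟨Cfsg.blockRank 2 b, TameBlocks.sum_sval_self hM hB hmax S.z_mem hb hsb.symm, ?_⟩
  set S' := S.restrict hDK with hS'
  have hSz : (S'.z : G) = S.z := by simp [QShape.z, hS', QShape.restrict]
  have hz' : ∀ g : ↥K, Commute g S'.z := fun g => Subtype.ext (by
    show (g : G) * (S'.z : G) = (S'.z : G) * (g : G)
    rw [hSz]
    exact Subgroup.mem_centralizer_singleton_iff.1 g.2)
  obtain ⟨𝒞'⟩ := exists_locData_KT hb hm S' hM
  rw [← rank_add_others hM hb hm 𝒞' hq hz']
  congr 1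
  -- the classes agree
  have hR := isReps_reps hB hmax S
  have hR' := isReps_reps hb hm S'
  have hne : ∀ {x : ↥K}, x ≠ 1 → (x : G) ≠ 1 := fun {x} hx e => hx (Subtype.ext e)
  have hbel : ∀ x : ↥K, x ∈ D.subgroupOf K → x ≠ 1 →
      below 2 D eP (Subgroup.zpowers (x : G)) =
        emb K.subtype (below 2 (D.subgroupOf K) e' (Subgroup.zpowers x)) := fun x hx hx1 =>
    below_sub hmax hDK he hm hx (centralizer_le_z S hx (hne hx1))
  have hfus : ∀ x y : ↥K, x ∈ D.subgroupOf K → y ∈ D.subgroupOf K → x ≠ 1 →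
      (Fused 2 (D.subgroupOf K) e' x y ↔ Fused 2 D eP (x : G) (y : G)) := by
    intro x y hx hy hx1
    rw [fused_iff hmax, fused_iff hm]
    constructor
    · rintro ⟨-, -, g, hg, hge⟩
      have hy1 : y ≠ 1 := fun e => hx1 (conj_eq_one_iff.1 (hg.trans e))
      refine ⟨hx, hy, g, congrArg Subtype.val hg, ?_⟩
      rw [hbel x hx hx1, hbel y hy hy1, ← hge, ← conjA_emb K.subtype_injective]
      rfl
    · rintro ⟨-, -, g, hg, hge⟩
      have hy1 : y ≠ 1 := fun e => hne hx1 (conj_eq_one_iff.1 (hg.trans (by rw [e]; rfl)))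
      have hgK : g ∈ K := by
        obtain ⟨j, hj⟩ := z_mem_zpowers_of_mem S hx (hne hx1)
        have hgz : g * S.z * g⁻¹ ∈ D := by
          rw [← show (x : G) ^ j = S.z from hj, ← _root_.conj_zpow, hg]
          exact zpow_mem (show (y : G) ∈ D from hy) j
        rcases S.eq_one_or_z_of_mem hgz (by
          rw [show g * S.z * g⁻¹ * (g * S.z * g⁻¹) = g * (S.z * S.z) * g⁻¹ by group, S.z_mul_z,
            mul_one, mul_inv_cancel]) with e | e
        · exact absurd (conj_eq_one_iff.1 e) S.z_ne_one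
        · exact Subgroup.mem_centralizer_singleton_iff.2 (mul_inv_eq_iff_eq_mul.1 e)
      refine ⟨hx, hy, ⟨g, hgK⟩, Subtype.ext hg, emb_injective K.subtype_injective ?_⟩
      rw [← conjA_emb K.subtype_injective, ← hbel x hx hx1, ← hbel y hy hy1]
      exact hge
  have hrots : ∀ x : ↥K, x ∈ rots S' ↔ (x : G) ∈ rots S := fun x => by
    rw [mem_rots, mem_rots]
    refine exists_congr fun a => and_congr_right fun _ => ?_
    rw [Subtype.ext_iff]
    simp [hS', QShape.restrict]
  have hnot : ∀ {r : G}, r ∈ reps S eP \ rots S → r ∈ D ∧ r ≠ 1 := fun {r} hr =>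
    ⟨hR.1 r (Finset.mem_sdiff.1 hr).1, fun e => (Finset.mem_sdiff.1 hr).2 (e ▸ one_mem_rots S)⟩
  choose c hc _ using fun (r : G) (hr : r ∈ D) => hR'.2 ⟨r, hDK hr⟩ hr
  refine Finset.card_bij (fun r hr => c r (hnot hr).1) (fun r hr => ?_) (fun r hr r' hr' e => ?_)
    fun x hx => ?_
  · obtain ⟨h1, h2⟩ := hc r (hnot hr).1
    rw [Finset.mem_sdiff]
    refine ⟨h1, fun hrot => ?_⟩
    obtain ⟨hr1, hr2⟩ := Finset.mem_sdiff.1 hr
    have hf := (hfus ⟨r, hDK (hnot hr).1⟩ _ (hnot hr).1 h2.mem_right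
      (fun e => (hnot hr).2 (congrArg Subtype.val e))).1 h2
    exact not_fused_of_reps hB hmax S hr1 hr2 (mem_zpowers_of_mem_rots S ((hrots _).1 hrot)) hf
  · obtain ⟨-, h2⟩ := hc r (hnot hr).1
    obtain ⟨-, h2'⟩ := hc r' (hnot hr').1
    have hf := (hfus ⟨r, hDK (hnot hr).1⟩ ⟨r', hDK (hnot hr').1⟩ (hnot hr).1 (hnot hr').1
      (fun e => (hnot hr).2 (congrArg Subtype.val e))).1 ((e ▸ h2).trans hm.1.1 h2'.symm)
    exact hR.eq_of_fused hmax.1.1 (Finset.mem_sdiff.1 hr).1 (Finset.mem_sdiff.1 hr').1 hf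
  · rw [Finset.mem_sdiff] at hx
    obtain ⟨hx1, hx2⟩ := hx
    have hxD := hR'.1 x hx1
    obtain ⟨r, ⟨hr, hf⟩, -⟩ := hR.2 (x : G) hxD
    have hxne : x ≠ 1 := fun e => hx2 (e ▸ one_mem_rots S')
    have hrn : r ∉ rots S := fun hrot => by
      obtain ⟨a, ha, rfl⟩ := (mem_rots S).1 hrot
      refine not_fused_of_reps hb hm S' hx1 hx2 (v := S'.σ ^ a) (S'.pow_mem_zpowers a) ?_
      refine (hfus x _ hxD (S'.zpowers_le (S'.pow_mem_zpowers a)) hxne).2 ?_
      simpa [hS', QShape.restrict] using hf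
    have hrm : r ∈ reps S eP \ rots S := Finset.mem_sdiff.2 ⟨hr, hrn⟩
    obtain ⟨h1, h2⟩ := hc r (hnot hrm).1
    refine ⟨r, hrm, hR'.eq_of_fused hm.1.1 h1 hx1 (h2.symm.trans hm.1.1 ?_)⟩
    exact ((hfus x ⟨r, hDK (hnot hrm).1⟩ hxD (hnot hrm).1 hxne).2 hf).symm

end CfsgLib.TameSQ
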