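import Cfsg.Agent.TameSQ.SDHigh
import Cfsg.Agent.TameSQ.Reduce
import Cfsg.Agent.TameSQ.Main

/-!
# Blocks with semidihedral defect groups

The count by representatives is `k = l + lz + (h - 1) + c`; the frame gives the heights.  In the
centralizer of `z` this yields `lz + c₄ = 2`; then at most one member has height above one.
-/

set_option autoImplicit false
set_option linter.unusedSectionVars false
set_option linter.style.haveILetI false

namespace CfsgLib.TameSD

open Cfsg CfsgLib.BlockPairs CfsgLib.Star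
open CfsgLib.Blocks (Res)
open CfsgLib.TameBlocks (Fused IsReps sval)
open CfsgLib.Contributions (contrib)
open CfsgLib.TameSQ (Frame qf qf_nonneg qf_ne LocData delta_small delta_zero four_dvd_qf
  exists_sval_self sval_eq_zero_of_self cval_eq card_mul_sval_one exists_local below_sub fused_iff
  sval_central central_value rset mem_rset)
open scoped ComplexConjugate Classical

universe u

variable {G : Type u} [Group G] [Fintype G] {M : Ideal AlgInt} [M.IsPrime]
  [CharP (Res M) 2] [IsAlgClosed (Res M)] (hM : Cfsg.IsPModular 2 M)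
  {B : Set (IrrCharacter G)} (hB : Cfsg.IsPBlock M B)
  {D : Subgroup G} {eP : GA (Res M) G} (hmax : IsMaxPair 2 (⊤ : Subgroup G) (gblk M B) D eP)
  {h : ℕ} (S : SDShape D h)

include S in
omit [CharP (Res M) 2] [IsAlgClosed (Res M)] in
theorem exists_half : ∃ q, h = 2 * (q + 1) ∧ 1 ≤ q ∧ (q ≤ 1 ∨ 3 ≤ q) := by
  obtain ⟨e, he, rfl⟩ := S.two_pow
  have h2 := Nat.pow_le_pow_right (show 0 < 2 by norm_num) (show 1 ≤ e - 1 by omega)
  refine ⟨2 ^ (e - 1) - 1, ?_, by omega, ?_⟩
  · rw [Nat.sub_add_cancel Nat.one_le_two_pow, ← pow_succ']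
    congr 1
    omega
  · rcases Nat.lt_or_ge e 3 with h3 | h3
    · interval_cases e; simp
    · have := Nat.pow_le_pow_right (show 0 < 2 by norm_num) (show 2 ≤ e - 1 by omega)
      omega

include S in
theorem others_eq : reps S eP \ rots S = two S eP ∪ four S eP := by
  ext r
  rw [Finset.mem_sdiff, mem_reps, Finset.mem_union]
  exact ⟨fun ⟨h1, h2⟩ => h1.resolve_left h2, fun h1 => ⟨Or.inr h1, not_mem_rots_other S h1⟩⟩

include S in
theorem card_others :
    (reps S eP \ rots S).card = (two S eP).card + (four S eP).card := by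
  rw [others_eq, Finset.card_union_of_disjoint]
  rw [Finset.disjoint_left]
  intro r h1 h2
  have e1 := ((mem_two S).1 h1).1
  have e2 := ((mem_four S).1 h2).1
  have h3 := S.f_sq
  rw [← e2, e1, S.τ_sq] at h3
  exact S.z_ne_one h3.symm

include hM hB hmax S

/-- The number of members. -/
theorem card_block : ∃ lz : ℕ, 1 ≤ lz ∧
    ∑ χ : IrrCharacter G, (if χ ∈ B then sval 2 D eP S.z (χ : G → ℂ) χ else 0) = (lz : ℂ) ∧
      Nat.card B = Cfsg.blockRank 2 B + lz + (h - 1) + (reps S eP \ rots S).card := by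
  haveI : Fact (Nat.Prime 2) := ⟨Nat.prime_two⟩
  have hR := isReps_reps hB hmax S
  obtain ⟨𝒞⟩ := exists_locData_KT hB hmax S hM
  choose! l hl1 hl using fun r (hr : r ∈ reps S eP) =>
    TameBlocks.exists_rank hM hB hmax (hR.1 r hr)
  have hsub : rots S ⊆ reps S eP := rots_subset_reps S
  refine ⟨l S.z, hl1 _ (hsub (z_mem_rots S)), hl _ (hsub (z_mem_rots S)), ?_⟩
  rw [TameBlocks.card_eq_sum_rank hM hB hmax hR hl, ← Finset.sum_sdiff hsub,
    Finset.sum_congr rfl (g := fun _ => 1) fun r hr => ?_, Finset.sum_const, smul_eq_mul, mul_one]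
  · have h1 : l 1 = Cfsg.blockRank 2 B := by
      have := (hl 1 (hsub (one_mem_rots S))).symm.trans (TameBlocks.sum_sval_one hM hB hmax)
      exact_mod_cast this
    have ha : ∀ a ∈ lo h, l (S.σ ^ a) = 1 := fun a ha => by
      obtain ⟨ha', hlt⟩ := mem_lo.1 ha
      have hhalf : a ∈ half h := mem_half.2 ⟨(mem_rset.1 ha').1, hlt.le⟩
      have := (hl _ (hsub ((mem_rots S).2 ⟨a, hhalf, rfl⟩))).symm.trans
        (trace_rot hM hB hmax 𝒞 ha' hhalf)
      exact_mod_cast this
    have hrots : ∑ r ∈ rots S, l r = Cfsg.blockRank 2 B + l S.z + (h - 1) := by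
      have hhalf : half h = insert 0 (insert h (lo h)) := by
        ext a
        simp only [mem_half, Finset.mem_insert, mem_lo, mem_rset]
        have := S.h_pos
        constructor
        · rintro ⟨h1, h2⟩
          by_cases h0 : a = 0
          · exact Or.inl h0
          by_cases ha : a = h
          · exact Or.inr (Or.inl ha)
          · exact Or.inr (Or.inr ⟨⟨h1, h0, ha⟩, lt_of_le_of_ne h2 (S.iota_ne h1 h0 ha).symm⟩)
        · rintro (rfl | rfl | ⟨⟨h1, -⟩, h2⟩)
          · exact ⟨by omega, Nat.zero_le _⟩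
          · exact ⟨by omega, S.iota_h.ge⟩
          · exact ⟨h1, h2.le⟩
      rw [rots, Finset.sum_image fun a ha b hb e =>
          S.sigma_pow_inj (mem_half.1 ha).1 (mem_half.1 hb).1 e,
        hhalf, Finset.sum_insert (by
          rw [Finset.mem_insert, not_or]
          exact ⟨S.h_pos.ne, fun hm => (mem_rset.1 (mem_lo.1 hm).1).2.1 rfl⟩),
        Finset.sum_insert (fun hm => (mem_rset.1 (mem_lo.1 hm).1).2.2 rfl), pow_zero, h1,
        show S.σ ^ h = S.z from rfl, Finset.sum_congr rfl ha, Finset.sum_const, smul_eq_mul,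
        mul_one, card_lo S.four_dvd S.h_pos]
      omega
    rw [hrots]
    omega
  · rw [others_eq, Finset.mem_union] at hr
    have hr' : r ∈ reps S eP := (mem_reps S).2 (Or.inr hr)
    have := (hl r hr').symm.trans (trace_other hB hmax S hM hr)
    exact_mod_cast this

/-- The contribution at the involution has positive diagonal. -/
theorem sval_z_ne_zero {χ : IrrCharacter G} (hχ : χ ∈ B) :
    sval 2 D eP S.z (χ : G → ℂ) χ ≠ 0 := by
  haveI : Fact (Nat.Prime 2) := ⟨Nat.prime_two⟩
  haveI := Fintype.ofFinite ↥(Subgroup.centralizer ({S.z} : Set G))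
  intro h0
  obtain ⟨⟨k, hk⟩, f, hf, hind, hle⟩ := exists_sub hM hB hmax S.z_mem
  obtain ⟨φ, hφ, hφ0⟩ := CfsgLib.Blocks.exists_height_zero hM (p := 2) hB
  have h1 := cval_eq_subContrib hM hB hmax hf hle
    (card_inf_cent_central hM hB hmax S.z_mem_centralizer hf hle)
    (Characters.isClassFunction_of_isIrr χ.2) (Characters.isClassFunction_of_isIrr φ.2)
  rw [cval_eq, sval_eq_zero_of_self h0 _, mul_zero] at h1
  exact BlocksCharsC.subContrib_ne_zero hM hB hind
    (blockDefect_sub hM hB hmax S.D_le_centralizer hf hle) hk hχ hφ hφ0 h1.symm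

/-- The frame of the block, with the identities at the four and at `z`. -/
theorem exists_frame {q : ℕ} (hq : h = 2 * (q + 1)) (hqc : q ≤ 1 ∨ 3 ≤ q) {lz : ℕ}
    (hk : Nat.card B = Cfsg.blockRank 2 B + lz + (h - 1) + (reps S eP \ rots S).card)
    (hle : 3 ≤ Cfsg.blockRank 2 B + lz + (reps S eP \ rots S).card) :
    ∃ T : Frame (IrrCharacter G) B.toFinset q,
      T.ht = (fun χ : IrrCharacter G => Cfsg.blockHeight 2 B (χ : G → ℂ)) ∧
      (∀ χ ∈ B, (T.Z χ : ℂ) = 4 * h * sval 2 D eP S.z (χ : G → ℂ) χ) ∧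
      ∀ φ ∈ B, T.ht φ = 0 → T.A φ φ + T.Z φ + qf 0 (-T.N φ) (T.x φ) + qf 0 0 (T.d φ) =
        4 * (h : ℤ) - h * (reps S eP \ rots S).card := by
  haveI : Fact (Nat.Prime 2) := ⟨Nat.prime_two⟩
  obtain ⟨𝒞⟩ := exists_locData_KT hB hmax S hM
  have hh := S.h_pos
  set c := (reps S eP \ rots S).card with hc
  set Z : IrrCharacter G → ℤ := fun χ => 4 * (h : ℤ) - contrib 2 B χ χ - lev 𝒞 q χ -
    if Cfsg.blockHeight 2 B (χ : G → ℂ) = 0 then (h : ℤ) * c else 0 with hZ
  have hmem : ∀ {χ : IrrCharacter G}, χ ∈ B.toFinset → χ ∈ B := fun h => Set.mem_toFinset.1 h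
  have hcast : ∀ χ ∈ B, (Z χ : ℂ) = 4 * h * sval 2 D eP S.z (χ : G → ℂ) χ := by
    intro χ hχ
    have h1 := sum_sval_split hM hB hmax 𝒞 hχ
    rw [sum_col_sq 𝒞 hq χ,
      Finset.sum_congr (s₁ := reps S eP \ rots S) rfl (g := fun _ =>
        if Cfsg.blockHeight 2 B (χ : G → ℂ) = 0 then (4 : ℂ)⁻¹ else 0) fun r hr => by
        rw [others_eq, Finset.mem_union] at hr
        exact sval_other hM hB hmax 𝒞 hq hr hχ,
      Finset.sum_const, nsmul_eq_mul, ← hc] at h1
    simp only [hZ]
    split_ifs at h1 ⊢ <;> push_cast <;> linear_combination h1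
  have hpow := pow_defect hM hB hmax S
  have hq' : (h : ℤ) = 2 * ((q : ℤ) + 1) := by exact_mod_cast hq
  have hi : ∀ i : Fin q, (i : ℕ) < q := fun i => i.2
  refine ⟨{
    ht := fun χ : IrrCharacter G => Cfsg.blockHeight 2 B (χ : G → ℂ)
    A := contrib 2 B
    Z := Z
    N := Nv 𝒞 q
    x := xv 𝒞
    d := dv 𝒞
    q_cases := hqc
    k_ge := ?_
    zero_card := card_height_zero hM hB hmax 𝒞 hq
    N_sq := sum_Nv_sq hM hB hmax 𝒞 hq
    N_odd := fun χ hχ => Nv_odd hM hB hmax 𝒞 hq (hmem hχ)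
    gram_xx := fun i j => ?_
    gram_xN := fun i => ?_
    gram_dd := fun i j => ?_
    Z_pos := fun χ hχ => ?_
    total := fun χ hχ => ?_
    mul := fun χ hχ χ' hχ' => ?_
    symm := fun χ hχ ψ hψ => Contributions.contrib_symm (hmem hχ) (hmem hψ)
    exact_zero := fun χ hχ φ hφ h0 => by
      have := Contributions.not_dvd_of_height_zero (p := 2) hM hB (hmem hχ) (hmem hφ) h0
      exact_mod_cast this
    pow_dvd := fun χ hχ ψ _ => by
      have := (Contributions.height_spec (p := 2) hM (hmem hχ) ψ).1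
      exact_mod_cast this
    diag_dvd := fun χ hχ h0 => by
      have := Contributions.dvd_of_height_pos (p := 2) hM hB (hmem hχ) (hmem hχ) h0
      exact_mod_cast this
    ht_le := fun χ hχ => ?_
    high := fun χ hχ h0 _ hx hd => ⟨?_, ?_, fun i => ?_⟩ }, rfl, hcast, fun φ _ h0 => ?_⟩
  · rw [Set.toFinset_card, ← Nat.card_eq_fintype_card]
    omega
  · have hi' := hi i
    have hj' := hi j
    simp only [xv, TameSQ.xd]
    rw [gram hM hB hmax 𝒞 hq _ _ _ _ (by omega) (by omega) (by omega) (by omega) (by omega)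
      (by omega), delta_small (a := 2 * (i : ℕ) + 2) (b := 2 * (j : ℕ) + 2) (by omega) (by omega),
      delta_small (a := 2 * (i : ℕ) + 2) (b := 0) (by omega) (by omega),
      delta_small (a := 0) (b := 2 * (j : ℕ) + 2) (by omega) (by omega), delta_zero,
      if_neg (show ¬ 2 * (i : ℕ) + 2 = 0 by omega), if_neg (show ¬ 0 = 2 * (j : ℕ) + 2 by omega)]
    simp only [Fin.ext_iff]
    split_ifs <;> omega
  · have hi' := hi i
    simp only [xv, TameSQ.xd, Nv, TameSQ.nd, ← hq]
    rw [gram hM hB hmax 𝒞 hq _ _ _ _ (by omega) (by omega) (by omega) (by omega) (by omega)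
      (by omega), delta_small (a := 2 * (i : ℕ) + 2) (b := 0) (by omega) (by omega),
      delta_small (a := 2 * (i : ℕ) + 2) (b := h) (by omega) (by omega),
      delta_small (a := 0) (b := h) (by omega) (by omega), delta_zero]
    rw [if_neg (show ¬ 2 * (i : ℕ) + 2 = 0 by omega), if_neg (show ¬ 2 * (i : ℕ) + 2 = h by omega),
      if_neg (show ¬ 0 = h by omega)]
    norm_num
  · have hi' := hi i
    have hj' := hi j
    simp only [dv, TameSQ.dd]
    rw [gram hM hB hmax 𝒞 hq _ _ _ _ (by omega) (by omega) (by omega) (by omega) (by omega)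
      (by omega), delta_small (a := 2 * (i : ℕ) + 3) (b := 2 * (j : ℕ) + 3) (by omega) (by omega),
      delta_small (a := 2 * (i : ℕ) + 3) (b := 1) (by omega) (by omega),
      delta_small (a := 1) (b := 2 * (j : ℕ) + 3) (by omega) (by omega),
      delta_small (a := 1) (b := 1) (by omega) (by omega),
      if_neg (show ¬ 2 * (i : ℕ) + 3 = 1 by omega), if_neg (show ¬ 1 = 2 * (j : ℕ) + 3 by omega),
      if_pos (show 1 = 1 from rfl)]
    simp only [Fin.ext_iff]
    split_ifs <;> omega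
  · obtain ⟨t, ht0, ht, -⟩ := exists_sval_self (D := D) (eP := eP) S.z ((χ : G → ℂ))
    have htpos : 0 < t := lt_of_le_of_ne ht0 fun e => by
      refine sval_z_ne_zero hM hB hmax S (hmem hχ) ?_
      rw [ht, ← e, Complex.ofReal_zero]
    have h1 : (Z χ : ℝ) = 4 * h * t := by
      refine Complex.ofReal_injective ?_
      push_cast
      rw [← ht]
      exact hcast χ (hmem hχ)
    have h2 : (0 : ℝ) < Z χ := by rw [h1]; positivity
    exact_mod_cast h2
  · refine ⟨?_, fun h0 => ?_⟩
    · simp only [hZ, lev]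
      have : (0 : ℤ) ≤ (h : ℤ) * c := by positivity
      split_ifs <;> linarith
    · refine ⟨?_, ?_⟩
      · simp only [hZ, lev, if_neg h0]
        linarith
      · have h4 : (4 : ℤ) ∣ contrib 2 B χ χ :=
          (show (4 : ℤ) ∣ ((2 : ℕ) : ℤ) ^ (Cfsg.blockHeight 2 B (χ : G → ℂ) + 1) by
            simpa using pow_dvd_pow (2 : ℤ) (show 2 ≤ Cfsg.blockHeight 2 B (χ : G → ℂ) + 1 by omega)).trans
            (Contributions.dvd_of_height_pos (p := 2) hM hB (hmem hχ) (hmem hχ) h0)
        simp only [hZ, lev, if_neg h0, sub_zero,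
          Nv_eq_zero hM hB hmax 𝒞 hq (hmem hχ) h0, neg_zero]
        exact dvd_sub (dvd_sub (dvd_mul_right _ _) h4)
          (dvd_add (four_dvd_qf _) (four_dvd_qf _))
  · refine Int.cast_injective (α := ℂ) ?_
    have hR := isReps_reps hB hmax S
    have h1 := TameBlocks.sum_sval_mul hM hB hmax hR (hmem hχ) (hmem hχ')
      (rots_subset_reps S (one_mem_rots S)) (rots_subset_reps S (one_mem_rots S))
    rw [if_pos rfl, ← Finset.sum_filter] at h1
    push_cast
    rw [show (8 : ℂ) * ((q : ℂ) + 1) = (Nat.card D : ℂ) by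
        rw [S.card, hq]; push_cast; ring,
      ← card_mul_sval_one hM hB hmax (hmem hχ) (hmem hχ'), ← h1, Finset.mul_sum, Finset.mul_sum]
    refine Finset.sum_congr (by ext; simp) fun ψ hψ => ?_
    have hψB : ψ ∈ B := (Finset.mem_filter.1 hψ).2
    rw [Contributions.contrib_symm (hmem hχ') hψB, ← card_mul_sval_one hM hB hmax (hmem hχ) hψB,
      ← card_mul_sval_one hM hB hmax hψB (hmem hχ')]
    ring
  · by_cases h0 : Cfsg.blockHeight 2 B (χ : G → ℂ) = 0
    · simp only [h0, pow_zero]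
      omega
    · have h1 := Nat.pow_le_pow_right (show 0 < 2 by norm_num)
        (Contributions.height_add_two_le (p := 2) hM hB (hmem hχ) h0)
      rw [hpow, pow_add] at h1
      rw [← hq]
      linarith
  · rw [← hq]
    exact h_dvd_pow hM hB hmax 𝒞 hq (hmem hχ) h0 hx hd
  · simp only [Nv, TameSQ.nd, ← hq]
    exact sum_contrib_mul_diff hM hB hmax 𝒞 hq (hmem hχ) (by omega) (by omega) (by omega)
  · have hi' := hi i
    exact sum_contrib_mul_diff hM hB hmax 𝒞 hq (hmem hχ) (by omega) (by omega) (by omega)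
  · simp only at h0 ⊢
    simp only [hZ, lev, if_pos h0]
    ring

/-- What the frame says. -/
theorem frame_facts {lz : ℕ}
    (hk : Nat.card B = Cfsg.blockRank 2 B + lz + (h - 1) + (reps S eP \ rots S).card)
    (hle : 3 ≤ Cfsg.blockRank 2 B + lz + (reps S eP \ rots S).card) :
    (∀ χ ∈ B, Cfsg.blockHeight 2 B (χ : G → ℂ) = 0 ∨ Cfsg.blockHeight 2 B (χ : G → ℂ) = 1 ∨
        2 ^ Cfsg.blockHeight 2 B (χ : G → ℂ) = h) ∧
      Nat.card {χ : IrrCharacter G // χ ∈ B ∧ Cfsg.blockHeight 2 B (χ : G → ℂ) = 0} = 4 ∧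
      Nat.card {χ : IrrCharacter G // χ ∈ B ∧ Cfsg.blockHeight 2 B (χ : G → ℂ) = 1} = h - 1 ∧
      h + 3 ≤ Nat.card B ∧ Nat.card B ≤ h + 5 ∧
      ((reps S eP \ rots S).card = 2 → Nat.card B = h + 3) := by
  haveI : Fact (Nat.Prime 2) := ⟨Nat.prime_two⟩
  obtain ⟨q, hq, hq1, hqc⟩ := exists_half S
  obtain ⟨T, hT, -, hfour⟩ := exists_frame hM hB hmax S hq hqc hk hle
  obtain ⟨hht, hone, hle'⟩ := T.main
  have hcard : B.toFinset.card = Nat.card B := by
    rw [Set.toFinset_card, ← Nat.card_eq_fintype_card]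
  have hsub : ∀ n : ℕ, Nat.card {χ : IrrCharacter G // χ ∈ B ∧ Cfsg.blockHeight 2 B (χ : G → ℂ) = n} =
      (B.toFinset.filter fun χ => T.ht χ = n).card := fun n => by
    rw [hT, Nat.card_eq_fintype_card, Fintype.card_subtype]
    exact congrArg Finset.card (by ext; simp)
  have hlow : (B.toFinset.filter fun χ => T.ht χ = 0).card +
      (B.toFinset.filter fun χ => T.ht χ = 1).card ≤ B.toFinset.card := by
    rw [← Finset.card_union_of_disjoint (Finset.disjoint_filter.2 fun χ _ a b => by omega)]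
    exact Finset.card_le_card (Finset.union_subset (Finset.filter_subset _ _)
      (Finset.filter_subset _ _))
  refine ⟨fun χ hχ => ?_, ?_, ?_, ?_, by omega, fun hc => ?_⟩
  · have := hht χ (Set.mem_toFinset.2 hχ)
    rw [hT, ← hq] at this
    exact this
  · rw [hsub]
    exact T.zero_card
  · rw [hsub, hone hq1]
    omega
  · rw [T.zero_card, hone hq1] at hlow
    omega
  · obtain ⟨φ, hφ⟩ := Finset.card_pos.1 (show 0 < T.four.card by rw [T.card_four]; norm_num)
    obtain ⟨hφs, hφ0⟩ := T.mem_four.1 hφ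
    have h1 := hfour φ (Set.mem_toFinset.1 hφs) hφ0
    have hN : (0 : ℤ) ≠ -T.N φ := fun e => by
      have := T.N_sq_four hφ
      rw [show T.N φ = 0 by omega] at this
      norm_num at this
    have h2 := qf_ne (T.x φ) hN
    have h3 := qf_nonneg 0 0 (T.d φ)
    have h4 := T.Z_pos φ hφs
    have h5 := T.A_self_pos hφs
    rw [hc] at h1
    push_cast at h1
    have := (T.caseA hφ (by omega)).1
    omega

/-- At most one member of height above one. -/
theorem card_le {lz : ℕ}
    (hlz : ∑ χ : IrrCharacter G, (if χ ∈ B then sval 2 D eP S.z (χ : G → ℂ) χ else 0) = (lz : ℂ))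
    (hlz2 : lz ≤ 2)
    (hk : Nat.card B = Cfsg.blockRank 2 B + lz + (h - 1) + (reps S eP \ rots S).card)
    (hle : 3 ≤ Cfsg.blockRank 2 B + lz + (reps S eP \ rots S).card) :
    Nat.card B ≤ h + 4 := by
  haveI : Fact (Nat.Prime 2) := ⟨Nat.prime_two⟩
  obtain ⟨q, hq, hq1, hqc⟩ := exists_half S
  obtain ⟨T, hT, hZc, -⟩ := exists_frame hM hB hmax S hq hqc hk hle
  obtain ⟨hht, hone, -⟩ := T.main
  have hh := S.h_four_le
  have hh2 : 2 < h := by omega
  set P := B.toFinset.filter fun χ => T.ht χ = 1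
  set R := B.toFinset.filter fun χ => T.ht χ ≠ 0 ∧ T.ht χ ≠ 1 with hRdef
  have hsplit : ∀ g : IrrCharacter G → ℤ, ∑ χ ∈ B.toFinset, g χ =
      ∑ χ ∈ T.four, g χ + ∑ χ ∈ P, g χ + ∑ χ ∈ R, g χ := fun g => by
    rw [T.sum_split, ← Finset.sum_filter_add_sum_filter_not
      (B.toFinset.filter fun χ => T.ht χ ≠ 0) (fun χ => T.ht χ = 1) g, ← add_assoc]
    congr 1
    · congr 1
      refine Finset.sum_congr (Finset.ext fun χ => ?_) fun _ _ => rfl
      simp only [P, Finset.mem_filter]
      exact ⟨fun ⟨⟨a, _⟩, b⟩ => ⟨a, b⟩, fun ⟨a, b⟩ => ⟨⟨a, by omega⟩, b⟩⟩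
    · refine Finset.sum_congr (Finset.ext fun χ => ?_) fun _ _ => rfl
      simp only [R, Finset.mem_filter]
      exact ⟨fun ⟨⟨a, b⟩, c⟩ => ⟨a, b, c⟩, fun ⟨a, b, c⟩ => ⟨⟨a, b⟩, c⟩⟩
  have hPc : P.card = 2 * q + 1 := hone hq1
  have hRc : R.card ≤ 1 := by
    by_contra hc
    obtain ⟨χ₁, h₁, χ₂, h₂, hne⟩ := Finset.one_lt_card.1 (not_le.1 hc)
    -- the smallest value at the four
    obtain ⟨φ, hφ, hmin⟩ := Finset.exists_min_image T.four T.Z
      (Finset.card_pos.1 (by rw [T.card_four]; norm_num))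
    obtain ⟨hφs, hφ0⟩ := T.mem_four.1 hφ
    have hφB := Set.mem_toFinset.1 hφs
    have hbound : ∀ χ ∈ R, (h : ℤ) ^ 2 ≤ T.Z χ * T.Z φ := by
      intro χ hχ
      obtain ⟨hχs, h0, h1⟩ := Finset.mem_filter.1 hχ
      have hχB := Set.mem_toFinset.1 hχs
      have hpow : 2 ^ Cfsg.blockHeight 2 B (χ : G → ℂ) = h := by
        rcases hht χ hχs with e | e | e
        · exact absurd e h0
        · exact absurd e h1
        · rw [hT, ← hq] at e
          exact e
      have hN := pow_le_prod_cval hM hB hmax hχB hφB (by rw [hT] at hφ0; exact hφ0) S.z_mem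
        S.z_mem_centralizer
      rw [Finset.prod_congr rfl (g := fun _ => ‖cval 2 D eP (χ : G → ℂ) (φ : G → ℂ) S.z‖)
        (fun k hk => by
          have hco := (GaloisAverage.mem_totatives.1 hk).2
          have hodd : k % 2 = 1 := by
            rcases Nat.even_or_odd' k with ⟨j, rfl | rfl⟩
            · exfalso
              have h2 := Nat.dvd_gcd (Dvd.intro j rfl : 2 ∣ 2 * j)
                (show 2 ∣ Nat.card D by rw [S.card]; omega)
              rw [hco.gcd_eq_one] at h2
              norm_num at h2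
            · omega
          rw [pow_eq_pow_mod k (by rw [pow_two]; exact S.z_mul_z : S.z ^ 2 = 1), hodd, pow_one]),
        Finset.prod_const, GaloisAverage.card_totatives, pow_mul,
        pow_le_pow_iff_left₀ (by positivity) (norm_nonneg _)
          (Nat.totient_pos.2 Nat.card_pos).ne'] at hN
      have hcs := norm_cval_sq_le (p := 2) (P := D) (eP := eP) (χ : G → ℂ) (φ : G → ℂ) S.z
      have hval : ∀ ψ : IrrCharacter G, ψ ∈ B.toFinset →
          ‖aval 2 D eP (ψ : G → ℂ) S.z‖ = (T.Z ψ : ℝ) := fun ψ hψ => by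
        rw [aval, cval_eq, inf_eq_left.2 S.D_le_centralizer, S.card, Nat.cast_mul]
        push_cast
        rw [← hZc ψ (Set.mem_toFinset.1 hψ), Complex.norm_intCast, abs_of_pos]
        exact_mod_cast T.Z_pos ψ hψ
      rw [hval χ hχs, hval φ hφs] at hcs
      have h2 : ((h : ℝ)) ^ 2 ≤ (T.Z χ : ℝ) * (T.Z φ : ℝ) := by
        refine le_trans (pow_le_pow_left₀ (Nat.cast_nonneg _) ?_ 2) hcs
        refine le_trans (le_of_eq ?_) hN
        rw [← hpow]
        push_cast
        rfl
      exact_mod_cast h2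
    have htot : ∑ χ ∈ B.toFinset, T.Z χ = 4 * (h : ℤ) * lz := by
      refine Int.cast_injective (α := ℂ) ?_
      push_cast
      rw [← hlz, Finset.mul_sum, ← Finset.sum_subset (Finset.subset_univ B.toFinset) fun χ _ hn =>
          by rw [if_neg fun e => hn (Set.mem_toFinset.2 e), mul_zero]]
      exact Finset.sum_congr rfl fun χ hχ => by
        rw [if_pos (Set.mem_toFinset.1 hχ), hZc χ (Set.mem_toFinset.1 hχ)]
    have hP4 : ∀ χ ∈ P, 4 ≤ T.Z χ := fun χ hχ => by
      obtain ⟨hs', h1⟩ := Finset.mem_filter.1 hχ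
      exact Int.le_of_dvd (by linarith [T.Z_pos χ hs']) ((T.total χ hs').2 (by omega)).2
    have hF : 4 * T.Z φ ≤ ∑ χ ∈ T.four, T.Z χ := by
      have := Finset.card_nsmul_le_sum T.four T.Z (T.Z φ) hmin
      rw [T.card_four] at this
      simpa using this
    have hPsum : 4 * (2 * (q : ℤ) + 1) ≤ ∑ χ ∈ P, T.Z χ := by
      have := Finset.card_nsmul_le_sum P T.Z 4 hP4
      rw [hPc] at this
      simp at this
      linarith
    have hRsum : T.Z χ₁ + T.Z χ₂ ≤ ∑ χ ∈ R, T.Z χ := by
      rw [← Finset.sum_pair hne]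
      refine Finset.sum_le_sum_of_subset_of_nonneg (by simp [Finset.insert_subset_iff, h₁, h₂])
        fun χ hχ _ => by linarith [T.Z_pos χ (Finset.mem_filter.1 hχ).1]
    rw [hsplit] at htot
    have hZφ := T.Z_pos φ hφs
    have hlz' : (lz : ℤ) ≤ 2 := by exact_mod_cast hlz2
    have hhZ : (4 : ℤ) ≤ h := by exact_mod_cast hh
    have hq' : (h : ℤ) = 2 * ((q : ℤ) + 1) := by exact_mod_cast hq
    have hub : T.Z χ₁ + T.Z χ₂ ≤ 4 * (h : ℤ) + 4 - 4 * T.Z φ := by nlinarith
    have := mul_le_mul_of_nonneg_right hub (show 0 ≤ T.Z φ by linarith)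
    nlinarith [hbound χ₁ h₁, hbound χ₂ h₂, sq_nonneg (2 * T.Z φ - ((h : ℤ) + 1))]
  have := hsplit fun _ => 1
  simp only [Finset.sum_const, nsmul_eq_mul, mul_one, T.card_four, hPc] at this
  rw [Set.toFinset_card, ← Nat.card_eq_fintype_card] at this
  omega

/-- With central involution the rank and the class of order four make two. -/
theorem rank_add_four (hz : ∀ g : G, Commute g S.z) :
    Cfsg.blockRank 2 B + (four S eP).card = 2 := by
  haveI : Fact (Nat.Prime 2) := ⟨Nat.prime_two⟩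
  obtain ⟨lz, -, hlz, hk⟩ := card_block hM hB hmax S
  have hl1 := BlockPairing.one_le_blockRank (p := 2) (CfsgLib.Blocks.isPBlock_nonempty hB)
  have heq : lz = Cfsg.blockRank 2 B := by
    refine Nat.cast_injective (R := ℂ) ?_
    rw [← hlz, ← TameBlocks.sum_sval_one hM hB hmax]
    refine Finset.sum_congr rfl fun χ _ => ?_
    split_ifs with hχ
    · rw [sval_central hM hB hmax S.z_mem hz hχ hχ, TameBlocks.sval_one hM hB hmax hχ hχ]
      rcases central_value χ hz S.z_mul_z with e | e <;> simp [e]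
    · rfl
  have htwo : (two S eP).card = 1 := by
    rw [two, if_neg fun hf => ?_, Finset.card_singleton]
    obtain ⟨g, -, hg⟩ := hf
    refine S.τ_not_mem ?_
    have : S.τ = S.z := by
      have h1 : g * S.τ * g⁻¹ = g * S.z * g⁻¹ := by rw [hg, (hz g).eq, mul_inv_cancel_right]
      exact mul_left_cancel (mul_right_cancel h1)
    exact this ▸ S.z_mem_zpowers
  have hc := card_others (eP := eP) S
  have h4 := card_four_le (eP := eP) S
  obtain ⟨-, -, -, hge, hle, htw⟩ := frame_facts hM hB hmax S hk (by omega)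
  rw [heq] at hk
  have := S.h_four_le
  rcases Nat.le_one_iff_eq_zero_or_eq_one.1 h4 with e | e <;> rw [e] at hc ⊢
  · omega
  · have := htw (by omega)
    omega

/-- The rank at `z` and the class of order four make two. -/
theorem exists_lz : ∃ lz : ℕ,
    ∑ χ : IrrCharacter G, (if χ ∈ B then sval 2 D eP S.z (χ : G → ℂ) χ else 0) = (lz : ℂ) ∧
      lz + (four S eP).card = 2 := by
  haveI : Fact (Nat.Prime 2) := ⟨Nat.prime_two⟩
  set K := Subgroup.centralizer ({S.z} : Set G) with hKdef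
  haveI := Fintype.ofFinite ↥K
  have hDK : D ≤ K := S.D_le_centralizer
  have hblk := mem_blocks.1 (below_mem_blocks hmax S.z_mem)
  have hmK := Star.isMaxPair_central hB hmax S.z_mem S.z_mem_centralizer
  rw [Star.cent_zpowers] at hblk hmK
  obtain ⟨b, e', hb, hsb, he, hm⟩ := exists_local hblk hmK
  refine ⟨Cfsg.blockRank 2 b, TameBlocks.sum_sval_self hM hB hmax S.z_mem hb hsb.symm, ?_⟩
  set S' := S.restrict hDK with hS'
  have hSz : (S'.z : G) = S.z := by simp [SDShape.z, hS', SDShape.restrict]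
  have hSw : (S'.w : G) = S.w := by simp [SDShape.w, hS', SDShape.restrict]
  have hSf : (S'.f : G) = S.f := by simp [SDShape.f, hS', SDShape.restrict]
  have hz' : ∀ g : ↥K, Commute g S'.z := fun g => Subtype.ext (by
    show (g : G) * (S'.z : G) = (S'.z : G) * (g : G)
    rw [hSz]
    exact Subgroup.mem_centralizer_singleton_iff.1 g.2)
  refine Eq.trans ?_ (rank_add_four hM hb hm S' hz')
  congr 1
  have hcent : ∀ {x : G}, x * x = S.z → Subgroup.centralizer ({x} : Set G) ≤ K := fun {x} hx g hg => by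
    rw [Subgroup.mem_centralizer_singleton_iff] at hg
    rw [hKdef, Subgroup.mem_centralizer_singleton_iff, ← hx]
    exact ((show Commute g x from hg).mul_right hg).eq
  have hbf := below_sub hmax hDK he hm (r := S'.f) S'.f_mem (by rw [hSf]; exact hcent S.f_sq)
  have hbw := below_sub hmax hDK he hm (r := S'.w) S'.w_mem (by rw [hSw]; exact hcent S.w_mul_w)
  rw [hSf] at hbf
  rw [hSw] at hbw
  have hiff : Fused 2 (D.subgroupOf K) e' S'.f S'.w ↔ Fused 2 D eP S.f S.w := by
    rw [fused_iff hmax, fused_iff hm]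
    constructor
    · rintro ⟨-, -, g, hg, hge⟩
      refine ⟨S.f_mem, S.w_mem, g, by rw [← hSf, ← hSw]; exact congrArg Subtype.val hg, ?_⟩
      rw [hbf, hbw, ← hge, ← conjA_emb K.subtype_injective]
      rfl
    · rintro ⟨-, -, g, hg, hge⟩
      have hgK : g ∈ K := by
        rw [hKdef, Subgroup.mem_centralizer_singleton_iff]
        refine mul_inv_eq_iff_eq_mul.1 ?_
        calc g * S.z * g⁻¹ = g * (S.f * S.f) * g⁻¹ := by rw [S.f_sq]
          _ = g * S.f * g⁻¹ * (g * S.f * g⁻¹) := by group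
          _ = S.z := by rw [hg, S.w_mul_w]
      refine ⟨S'.f_mem, S'.w_mem, ⟨g, hgK⟩, Subtype.ext (by
        show g * (S'.f : G) * g⁻¹ = (S'.w : G)
        rw [hSf, hSw, hg]), emb_injective K.subtype_injective ?_⟩
      rw [← conjA_emb K.subtype_injective, ← hbf, ← hbw]
      exact hge
  unfold four
  by_cases hP : Fused 2 D eP S.f S.w
  · rw [if_pos hP, if_pos (hiff.2 hP), Finset.card_empty, Finset.card_empty]
  · rw [if_neg hP, if_neg (mt hiff.1 hP), Finset.card_singleton, Finset.card_singleton]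

/-- Blocks with semidihedral defect groups of order `4 * h`. -/
theorem semidihedral_block :
    (Nat.card B = h + 3 ∨ Nat.card B = h + 4) ∧ 1 ≤ Cfsg.blockRank 2 B ∧
      Cfsg.blockRank 2 B ≤ 3 ∧ (Cfsg.blockRank 2 B = 3 → Nat.card B = h + 4) ∧
      (Cfsg.blockRank 2 B = 1 → Nat.card B = h + 3) ∧
      Nat.card {χ : IrrCharacter G // χ ∈ B ∧ Cfsg.blockHeight 2 B (χ : G → ℂ) = 0} = 4 ∧
      Nat.card {χ : IrrCharacter G // χ ∈ B ∧ Cfsg.blockHeight 2 B (χ : G → ℂ) = 1} = h - 1 ∧
      ∀ χ ∈ B, Cfsg.blockHeight 2 B (χ : G → ℂ) = 0 ∨ Cfsg.blockHeight 2 B (χ : G → ℂ) = 1 ∨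
        2 ^ Cfsg.blockHeight 2 B (χ : G → ℂ) = h := by
  haveI : Fact (Nat.Prime 2) := ⟨Nat.prime_two⟩
  obtain ⟨lz, hz1, hlz, hk⟩ := card_block hM hB hmax S
  obtain ⟨lz', hlz', hsum⟩ := exists_lz hM hB hmax S
  have heq : lz = lz' := Nat.cast_injective (R := ℂ) (hlz.symm.trans hlz')
  have hl1 := BlockPairing.one_le_blockRank (p := 2) (CfsgLib.Blocks.isPBlock_nonempty hB)
  have hc := card_others (eP := eP) S
  have h2 := card_two_le (eP := eP) S
  have h4 := S.h_four_le
  obtain ⟨hht, h0, hone, hge, -, -⟩ := frame_facts hM hB hmax S hk (by omega)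
  have hle := card_le hM hB hmax S hlz (by omega) hk (by omega)
  exact ⟨by omega, hl1, by omega, fun e => by omega, fun e => by omega, h0, hone, hht⟩

end CfsgLib.TameSD
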