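import Cfsg.Agent.TameSQ.Counts

/-!
# Blocks with quaternion defect group whose involution is central

With `ε χ` the product of the values of the central characters of `χ` and of the member `χ₀` of
the local block at `z`, the columns satisfy `col (a + h) = ε * col a`; the four members of height
zero have `ε = 1` and exactly `l + h / 2 + c` members have `ε = 1`.
-/

set_option autoImplicit false
set_option linter.unusedSectionVars false
set_option linter.style.haveILetI false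

namespace CfsgLib.TameSQ

open Cfsg CfsgLib.BlockPairs CfsgLib.Star
open CfsgLib.Blocks (Res)
open CfsgLib.BlockPairing (regInner)
open CfsgLib.TameBlocks (Fused IsReps sval T_fun_sum)
open CfsgLib.Contributions (contrib)
open scoped ComplexConjugate Classical

universe u

variable {G : Type u} [Group G] [Fintype G] {M : Ideal AlgInt} [M.IsPrime]
  [CharP (Res M) 2] [IsAlgClosed (Res M)] (hM : Cfsg.IsPModular 2 M)
  {B : Set (IrrCharacter G)} (hB : Cfsg.IsPBlock M B)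
  {D : Subgroup G} {eP : GA (Res M) G} (hmax : IsMaxPair 2 (⊤ : Subgroup G) (gblk M B) D eP)
  {h : ℕ} {S : QShape D h} {hDK : D ≤ KT S eP} (𝒞 : LocData M eP (KT S eP) hDK)
  {q : ℕ} (hq : h = 2 * (q + 1)) (hz : ∀ g : G, Commute g S.z)

/-- The value of the central character at `z`. -/
noncomputable def omega (S : QShape D h) (χ : IrrCharacter G) : ℂ :=
  (χ : G → ℂ) S.z / (χ : G → ℂ) 1

/-- The value of the central character of the member of the local block at `z`. -/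
noncomputable def omega₀ : ℂ :=
  (𝒞.χ₀ : ↥(KT S eP) → ℂ) ⟨S.z, hDK S.z_mem⟩ / (𝒞.χ₀ : ↥(KT S eP) → ℂ) 1

/-- Their product. -/
noncomputable def eps (χ : IrrCharacter G) : ℂ := omega S χ * omega₀ 𝒞

theorem central_value {X : Type*} [Group X] [Fintype X] (θ : IrrCharacter X) {x : X}
    (hx : ∀ g : X, Commute g x) (hx2 : x * x = 1) :
    (θ : X → ℂ) x / (θ : X → ℂ) 1 = 1 ∨ (θ : X → ℂ) x / (θ : X → ℂ) 1 = -1 := by
  have h1 := BlocksCharsC.irr_central_mul θ.2
    (Subgroup.mem_center_iff.2 fun g => (hx g).eq : x ∈ Subgroup.center X) x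
  rw [hx2] at h1
  have hne := Characters.irr_one_ne_zero θ.2
  rw [← sq_eq_one_iff, div_pow, div_eq_one_iff_eq (pow_ne_zero 2 hne), sq, sq]
  exact h1.symm

include hz

theorem omega_cases (χ : IrrCharacter G) : omega S χ = 1 ∨ omega S χ = -1 :=
  central_value χ hz S.z_mul_z

theorem omega₀_cases : omega₀ 𝒞 = 1 ∨ omega₀ 𝒞 = -1 :=
  central_value 𝒞.χ₀ (fun g => Subtype.ext (hz (g : G)).eq) (Subtype.ext S.z_mul_z)

theorem conj_omega (χ : IrrCharacter G) : conj (omega S χ) = omega S χ := by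
  rcases omega_cases hz χ with e | e <;> simp [e]

theorem eps_cases (χ : IrrCharacter G) : eps 𝒞 χ = 1 ∨ eps 𝒞 χ = -1 := by
  rcases omega_cases hz χ with e | e <;> rcases omega₀_cases 𝒞 hz with e' | e' <;> simp [eps, e, e']

theorem omega_eq (χ : IrrCharacter G) : omega S χ = eps 𝒞 χ * omega₀ 𝒞 := by
  rcases omega₀_cases 𝒞 hz with e | e <;> simp [eps, e]

omit 𝒞 hz in
include S in
theorem zpowers_mul_z [Finite G] {u : G} (hu : u ∈ Subgroup.zpowers S.σ) (h1 : u ≠ 1)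
    (hz1 : u ≠ S.z) : Subgroup.zpowers (u * S.z) = Subgroup.zpowers u := by
  have key : ∀ v ∈ Subgroup.zpowers S.σ, v ≠ 1 → v ≠ S.z → S.z ∈ Subgroup.zpowers v :=
    fun v hv a b => S.w_mul_w ▸ mul_mem (S.w_mem_zpowers_rot hv a b) (S.w_mem_zpowers_rot hv a b)
  refine le_antisymm (Subgroup.zpowers_le.2 (mul_mem (Subgroup.mem_zpowers u) (key u hu h1 hz1)))
    (Subgroup.zpowers_le.2 ?_)
  have hv1 : u * S.z ≠ 1 := fun e => hz1 (by
    rw [mul_eq_one_iff_eq_inv, S.z_inv] at e; exact e)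
  have hvz : u * S.z ≠ S.z := fun e => h1 (mul_eq_right.1 e)
  have := mul_mem (Subgroup.mem_zpowers (u * S.z))
    (key _ (mul_mem hu S.z_mem_zpowers) hv1 hvz)
  rwa [mul_assoc, S.z_mul_z, mul_one] at this

include hM hB hmax

/-- The columns at translated rotations. -/
theorem col_add {a : ℕ} (ha : a ∈ rset h) (χ : IrrCharacter G) :
    col 𝒞 (a + h) χ = eps 𝒞 χ * col 𝒞 a χ := by
  haveI : Fact (Nat.Prime 2) := ⟨Nat.prime_two⟩
  obtain ⟨h1, hz1⟩ := rset_ne 𝒞 ha
  have hf := Characters.isClassFunction_of_isIrr χ.2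
  have hf0 := Characters.isClassFunction_of_isIrr 𝒞.χ₀.2
  set r := S.σ ^ a with hr
  have hrσ : r ∈ Subgroup.zpowers S.σ := S.pow_mem_zpowers a
  have hrD : r ∈ D := S.zpowers_le hrσ
  have hrzD : r * S.z ∈ D := mul_mem hrD S.z_mem
  have hCr := centralizer_rot_le_KT hB hmax S hrσ h1 hz1
  have hzp := zpowers_mul_z (S := S) hrσ h1 hz1
  have hCz : Subgroup.centralizer ({r * S.z} : Set G) = Subgroup.centralizer ({r} : Set G) := by
    rw [← Star.cent_zpowers, hzp, Star.cent_zpowers]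
  set r' : ↥(KT S eP) := ⟨r, hDK hrD⟩ with hr'
  set z' : ↥(KT S eP) := ⟨S.z, hDK S.z_mem⟩ with hz'
  have hzK : ∀ g : ↥(KT S eP), Commute g z' := fun g => Subtype.ext (hz (g : G)).eq
  obtain ⟨⟨s, hs⟩, hs2, hT0⟩ := exists_T_ne_zero hM 𝒞 ⟨r', Subgroup.mem_subgroupOf.2 hrD⟩
  rw [Subgroup.orderOf_mk] at hs2
  simp only at hT0
  have hsrz : s ∈ Subgroup.centralizer ({(⟨r * S.z, hDK hrzD⟩ : ↥(KT S eP))} : Set ↥(KT S eP)) := by
    rw [Subgroup.mem_centralizer_singleton_iff] at hs ⊢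
    show s * (r' * z') = r' * z' * s
    exact ((show Commute s r' from hs).mul_right (hzK s)).eq
  have hA := T_F hM hmax 𝒞 hf hrzD (hCz.le.trans hCr) ⟨s, hsrz⟩ (by rwa [Subgroup.orderOf_mk])
  have hBq := T_F hM hmax 𝒞 hf hrD hCr ⟨s, hs⟩ (by rwa [Subgroup.orderOf_mk])
  simp only at hA hBq
  -- translation in the whole group
  have hblk := mem_blocks.1 (below_mem_blocks hmax hrD)
  have hfix : conjA (Res M) (r * (s : G)) (below 2 D eP (Subgroup.zpowers r)) =
      below 2 D eP (Subgroup.zpowers r) :=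
    hblk.fixed _ (mul_mem (Star.cent_zpowers_mem.2 rfl)
      (Star.cent_zpowers_mem.2 (congrArg Subtype.val (Subgroup.mem_centralizer_singleton_iff.1 hs))))
  have hrz : r * S.z * (s : G) = S.z * (r * (s : G)) := by rw [(hz r).eq, mul_assoc]
  rw [hzp, hrz, T_translate hf hz hblk.idem hfix,
    show (fun x => (χ : G → ℂ) (S.z * x)) = fun x =>
      ∑ _i ∈ ({0} : Finset ℕ), omega S χ * (χ : G → ℂ) x from funext fun x => by
        rw [Finset.sum_singleton, omega, div_mul_eq_mul_div,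
          eq_div_iff (Characters.irr_one_ne_zero χ.2)]
        exact BlocksCharsC.irr_central_mul χ.2
          (Subgroup.mem_center_iff.2 fun g => (hz g).eq : S.z ∈ Subgroup.center G) x,
    T_fun_sum _ _ (fun _ => (χ : G → ℂ)) (fun _ _ => hf) hblk.idem hfix, Finset.sum_singleton,
    hBq] at hA
  -- translation in the local group
  have hblk' := mem_blocks.1 (below_mem_blocks 𝒞.maxPair
    (show r' ∈ D.subgroupOf (KT S eP) from hrD))
  have hfix' : conjA (Res M) (r' * s) (below 2 (D.subgroupOf (KT S eP)) 𝒞.e (Subgroup.zpowers r')) =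
      below 2 (D.subgroupOf (KT S eP)) 𝒞.e (Subgroup.zpowers r') :=
    hblk'.fixed _ (mul_mem (Star.cent_zpowers_mem.2 rfl)
      (Star.cent_zpowers_mem.2 (Subgroup.mem_centralizer_singleton_iff.1 hs)))
  have hzp' : Subgroup.zpowers (⟨r * S.z, hDK hrzD⟩ : ↥(KT S eP)) = Subgroup.zpowers r' :=
    Subgroup.map_injective (KT S eP).subtype_injective (by
      rw [MonoidHom.map_zpowers, MonoidHom.map_zpowers]; exact hzp)
  have hrz' : (⟨r * S.z, hDK hrzD⟩ : ↥(KT S eP)) * s = z' * (r' * s) := Subtype.ext hrz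
  rw [hzp', hrz', T_translate hf0 hzK hblk'.idem hfix',
    show (fun x => (𝒞.χ₀ : ↥(KT S eP) → ℂ) (z' * x)) = fun x =>
      ∑ _i ∈ ({0} : Finset ℕ), omega₀ 𝒞 * (𝒞.χ₀ : ↥(KT S eP) → ℂ) x from funext fun x => by
        rw [Finset.sum_singleton, omega₀, div_mul_eq_mul_div,
          eq_div_iff (Characters.irr_one_ne_zero 𝒞.χ₀.2)]
        exact BlocksCharsC.irr_central_mul 𝒞.χ₀.2
          (Subgroup.mem_center_iff.2 fun g => (hzK g).eq : z' ∈ Subgroup.center ↥(KT S eP)) x,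
    T_fun_sum _ _ (fun _ => (𝒞.χ₀ : ↥(KT S eP) → ℂ)) (fun _ _ => hf0) hblk'.idem hfix',
    Finset.sum_singleton] at hA
  have hkey : omega S χ * F 𝒞 (χ : G → ℂ) r = F 𝒞 (χ : G → ℂ) (r * S.z) * omega₀ 𝒞 :=
    mul_right_cancel₀ hT0 (by linear_combination hA)
  have hcol : col 𝒞 (a + h) χ = F 𝒞 (χ : G → ℂ) (r * S.z) := by rw [col, pow_add]; rfl
  rw [hcol, eps, show col 𝒞 a χ = F 𝒞 (χ : G → ℂ) r from rfl]
  rcases omega₀_cases 𝒞 hz with e | e <;> rw [e] at hkey ⊢
  · linear_combination -hkey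
  · linear_combination hkey

include hq

/-- In height zero the sign is `1`. -/
theorem eps_eq_one {χ : IrrCharacter G} (hχ : χ ∈ B)
    (h0 : Cfsg.blockHeight 2 B (χ : G → ℂ) = 0) : eps 𝒞 χ = 1 := by
  have hh := S.h_pos
  have hζ := zeta_spec hh
  have hg : ∀ a, col 𝒞 (a + h) χ = ∑ j ∈ Finset.range (2 * h),
      ((((-1 : ℤ) ^ j * mcoef 𝒞 χ j : ℤ)) : ℂ) * expo (zeta h) (j : ℤ) a := fun a => by
    rw [col_eq]
    refine Finset.sum_congr rfl fun j _ => ?_
    have e : expo (zeta h) (j : ℤ) h = (-1 : ℂ) ^ j := by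
      rw [expo_h hh hζ]
      rcases Nat.even_or_odd' j with ⟨t, rfl | rfl⟩
      · rw [if_pos (by omega)]
        simp [pow_mul]
      · rw [if_neg (by omega)]
        simp [pow_succ, pow_mul]
    rw [show expo (zeta h) (j : ℤ) (a + h) =
      expo (zeta h) (j : ℤ) a * expo (zeta h) (j : ℤ) h from pow_add _ _ _, e]
    push_cast
    ring
  have h1 := coeff_diff hh hζ (fun a => col 𝒞 (a + h) χ) _ hg (u := 0) (v := h) (by omega) (by omega)
    (by omega)
  have h2 := coeff_diff hh hζ (fun a => col 𝒞 a χ) _ (col_eq 𝒞 χ) (u := 0) (v := h) (by omega)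
    (by omega) (by omega)
  rw [Finset.sum_congr rfl (g := fun a => eps 𝒞 χ *
    (col 𝒞 a χ * (expo (zeta h) (-((0 : ℕ) : ℤ)) a - expo (zeta h) (-(h : ℤ)) a))) fun a ha => by
      rw [col_add hM hB hmax 𝒞 hz ha χ, mul_assoc], ← Finset.mul_sum, ← h2] at h1
  have heven : (-1 : ℤ) ^ h = 1 := Even.neg_one_pow ⟨q + 1, by omega⟩
  rw [pow_zero, heven, one_mul, one_mul] at h1
  have hN : (Nv 𝒞 q χ : ℂ) = (mcoef 𝒞 χ 0 : ℂ) - mcoef 𝒞 χ h := by
    rw [Nv, nd, ← hq, Int.cast_sub]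
  have hne : (2 * h : ℂ) * ((mcoef 𝒞 χ 0 : ℂ) - mcoef 𝒞 χ h) ≠ 0 := by
    rw [← hN]
    refine mul_ne_zero (by exact_mod_cast (by omega : 2 * h ≠ 0)) (Int.cast_ne_zero.2 fun e => ?_)
    have := Nv_odd hM hB hmax 𝒞 hq hχ h0
    rw [e] at this
    simp at this
  exact (mul_eq_right₀ hne).1 h1.symm

omit hq

theorem sval_z (χ ψ : IrrCharacter G) (hχ : χ ∈ B) (hψ : ψ ∈ B) :
    (4 * h : ℂ) * sval 2 D eP S.z (χ : G → ℂ) ψ =
      eps 𝒞 χ * eps 𝒞 ψ * (contrib 2 B χ ψ : ℂ) := by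
  rw [sval_central hM hB hmax S.z_mem hz hχ hψ, ← card_mul_sval_one hM hB hmax hχ hψ,
    TameBlocks.sval_one hM hB hmax hχ hψ, S.card,
    show (χ : G → ℂ) S.z / (χ : G → ℂ) 1 = omega S χ from rfl,
    show (ψ : G → ℂ) S.z / (ψ : G → ℂ) 1 = omega S ψ from rfl, conj_omega hz,
    omega_eq 𝒞 hz χ, omega_eq 𝒞 hz ψ]
  push_cast
  rcases omega₀_cases 𝒞 hz with e | e <;> rw [e] <;> ring

/-- The signed sum of the diagonal vanishes. -/
theorem sum_eps_contrib : ∑ χ ∈ B.toFinset, eps 𝒞 χ * (contrib 2 B χ χ : ℂ) = 0 := by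
  haveI : Fact (Nat.Prime 2) := ⟨Nat.prime_two⟩
  have hR := isReps_reps hB hmax S
  have hh : (4 * h : ℂ) ≠ 0 := by have := S.h_pos; exact_mod_cast (by omega : 4 * h ≠ 0)
  have hrow : ∀ χ ∈ B.toFinset,
      ∑ ψ ∈ B.toFinset, eps 𝒞 ψ * (contrib 2 B χ ψ : ℂ) ^ 2 = 0 := by
    intro χ hχ
    have hχB := Set.mem_toFinset.1 hχ
    have h1 := TameBlocks.sum_sval_mul hM hB hmax hR hχB hχB
      (rots_subset_reps hB hmax S (one_mem_rots S)) (rots_subset_reps hB hmax S (z_mem_rots S))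
    rw [if_neg (Ne.symm S.z_ne_one), ← Finset.sum_filter] at h1
    have h2 : ∑ ψ ∈ B.toFinset, eps 𝒞 χ * (eps 𝒞 ψ * (contrib 2 B χ ψ : ℂ) ^ 2) = 0 := by
      rw [← mul_zero ((4 * h : ℂ) * (4 * h)), ← h1, Finset.mul_sum]
      refine Finset.sum_congr (by ext; simp) fun ψ hψ => ?_
      have hψB := (Finset.mem_filter.1 hψ).2
      have e1 := card_mul_sval_one hM hB hmax hχB hψB
      rw [S.card] at e1
      push_cast at e1
      have e2 := sval_z hM hB hmax 𝒞 hz ψ χ hψB hχB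
      rw [← Contributions.contrib_symm hχB hψB] at e2
      linear_combination (-(eps 𝒞 χ * eps 𝒞 ψ * (contrib 2 B χ ψ : ℂ))) * e1 -
        (4 * (h : ℂ) * sval 2 D eP 1 (χ : G → ℂ) ψ) * e2
    rw [← Finset.mul_sum] at h2
    refine (mul_eq_zero.1 h2).resolve_left fun e => ?_
    rcases eps_cases 𝒞 hz χ with e' | e' <;> simp [e'] at e
  refine mul_left_cancel₀ hh ?_
  rw [mul_zero, Finset.mul_sum, ← Finset.sum_eq_zero hrow, Finset.sum_comm]
  refine Finset.sum_congr rfl fun ψ hψ => ?_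
  have hψB := Set.mem_toFinset.1 hψ
  rw [← Finset.mul_sum]
  have h3 := Contributions.sum_sq (p := 2) hM hB hψB
  rw [show ((2 : ℕ) : ℤ) ^ Cfsg.blockDefect 2 B = 4 * h from by
    exact_mod_cast pow_defect hM hB hmax S] at h3
  have h4 := congrArg (fun x : ℤ => (x : ℂ)) h3
  push_cast at h4
  rw [mul_left_comm, ← h4]
  congr 1
  refine Finset.sum_congr rfl fun χ hχ => ?_
  rw [Contributions.contrib_symm (Set.mem_toFinset.1 hχ) hψB]

include hq

/-- The number of members of sign one. -/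
theorem card_eps_one :
    (B.toFinset.filter fun χ => eps 𝒞 χ = 1).card =
      Cfsg.blockRank 2 B + (q + 1) + (reps S eP \ rots S).card := by
  haveI : Fact (Nat.Prime 2) := ⟨Nat.prime_two⟩
  have hh := S.h_pos
  set c := (reps S eP \ rots S).card with hc
  set l := Cfsg.blockRank 2 B
  -- the diagonal identity
  have hdiag : ∀ χ ∈ B.toFinset, (4 * h : ℂ) = 2 * (contrib 2 B χ χ : ℂ) +
      ∑ a ∈ rset h, col 𝒞 a χ * col 𝒞 a χ +
      (h : ℂ) * c * (if Cfsg.blockHeight 2 B (χ : G → ℂ) = 0 then 1 else 0) := by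
    intro χ hχ
    have hχB := Set.mem_toFinset.1 hχ
    have h1 := sum_sval_split hM hB hmax 𝒞 hχB hχB
    rw [if_pos rfl, mul_one, sval_z hM hB hmax 𝒞 hz χ χ hχB hχB,
      Finset.sum_congr (s₁ := reps S eP \ rots S) rfl (g := fun _ =>
        if Cfsg.blockHeight 2 B (χ : G → ℂ) = 0 then (4 : ℂ)⁻¹ else 0) (fun r hr => by
        obtain ⟨hr1, hr2⟩ := Finset.mem_sdiff.1 hr
        exact sval_other hM hB hmax 𝒞 hq hr1 hr2 hχB), Finset.sum_const, nsmul_eq_mul, ← hc] at h1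
    rw [h1]
    have hee : eps 𝒞 χ * eps 𝒞 χ = 1 := by rcases eps_cases 𝒞 hz χ with e | e <;> simp [e]
    rw [hee]
    split_ifs <;> ring
  -- the sums
  have hA : ∑ χ ∈ B.toFinset, (contrib 2 B χ χ : ℂ) = (4 * h : ℂ) * l := by
    rw [show ((l : ℕ) : ℂ) = ∑ χ : IrrCharacter G, (if χ ∈ B then sval 2 D eP 1 (χ : G → ℂ) χ else 0)
      from (TameBlocks.sum_sval_one hM hB hmax).symm, ← Finset.sum_filter, Finset.mul_sum]
    refine Finset.sum_congr (by ext; simp) fun χ hχ => ?_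
    rw [← card_mul_sval_one hM hB hmax (Finset.mem_filter.1 hχ).2 (Finset.mem_filter.1 hχ).2,
      S.card]
    push_cast
    ring
  have hEA := sum_eps_contrib hM hB hmax 𝒞 hz
  have hL : ∑ χ ∈ B.toFinset, ∑ a ∈ rset h, col 𝒞 a χ * col 𝒞 a χ =
      (4 * h : ℂ) * ((h : ℂ) - 1) := by
    rw [Finset.sum_comm, Finset.sum_congr rfl (g := fun _ => (2 * h : ℂ)) fun a ha => ?_,
      Finset.sum_const, nsmul_eq_mul]
    · have hcard : ((rset h).card : ℂ) + 2 = 2 * h := by
        have h1 := sum_rset (fun _ => 1) hh (M := ℕ)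
        simp only [Finset.sum_const, Finset.card_range, smul_eq_mul, mul_one] at h1
        exact_mod_cast (show (rset h).card + 2 = 2 * h by omega)
      linear_combination (2 * (h : ℂ)) * hcard
    · obtain ⟨h1, h2, h3⟩ := mem_rset.1 ha
      rw [sum_col_mul hM hB hmax 𝒞 ha ha, if_pos rfl, if_neg (by omega)]
      ring
  have hEL : ∑ χ ∈ B.toFinset, eps 𝒞 χ * ∑ a ∈ rset h, col 𝒞 a χ * col 𝒞 a χ = (4 * h : ℂ) := by
    simp only [Finset.mul_sum]
    rw [Finset.sum_comm, Finset.sum_congr rfl (g := fun a =>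
      (2 * h : ℂ) * if 2 * a = h ∨ 2 * a = 3 * h then 1 else 0) fun a ha => ?_, ← Finset.mul_sum,
      Finset.sum_boole]
    · rw [show (rset h).filter (fun a => 2 * a = h ∨ 2 * a = 3 * h) = {q + 1, 3 * (q + 1)} from ?_,
        Finset.card_pair (by omega)]
      · push_cast
        ring
      · ext a
        simp only [Finset.mem_filter, mem_rset, Finset.mem_insert, Finset.mem_singleton]
        omega
    · obtain ⟨h1, h2, h3⟩ := mem_rset.1 ha
      set a' := if a + h < 2 * h then a + h else a + h - 2 * h with ha'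
      have ha'm : a' ∈ rset h := by
        rw [mem_rset, ha']
        split_ifs <;> omega
      have hcol : ∀ χ, col 𝒞 (a + h) χ = col 𝒞 a' χ := fun χ => by
        rw [ha']
        split_ifs with hlt
        · rfl
        · simp only [col]
          conv_lhs => rw [show a + h = a + h - 2 * h + 2 * h by omega, pow_add, S.pow_two_h, mul_one]
      rw [Finset.sum_congr rfl (g := fun χ => col 𝒞 a' χ * col 𝒞 a χ) fun χ _ => by
        rw [← hcol, col_add hM hB hmax 𝒞 hz ha χ, mul_assoc], sum_col_mul hM hB hmax 𝒞 ha'm ha]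
      congr 1
      rw [if_neg (show a' ≠ a by rw [ha']; split_ifs <;> omega), zero_add]
      refine if_congr ?_ rfl rfl
      rw [ha']
      split_ifs <;> omega
  have hZ : ∑ χ ∈ B.toFinset,
      (if Cfsg.blockHeight 2 B (χ : G → ℂ) = 0 then (1 : ℂ) else 0) = 4 := by
    rw [Finset.sum_boole, card_height_zero hM hB hmax 𝒞 hq]
    norm_num
  have hEZ : ∑ χ ∈ B.toFinset,
      eps 𝒞 χ * (if Cfsg.blockHeight 2 B (χ : G → ℂ) = 0 then (1 : ℂ) else 0) = 4 := by
    refine Eq.trans (Finset.sum_congr rfl fun χ hχ => ?_) hZ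
    split_ifs with h0
    · rw [eps_eq_one hM hB hmax 𝒞 hq hz (Set.mem_toFinset.1 hχ) h0, one_mul]
    · rw [mul_zero]
  -- combine
  have hsum : ∑ χ ∈ B.toFinset, (1 + eps 𝒞 χ) * (4 * h : ℂ) =
      2 * ((4 * h : ℂ) * l) + ((4 * h : ℂ) * ((h : ℂ) - 1) + 4 * h) + (h : ℂ) * c * 8 := by
    rw [Finset.sum_congr rfl fun χ hχ => by rw [hdiag χ hχ]]
    simp only [add_mul, one_mul, mul_add, Finset.sum_add_distrib, ← Finset.mul_sum]
    rw [hA, hL, hZ]
    simp only [mul_left_comm (eps 𝒞 _), ← Finset.mul_sum]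
    rw [hEA, hEL, hEZ]
    ring
  rw [← Finset.sum_mul, Finset.sum_congr rfl (g := fun χ => 2 * if eps 𝒞 χ = 1 then (1 : ℂ) else 0)
    (fun χ _ => by rcases eps_cases 𝒞 hz χ with e | e <;> norm_num [e]), ← Finset.mul_sum,
    Finset.sum_boole] at hsum
  refine Nat.cast_injective (R := ℂ) (mul_left_cancel₀
    (show (8 * h : ℂ) ≠ 0 by exact_mod_cast (by omega : 8 * h ≠ 0)) ?_)
  have hq' : (h : ℂ) = 2 * ((q : ℂ) + 1) := by exact_mod_cast hq
  push_cast
  rw [hq'] at hsum ⊢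
  linear_combination hsum

end CfsgLib.TameSQ
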