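import Cfsg.Agent.TameSQ.Frame
import Cfsg.Agent.Characters.Generalized
import Mathlib.RingTheory.RootsOfUnity.Complex

/-!
# Fourier coefficients on a cyclic group of order `2 * h`

A generalized character has integral coefficients `m j` on the powers of an element.  For
symmetric coefficients the differences `m 0 - m h`, `m (2i+2) - m 0`, `m (2i+3) - m 1` carry the
sum of the squares over the rotations of order at least four, and orthogonality of the values at
those rotations gives their inner products.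
-/

set_option autoImplicit false
set_option linter.unusedSectionVars false
set_option linter.style.haveILetI false

namespace CfsgLib.TameSQ

open Cfsg Finset
open scoped ComplexConjugate

universe u

/-- `e ζ j a` is the value at the `a`-th power of the `j`-th linear character. -/
noncomputable def expo (ζ : ℂ) (j : ℤ) (a : ℕ) : ℂ := (ζ ^ j) ^ a

theorem expo_mul {ζ : ℂ} (hζ : ζ ≠ 0) (i j : ℤ) (a : ℕ) :
    expo ζ i a * expo ζ j a = expo ζ (i + j) a := by
  rw [expo, expo, expo, zpow_add₀ hζ, mul_pow]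

theorem sum_expo {n : ℕ} (_hn : 0 < n) {ζ : ℂ} (hζ : IsPrimitiveRoot ζ n) (j : ℤ) :
    ∑ a ∈ range n, expo ζ j a = if (n : ℤ) ∣ j then (n : ℂ) else 0 := by
  split_ifs with hj
  · have : ζ ^ j = 1 := (hζ.zpow_eq_one_iff_dvd j).2 hj
    simp [expo, this]
  · have hne : ζ ^ j ≠ 1 := fun e => hj ((hζ.zpow_eq_one_iff_dvd j).1 e)
    simp only [expo]
    rw [geom_sum_eq hne, div_eq_zero_iff]
    left
    rw [sub_eq_zero, ← zpow_natCast, ← zpow_mul, mul_comm, zpow_mul, zpow_natCast, hζ.pow_eq_one,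
      one_zpow]

theorem expo_reflect {n : ℕ} {ζ : ℂ} (hζ : IsPrimitiveRoot ζ n) (hn : 0 < n) (j : ℤ) {a : ℕ}
    (ha : a ≤ n) : expo ζ j (n - a) = expo ζ (-j) a := by
  have h0 : ζ ≠ 0 := hζ.ne_zero hn.ne'
  rw [expo, expo, ← zpow_natCast, ← zpow_natCast, ← zpow_mul, ← zpow_mul, Nat.cast_sub ha, mul_sub,
    zpow_sub₀ h0, mul_comm j (n : ℤ), zpow_mul, zpow_natCast, hζ.pow_eq_one, one_zpow, one_div,
    neg_mul, zpow_neg]

/-- Integral coefficients of a generalized character on a cyclic group. -/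
theorem exists_coeff {G : Type u} [Group G] [Finite G] {D : Subgroup G} {f : G → ℂ}
    (hf : Cfsg.IsGeneralizedCharacter D fun x : D => f (x : G)) {g : G} (hg : g ∈ D) {n : ℕ}
    (hn : 0 < n) (ho : g ^ n = 1) {ζ : ℂ} (hζ : IsPrimitiveRoot ζ n) :
    ∃ m : ℕ → ℤ, ∀ a : ℕ, f (g ^ a) = ∑ j ∈ range n, (m j : ℂ) * expo ζ (j : ℤ) a := by
  classical
  haveI : NeZero n := ⟨hn.ne'⟩
  have key : ∀ {η : D → ℂ}, Cfsg.IsCharacter D η →
      ∃ c : ℕ → ℕ, ∀ a : ℕ, η (⟨g, hg⟩ ^ a) = ∑ j ∈ range n, (c j : ℂ) * expo ζ (j : ℤ) a := by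
    intro η hη
    obtain ⟨d, ρ, hρ⟩ := hη
    obtain ⟨μ, hμ, hj, -⟩ := Characters.exists_eigenvalues ρ (⟨g, hg⟩ : D)
    have hroot : ∀ l, ∃ j < n, ζ ^ j = μ l := fun l => by
      refine hζ.eq_pow_of_pow_eq_one ?_
      obtain ⟨c, hc⟩ : orderOf (⟨g, hg⟩ : D) ∣ n := orderOf_dvd_of_pow_eq_one (Subtype.ext ho)
      rw [hc, pow_mul, hμ l, one_pow]
    choose r hr hrμ using hroot
    refine ⟨fun j => (univ.filter fun l => r l = j).card, fun a => ?_⟩
    rw [← hρ, hj a, ← sum_fiberwise_of_maps_to (g := r) fun l _ => mem_range.2 (hr l)]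
    refine sum_congr rfl fun j _ => ?_
    rw [sum_congr rfl (g := fun _ => expo ζ (j : ℤ) a) fun l hl => by
      rw [← hrμ l, (mem_filter.1 hl).2, expo, zpow_natCast]]
    simp
  obtain ⟨φ, ψ, hφ, hψ, he⟩ := hf
  obtain ⟨c, hc⟩ := key hφ
  obtain ⟨c', hc'⟩ := key hψ
  refine ⟨fun j => (c j : ℤ) - c' j, fun a => ?_⟩
  have h1 := congrFun he (⟨g, hg⟩ ^ a)
  simp only [Pi.sub_apply, SubgroupClass.coe_pow] at h1
  rw [h1, hc, hc', ← sum_sub_distrib]
  exact sum_congr rfl fun j _ => by push_cast; ring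

section Inverse

variable {n : ℕ} (hn : 0 < n) {ζ : ℂ} (hζ : IsPrimitiveRoot ζ n) {f : ℕ → ℂ} {m : ℕ → ℤ}
  (hf : ∀ a, f a = ∑ j ∈ range n, (m j : ℂ) * expo ζ (j : ℤ) a)

include hn hζ hf

theorem coeff_eq {i : ℕ} (hi : i < n) :
    (n : ℂ) * (m i : ℂ) = ∑ a ∈ range n, f a * expo ζ (-(i : ℤ)) a := by
  have h0 : ζ ≠ 0 := hζ.ne_zero hn.ne'
  simp only [hf, sum_mul, mul_assoc, expo_mul h0]
  rw [sum_comm]
  simp only [← mul_sum, sum_expo hn hζ]
  rw [sum_eq_single i]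
  · rw [add_neg_cancel, if_pos (dvd_zero _), mul_comm]
  · intro j hj hne
    rw [if_neg, mul_zero]
    intro hd
    have hj' := mem_range.1 hj
    have hz : (j : ℤ) + -(i : ℤ) = 0 := Int.eq_zero_of_abs_lt_dvd hd (abs_lt.2 ⟨by omega, by omega⟩)
    omega
  · exact fun hn' => absurd (mem_range.2 hi) hn'

theorem coeff_symm (hsym : ∀ a, a ≤ n → f (n - a) = f a) {i : ℕ} (h0i : 0 < i) (hi : i < n) :
    m (n - i) = m i := by
  have hrefl : ∀ g : ℕ → ℂ, g n = g 0 → ∑ a ∈ range n, g (n - a) = ∑ a ∈ range n, g a := by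
    intro g hg
    have h1 := sum_range_succ g n
    rw [sum_range_succ', hg] at h1
    rw [← add_right_cancel h1, ← sum_range_reflect]
    exact sum_congr rfl fun a ha => by
      have := mem_range.1 ha
      congr 1
      omega
  refine Int.cast_injective (α := ℂ) (mul_left_cancel₀ (Nat.cast_ne_zero.2 hn.ne') ?_)
  rw [coeff_eq hn hζ hf hi, coeff_eq hn hζ hf (show n - i < n by omega),
    ← hrefl (fun a => f a * expo ζ (-((n - i : ℕ) : ℤ)) a)]
  · refine sum_congr rfl fun a ha => ?_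
    have ha' := (mem_range.1 ha).le
    rw [hsym a ha', expo_reflect hζ hn _ ha', neg_neg, Nat.cast_sub hi.le]
    congr 1
    rw [expo, expo, sub_eq_add_neg, zpow_add₀ (hζ.ne_zero hn.ne'), zpow_natCast, hζ.pow_eq_one,
      one_mul]
  · have h1 := hsym 0 (Nat.zero_le _)
    simp only [Nat.sub_zero] at h1
    rw [h1]
    congr 1
    rw [expo, expo, pow_zero, ← zpow_natCast, ← zpow_mul, mul_comm, zpow_mul, zpow_natCast,
      hζ.pow_eq_one, one_zpow]

end Inverse

/-- The rotations of order at least four, as exponents. -/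
def rset (h : ℕ) : Finset ℕ := (range (2 * h)).filter fun a => a ≠ 0 ∧ a ≠ h

theorem mem_rset {h a : ℕ} : a ∈ rset h ↔ a < 2 * h ∧ a ≠ 0 ∧ a ≠ h := by simp [rset]

theorem sum_rset {M : Type*} [AddCommMonoid M] {h : ℕ} (g : ℕ → M) (hh : 0 < h) :
    ∑ a ∈ range (2 * h), g a = g 0 + g h + ∑ a ∈ rset h, g a := by
  rw [← sum_filter_add_sum_filter_not (range (2 * h)) (fun a => a ≠ 0 ∧ a ≠ h), add_comm]
  congr 1
  rw [show (range (2 * h)).filter (fun a => ¬(a ≠ 0 ∧ a ≠ h)) = {0, h} from ?_, sum_pair hh.ne]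
  ext a
  simp only [mem_filter, mem_range, mem_insert, mem_singleton]
  omega

/-- A sum of a symmetric family split by parity and pairs. -/
theorem sum_symmetric {M : Type*} [AddCommMonoid M] {q : ℕ} (g : ℕ → M)
    (hg : ∀ i, 0 < i → i < 4 * (q + 1) → g (4 * (q + 1) - i) = g i) :
    ∑ j ∈ range (4 * (q + 1)), g j = g 0 + g (2 * (q + 1)) + 2 • g 1 +
      2 • (∑ i : Fin q, g (2 * (i : ℕ) + 2)) + 2 • (∑ i : Fin q, g (2 * (i : ℕ) + 3)) := by
  have hpar : ∀ (N : ℕ) (g : ℕ → M),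
      ∑ j ∈ range (2 * N), g j = ∑ j ∈ range N, g (2 * j) + ∑ j ∈ range N, g (2 * j + 1) := by
    intro N g
    induction N with
    | zero => simp
    | succ N ih =>
      rw [show 2 * (N + 1) = 2 * N + 1 + 1 by ring, sum_range_succ, sum_range_succ, ih,
        sum_range_succ, sum_range_succ]
      abel
  rw [show 4 * (q + 1) = 2 * ((q + 1) + (q + 1)) by ring, hpar,
    sum_range_add _ (q + 1) (q + 1), sum_range_add _ (q + 1) (q + 1)]
  have he : ∑ j ∈ range (q + 1), g (2 * (q + 1 + j)) =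
      g (2 * (q + 1)) + ∑ i ∈ range q, g (2 * i + 2) := by
    rw [sum_range_succ', Nat.add_zero, add_comm]
    congr 1
    rw [← sum_range_reflect]
    refine sum_congr rfl fun i hi => ?_
    have := mem_range.1 hi
    rw [← hg (2 * i + 2) (by omega) (by omega)]
    congr 1
    omega
  have ho : ∑ j ∈ range (q + 1), g (2 * (q + 1 + j) + 1) =
      g 1 + ∑ i ∈ range q, g (2 * i + 3) := by
    rw [← sum_range_reflect, sum_range_succ', add_comm]
    congr 1
    · rw [← hg 1 (by omega) (by omega)]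
      congr 1
      omega
    · refine sum_congr rfl fun i hi => ?_
      have := mem_range.1 hi
      rw [← hg (2 * i + 3) (by omega) (by omega)]
      congr 1
      omega
  rw [he, ho, sum_range_succ', sum_range_succ', Fin.sum_univ_eq_sum_range (fun i => g (2 * i + 2)),
    Fin.sum_univ_eq_sum_range (fun i => g (2 * i + 3))]
  simp only [two_nsmul, mul_zero, zero_add, mul_add, mul_one,
    show ∀ i : ℕ, 2 * i + 2 + 1 = 2 * i + 3 from fun i => by ring]
  abel

/-- The difference of the two single coefficients. -/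
def nd (q : ℕ) (m : ℕ → ℤ) : ℤ := m 0 - m (2 * (q + 1))

/-- The differences of the even coefficients. -/
def xd {q : ℕ} (m : ℕ → ℤ) (i : Fin q) : ℤ := m (2 * (i : ℕ) + 2) - m 0

/-- The differences of the odd coefficients. -/
def dd {q : ℕ} (m : ℕ → ℤ) (i : Fin q) : ℤ := m (2 * (i : ℕ) + 3) - m 1

section Symmetric

variable {q : ℕ} {m : ℕ → ℤ}
  (hm : ∀ i, 0 < i → i < 4 * (q + 1) → m (4 * (q + 1) - i) = m i)

include hm

theorem even_sum_sub_nd : Even (∑ j ∈ range (4 * (q + 1)), m j - nd q m) := by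
  rw [sum_symmetric m hm, nd]
  exact ⟨m (2 * (q + 1)) + m 1 + (∑ i : Fin q, m (2 * (i : ℕ) + 2)) +
    ∑ i : Fin q, m (2 * (i : ℕ) + 3), by simp only [two_nsmul]; ring⟩

theorem quad_eq :
    (4 * (q + 1) : ℤ) * ∑ j ∈ range (4 * (q + 1)), m j ^ 2 -
        (∑ j ∈ range (4 * (q + 1)), m j) ^ 2 - (∑ j ∈ range (4 * (q + 1)), (-1) ^ j * m j) ^ 2 =
      qf 0 (-nd q m) (xd (q := q) m) + qf 0 0 (dd (q := q) m) := by
  have hs : ∀ j, 0 < j → j < 4 * (q + 1) →
      (-1 : ℤ) ^ (4 * (q + 1) - j) * m (4 * (q + 1) - j) = (-1) ^ j * m j := fun j h1 h2 => by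
    rw [hm j h1 h2]
    congr 1
    refine neg_one_pow_congr ?_
    rw [Nat.even_sub h2.le]
    exact ⟨fun h => h.1 ⟨2 * (q + 1), by ring⟩, fun h => iff_of_true ⟨2 * (q + 1), by ring⟩ h⟩
  rw [sum_symmetric (fun j => m j ^ 2) (fun j h1 h2 => by rw [hm j h1 h2]), sum_symmetric m hm,
    sum_symmetric (fun j => (-1) ^ j * m j) hs]
  have e0 : ∀ i : ℕ, (-1 : ℤ) ^ (2 * i + 2) = 1 := fun i => Even.neg_one_pow ⟨i + 1, by ring⟩
  have e1 : ∀ i : ℕ, (-1 : ℤ) ^ (2 * i + 3) = -1 := fun i => Odd.neg_one_pow ⟨i + 1, by ring⟩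
  have e2 : (-1 : ℤ) ^ (2 * (q + 1)) = 1 := Even.neg_one_pow ⟨q + 1, by ring⟩
  simp only [qf, e0, e1, e2, pow_zero, pow_one, one_mul, sum_neg_distrib, neg_mul,
    sub_zero, nd, xd, dd, sum_add_distrib, sub_sq, add_sq, sum_sub_distrib,
    ← mul_sum, ← sum_mul, sum_const, card_univ, Fintype.card_fin, nsmul_eq_mul,
    sub_neg_eq_add]
  ring

theorem coeff_const (hN : nd q m = 0) (hx : ∀ i : Fin q, xd m i = 0)
    (hd : ∀ i : Fin q, dd m i = 0) {j : ℕ} (hj : j < 4 * (q + 1)) : m j = m (j % 2) := by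
  have hlo : ∀ i, i ≤ 2 * (q + 1) → m i = m (i % 2) := by
    intro i hi
    rcases Nat.even_or_odd' i with ⟨t, rfl | rfl⟩
    · rw [Nat.mul_mod_right]
      rcases Nat.eq_zero_or_pos t with rfl | h0
      · simp
      by_cases ht : t = q + 1
      · rw [ht]
        rw [nd] at hN
        linarith
      · have := hx ⟨t - 1, by omega⟩
        simp only [xd] at this
        rw [show 2 * t = 2 * (t - 1) + 2 by omega]
        linarith
    · rw [show (2 * t + 1) % 2 = 1 by omega]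
      rcases Nat.eq_zero_or_pos t with rfl | h0
      · simp
      have := hd ⟨t - 1, by omega⟩
      simp only [dd] at this
      rw [show 2 * t + 1 = 2 * (t - 1) + 3 by omega]
      linarith
  rcases Nat.lt_or_ge (2 * (q + 1)) j with h1 | h1
  · rw [← hm j (by omega) hj, hlo _ (by omega)]
    congr 1
    omega
  · exact hlo j h1

end Symmetric

/-- The orthogonality pattern of the coefficients. -/
def delta (h : ℕ) (i j : ℤ) : ℤ :=
  (if ((2 * h : ℕ) : ℤ) ∣ i + j then 1 else 0) + (if ((2 * h : ℕ) : ℤ) ∣ i - j then 1 else 0)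

theorem dvd_small {n : ℕ} {x : ℤ} (h1 : -(n : ℤ) < x) (h2 : x < 2 * (n : ℤ)) :
    ((n : ℤ) ∣ x) ↔ x = 0 ∨ x = n := by
  refine ⟨fun hd => ?_, fun h => by rcases h with rfl | rfl <;> simp⟩
  obtain ⟨c, rfl⟩ := hd
  have hn : (0 : ℤ) < n := by nlinarith [Int.natCast_nonneg n]
  have h3 : -1 < c := by nlinarith
  have h4 : c < 2 := by nlinarith
  have : c = 0 ∨ c = 1 := by omega
  rcases this with rfl | rfl <;> simp

section Values

variable {h : ℕ} (hh : 0 < h) {ζ : ℂ} (hζ : IsPrimitiveRoot ζ (2 * h))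

include hh hζ

theorem expo_h (i : ℤ) : expo ζ i h = if (2 : ℤ) ∣ i then 1 else -1 := by
  have h0 : ζ ≠ 0 := hζ.ne_zero (by omega)
  have hh2 : ζ ^ h = -1 := by
    refine ((sq_eq_one_iff).1 (by rw [← pow_mul, mul_comm, hζ.pow_eq_one])).resolve_left ?_
    exact hζ.pow_ne_one_of_pos_of_lt hh.ne' (by omega)
  rw [expo, ← zpow_natCast, ← zpow_mul, mul_comm, zpow_mul, zpow_natCast, hh2]
  split_ifs with hi
  · obtain ⟨c, rfl⟩ := hi
    rw [zpow_mul]
    simp
  · obtain ⟨c, hc⟩ := (Int.not_even_iff_odd.1 fun he => hi (even_iff_two_dvd.1 he))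
    rw [hc, zpow_add₀ (by norm_num), zpow_mul]
    simp

/-- A difference of two coefficients of one parity sees only the rotations of order at least
four. -/
theorem coeff_diff (f : ℕ → ℂ) (m : ℕ → ℤ)
    (hf : ∀ a, f a = ∑ j ∈ range (2 * h), (m j : ℂ) * expo ζ (j : ℤ) a)
    {u v : ℕ} (hu : u < 2 * h) (hv : v < 2 * h) (huv : u % 2 = v % 2) :
    (2 * h : ℂ) * ((m u : ℂ) - m v) =
      ∑ a ∈ rset h, f a * (expo ζ (-(u : ℤ)) a - expo ζ (-(v : ℤ)) a) := by
  have hn : 0 < 2 * h := by omega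
  have h1 := coeff_eq hn hζ hf hu
  have h2 := coeff_eq hn hζ hf hv
  push_cast at h1 h2
  rw [mul_sub, h1, h2, ← sum_sub_distrib]
  simp only [← mul_sub]
  rw [sum_rset _ hh]
  have e0 : expo ζ (-(u : ℤ)) 0 - expo ζ (-(v : ℤ)) 0 = 0 := by simp [expo]
  have eh : expo ζ (-(u : ℤ)) h - expo ζ (-(v : ℤ)) h = 0 := by
    simp only [expo_h hh hζ, dvd_neg]
    rw [sub_eq_zero]
    refine if_congr ?_ rfl rfl
    omega
  rw [e0, eh, mul_zero, mul_zero, zero_add, zero_add]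

theorem coeff_gram {ι : Type*} (s : Finset ι) (f : ι → ℕ → ℂ) (m : ι → ℕ → ℤ)
    (hf : ∀ χ ∈ s, ∀ a, f χ a = ∑ j ∈ range (2 * h), (m χ j : ℂ) * expo ζ (j : ℤ) a)
    (horth : ∀ a ∈ rset h, ∀ b ∈ rset h, ∑ χ ∈ s, f χ a * f χ b =
      (2 * h : ℂ) * ((if a = b then 1 else 0) + if a + b = 2 * h then 1 else 0))
    {i k j l : ℕ} (hi : i < 2 * h) (hk : k < 2 * h) (hj : j < 2 * h) (hl : l < 2 * h)
    (hik : i % 2 = k % 2) (hjl : j % 2 = l % 2) :
    ∑ χ ∈ s, (m χ i - m χ k) * (m χ j - m χ l) =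
      delta h i j - delta h i l - delta h k j + delta h k l := by
  classical
  have hn : 0 < 2 * h := by omega
  have h0 : ζ ≠ 0 := hζ.ne_zero hn.ne'
  set c : ℕ → ℕ → ℕ → ℂ := fun u v a => expo ζ (-(u : ℤ)) a - expo ζ (-(v : ℤ)) a with hc
  have hzero : ∀ {u v : ℕ}, u % 2 = v % 2 → c u v 0 = 0 ∧ c u v h = 0 := fun {u v} huv => by
    refine ⟨by simp [hc, expo], ?_⟩
    simp only [hc, expo_h hh hζ, dvd_neg]
    rw [sub_eq_zero]
    refine if_congr ?_ rfl rfl
    omega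
  have hlin : ∀ {u v : ℕ}, u < 2 * h → v < 2 * h → u % 2 = v % 2 → ∀ χ ∈ s,
      (2 * h : ℂ) * ((m χ u : ℂ) - m χ v) = ∑ a ∈ rset h, f χ a * c u v a :=
    fun hu hv huv χ hχ => coeff_diff hh hζ (f χ) (m χ) (hf χ hχ) hu hv huv
  refine Int.cast_injective (α := ℂ) (mul_left_cancel₀
    (pow_ne_zero 2 (show (2 * h : ℂ) ≠ 0 by exact_mod_cast hn.ne')) ?_)
  push_cast
  rw [mul_sum, sum_congr rfl (g := fun χ => ∑ a ∈ rset h, ∑ b ∈ rset h,
    c i k a * c j l b * (f χ a * f χ b)) fun χ hχ => ?_]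
  swap
  · rw [show (2 * (h : ℂ)) ^ 2 * (((m χ i : ℂ) - m χ k) * ((m χ j : ℂ) - m χ l)) =
      ((2 * h : ℂ) * ((m χ i : ℂ) - m χ k)) * ((2 * h : ℂ) * ((m χ j : ℂ) - m χ l)) by ring,
      hlin hi hk hik χ hχ, hlin hj hl hjl χ hχ, sum_mul_sum]
    exact sum_congr rfl fun a _ => sum_congr rfl fun b _ => by ring
  rw [sum_comm]
  simp only [sum_comm (s := s), ← mul_sum]
  rw [sum_congr rfl (g := fun a => (2 * h : ℂ) * (c i k a * (c j l a + c j l (2 * h - a))))
    fun a ha => ?_]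
  swap
  · obtain ⟨ha1, ha0, hah⟩ := mem_rset.1 ha
    have ha' : 2 * h - a ∈ rset h := mem_rset.2 ⟨by omega, by omega, by omega⟩
    rw [sum_congr rfl fun b hb => by rw [horth a ha b hb]]
    simp only [mul_add, sum_add_distrib]
    rw [sum_eq_single a, sum_eq_single (2 * h - a)]
    · rw [if_pos rfl, if_pos (by omega)]
      ring
    · intro b hb hne
      rw [if_neg (by omega)]
      ring
    · exact fun hn' => absurd ha' hn'
    · intro b hb hne
      rw [if_neg (Ne.symm hne)]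
      ring
    · exact fun hn' => absurd ha hn'
  rw [← mul_sum]
  have hext : ∑ a ∈ rset h, c i k a * (c j l a + c j l (2 * h - a)) =
      ∑ a ∈ range (2 * h), c i k a * (c j l a + c j l (2 * h - a)) := by
    rw [sum_rset _ hh, (hzero hik).1, (hzero hik).2]
    ring
  rw [hext, sum_congr rfl (g := fun a =>
    (expo ζ (-(i : ℤ) + -(j : ℤ)) a + expo ζ (-(i : ℤ) + j) a) -
      (expo ζ (-(i : ℤ) + -(l : ℤ)) a + expo ζ (-(i : ℤ) + l) a) -
      (expo ζ (-(k : ℤ) + -(j : ℤ)) a + expo ζ (-(k : ℤ) + j) a) +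
      (expo ζ (-(k : ℤ) + -(l : ℤ)) a + expo ζ (-(k : ℤ) + l) a)) fun a ha => by
    have ha' := (mem_range.1 ha).le
    simp only [hc, expo_reflect hζ hn _ ha', neg_neg, ← expo_mul h0]
    ring]
  simp only [sum_add_distrib, sum_sub_distrib, sum_expo hn hζ]
  have hd : ∀ u v : ℕ, ((if ((2 * h : ℕ) : ℤ) ∣ -(u : ℤ) + -(v : ℤ) then ((2 * h : ℕ) : ℂ) else 0) +
      if ((2 * h : ℕ) : ℤ) ∣ -(u : ℤ) + v then ((2 * h : ℕ) : ℂ) else 0) =
      (2 * h : ℂ) * (delta h u v : ℂ) := fun u v => by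
    rw [← neg_add, show -(u : ℤ) + v = -((u : ℤ) - v) by ring]
    simp only [dvd_neg, delta]
    push_cast
    split_ifs <;> ring
  rw [hd, hd, hd, hd]
  ring

theorem sum_sq_rset (f : ℕ → ℂ) (m : ℕ → ℤ)
    (hf : ∀ a, f a = ∑ j ∈ range (2 * h), (m j : ℂ) * expo ζ (j : ℤ) a)
    (hsym : ∀ a, a ≤ 2 * h → f (2 * h - a) = f a) :
    ∑ a ∈ rset h, f a ^ 2 = (((2 * h : ℕ) : ℤ) * ∑ j ∈ range (2 * h), m j ^ 2 -
      (∑ j ∈ range (2 * h), m j) ^ 2 - (∑ j ∈ range (2 * h), (-1) ^ j * m j) ^ 2 : ℤ) := by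
  classical
  have hn : 0 < 2 * h := by omega
  have h0 : ζ ≠ 0 := hζ.ne_zero hn.ne'
  have hA : f 0 = ((∑ j ∈ range (2 * h), m j : ℤ) : ℂ) := by
    rw [hf, Int.cast_sum]
    exact sum_congr rfl fun j _ => by simp [expo]
  have hB : f h = ((∑ j ∈ range (2 * h), (-1) ^ j * m j : ℤ) : ℂ) := by
    rw [hf, Int.cast_sum]
    refine sum_congr rfl fun j _ => ?_
    rw [expo_h hh hζ, Int.cast_mul, Int.cast_pow, mul_comm]
    congr 1
    rcases Nat.even_or_odd' j with ⟨t, rfl | rfl⟩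
    · rw [if_pos (by omega)]
      simp [pow_mul]
    · rw [if_neg (by omega)]
      simp [pow_succ, pow_mul]
  have htot : ∑ a ∈ range (2 * h), f a ^ 2 =
      ((2 * h : ℕ) : ℂ) * ((∑ j ∈ range (2 * h), m j ^ 2 : ℤ) : ℂ) := by
    rw [Int.cast_sum, mul_sum,
      sum_congr rfl (g := fun a => ∑ i ∈ range (2 * h), ∑ j ∈ range (2 * h),
        (m i : ℂ) * (m j : ℂ) * expo ζ ((i : ℤ) + -(j : ℤ)) a) fun a ha => ?_]
    · rw [sum_comm]
      refine sum_congr rfl fun i hi => ?_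
      rw [sum_comm]
      simp only [← mul_sum, sum_expo hn hζ]
      rw [sum_eq_single i]
      · rw [add_neg_cancel, if_pos (dvd_zero _)]
        push_cast
        ring
      · intro j hj hne
        rw [if_neg, mul_zero]
        intro hd
        have hi' := mem_range.1 hi
        have hj' := mem_range.1 hj
        have hz := Int.eq_zero_of_abs_lt_dvd hd (abs_lt.2 ⟨by omega, by omega⟩)
        omega
      · exact fun hn' => absurd hi hn'
    · have ha' := (mem_range.1 ha).le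
      rw [sq]
      nth_rewrite 2 [← hsym a ha']
      rw [hf, hf, sum_mul_sum]
      refine sum_congr rfl fun i _ => sum_congr rfl fun j _ => ?_
      rw [expo_reflect hζ hn _ ha', ← expo_mul h0]
      ring
  rw [sum_rset _ hh, hA, hB] at htot
  push_cast at htot ⊢
  linear_combination htot

theorem eq_zero_of_const (f : ℕ → ℂ) (m : ℕ → ℤ)
    (hf : ∀ a, f a = ∑ j ∈ range (2 * h), (m j : ℂ) * expo ζ (j : ℤ) a)
    (hm : ∀ j < 2 * h, m j = m (j % 2)) {a : ℕ} (ha : a ∈ rset h) : f a = 0 := by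
  obtain ⟨ha1, ha0, hah⟩ := mem_rset.1 ha
  set u := ζ ^ a with hu
  have hu2 : u ^ 2 ≠ 1 := by
    rw [hu, ← pow_mul, ne_eq, hζ.pow_eq_one_iff_dvd]
    rintro ⟨c, hc⟩
    have : c < 2 := by
      by_contra hc'
      nlinarith [Nat.mul_le_mul_left (2 * h) (not_lt.1 hc')]
    interval_cases c <;> omega
  have hpair : ∀ N, ∑ j ∈ range (2 * N), (m (j % 2) : ℂ) * u ^ j =
      ((m 0 : ℂ) + (m 1 : ℂ) * u) * ∑ i ∈ range N, (u ^ 2) ^ i := by
    intro N
    induction N with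
    | zero => simp
    | succ N ih =>
      rw [show 2 * (N + 1) = 2 * N + 1 + 1 by ring, sum_range_succ, sum_range_succ, ih,
        sum_range_succ, Nat.mul_mod_right, show (2 * N + 1) % 2 = 1 by omega, ← pow_mul]
      ring
  rw [hf, sum_congr rfl (g := fun j => (m (j % 2) : ℂ) * u ^ j) fun j hj => by
    rw [hm j (mem_range.1 hj), expo, zpow_natCast, hu, ← pow_mul, ← pow_mul, mul_comm j a], hpair,
    geom_sum_eq hu2, ← pow_mul, hu, ← pow_mul, mul_comm a, pow_mul, hζ.pow_eq_one]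
  simp

end Values

end CfsgLib.TameSQ
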