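import Cfsg.Agent.TameSQ.QFusion
import Cfsg.Agent.TameSQ.Coeff

/-!
# The columns of a block with quaternion defect group

`col a χ = F χ (σ ^ a)`: for `a` in `rset h` they are orthogonal, so their integral coefficients
have the inner products of the frame; exactly four members have height zero; at the
representatives outside the rotations the norms are `1 / 4` on these four and zero elsewhere; the
identity of the contributions becomes an identity of integers.
-/

set_option autoImplicit false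
set_option linter.unusedSectionVars false
set_option linter.style.haveILetI false

namespace CfsgLib.TameSQ

open Cfsg CfsgLib.BlockPairs CfsgLib.Star
open CfsgLib.Blocks (Res)
open CfsgLib.TameBlocks (Fused IsReps sval sum_sval exists_rank)
open CfsgLib.Contributions (contrib)
open scoped ComplexConjugate Classical

universe u

variable {G : Type u} [Group G] [Fintype G] {M : Ideal AlgInt} [M.IsPrime]
  [CharP (Res M) 2] [IsAlgClosed (Res M)] (hM : Cfsg.IsPModular 2 M)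
  {B : Set (IrrCharacter G)} (hB : Cfsg.IsPBlock M B)
  {D : Subgroup G} {eP : GA (Res M) G} (hmax : IsMaxPair 2 (⊤ : Subgroup G) (gblk M B) D eP)
  {h : ℕ} {S : QShape D h} {hDK : D ≤ KT S eP} (𝒞 : LocData M eP (KT S eP) hDK)

/-- The value of the generalized character at `σ ^ a`. -/
noncomputable def col (a : ℕ) (χ : IrrCharacter G) : ℂ := F 𝒞 (χ : G → ℂ) (S.σ ^ a)

theorem conj_col (a : ℕ) (χ : IrrCharacter G) : conj (col 𝒞 a χ) = col 𝒞 a χ := by
  rw [col, conj_F 𝒞 χ (S.zpowers_le (S.pow_mem_zpowers a)),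
    ← S.refl_conj S.τ_mem S.τ_not_mem (S.pow_mem_zpowers a),
    F_conj 𝒞 χ (S.zpowers_le (S.pow_mem_zpowers a)) S.τ_mem]

theorem pow_reflect {a : ℕ} (ha : a ≤ 2 * h) : S.σ ^ (2 * h - a) = (S.σ ^ a)⁻¹ := by
  refine eq_inv_of_mul_eq_one_left ?_
  rw [← pow_add, Nat.sub_add_cancel ha, S.pow_two_h]

theorem col_reflect {a : ℕ} (ha : a ≤ 2 * h) (χ : IrrCharacter G) :
    col 𝒞 (2 * h - a) χ = col 𝒞 a χ := by
  rw [col, pow_reflect ha, ← conj_F 𝒞 χ (S.zpowers_le (S.pow_mem_zpowers a))]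
  exact conj_col 𝒞 a χ

include 𝒞 in
theorem rset_ne {a : ℕ} (ha : a ∈ rset h) : S.σ ^ a ≠ 1 ∧ S.σ ^ a ≠ S.z := by
  obtain ⟨h1, h2, h3⟩ := mem_rset.1 ha
  exact ⟨fun e => h2 (S.sigma_pow_inj h1 (by omega) (by rw [e, pow_zero])),
    fun e => h3 (S.sigma_pow_inj h1 (by omega) e)⟩

/-- The representative of `σ ^ a`. -/
noncomputable def fold (h a : ℕ) : ℕ := if a ≤ h then a else 2 * h - a

theorem fold_mem {a : ℕ} (ha : a ∈ rset h) : fold h a ∈ rset h ∧ fold h a ≤ h := by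
  obtain ⟨h1, h2, h3⟩ := mem_rset.1 ha
  rw [fold]
  split_ifs with hle
  · exact ⟨ha, hle⟩
  · exact ⟨mem_rset.2 ⟨by omega, by omega, by omega⟩, by omega⟩

theorem col_fold {a : ℕ} (ha : a ∈ rset h) (χ : IrrCharacter G) :
    col 𝒞 (fold h a) χ = col 𝒞 a χ := by
  rw [fold]
  split_ifs with hle
  · rfl
  · exact col_reflect 𝒞 (mem_rset.1 ha).1.le χ

include hM hB hmax

theorem sval_col {a : ℕ} (ha : a ∈ rset h) (χ ψ : IrrCharacter G) :
    sval 2 D eP (S.σ ^ a) (χ : G → ℂ) ψ = col 𝒞 a χ * col 𝒞 a ψ / (2 * h : ℂ) := by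
  obtain ⟨h1, hz⟩ := rset_ne 𝒞 ha
  have hσ := S.pow_mem_zpowers a
  rw [sval_eq_F hM hmax 𝒞 (Characters.isClassFunction_of_isIrr χ.2)
    (Characters.isClassFunction_of_isIrr ψ.2) (S.zpowers_le hσ)
    (centralizer_rot_le_KT hB hmax S hσ h1 hz), S.inf_centralizer hσ h1 hz, S.card_zpowers_sigma]
  push_cast
  rw [show conj (F 𝒞 (ψ : G → ℂ) (S.σ ^ a)) = col 𝒞 a ψ from conj_col 𝒞 a ψ]
  rfl

/-- The columns are orthogonal. -/
theorem sum_col_mul {a b : ℕ} (ha : a ∈ rset h) (hb : b ∈ rset h) :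
    ∑ χ ∈ B.toFinset, col 𝒞 a χ * col 𝒞 b χ =
      (2 * h : ℂ) * ((if a = b then 1 else 0) + if a + b = 2 * h then 1 else 0) := by
  obtain ⟨ha', hal⟩ := fold_mem ha
  obtain ⟨hb', hbl⟩ := fold_mem hb
  obtain ⟨h1, hz⟩ := rset_ne 𝒞 ha'
  obtain ⟨h1', hz'⟩ := rset_ne 𝒞 hb'
  have hσ := S.pow_mem_zpowers (fold h a)
  have hσ' := S.pow_mem_zpowers (fold h b)
  have hR := isReps_reps hB hmax S
  have hsum := sum_F_mul_conj hM hB hmax 𝒞 hR
    (rots_subset_reps hB hmax S (rot_mem_rots S hal)) (centralizer_rot_le_KT hB hmax S hσ h1 hz)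
    (rots_subset_reps hB hmax S (rot_mem_rots S hbl)) (centralizer_rot_le_KT hB hmax S hσ' h1' hz')
  rw [← Finset.sum_filter, S.inf_centralizer hσ h1 hz, S.card_zpowers_sigma] at hsum
  rw [Finset.sum_congr (s₂ := Finset.univ.filter fun χ => χ ∈ B) (g := fun χ : IrrCharacter G =>
    F 𝒞 (χ : G → ℂ) (S.σ ^ fold h a) * conj (F 𝒞 (χ : G → ℂ) (S.σ ^ fold h b)))
    (by ext; simp) (fun χ _ => by
      rw [← col_fold 𝒞 ha χ, ← col_fold 𝒞 hb χ, ← conj_col 𝒞 (fold h b) χ]; rfl), hsum]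
  have hiff : S.σ ^ fold h a = S.σ ^ fold h b ↔ a = b ∨ a + b = 2 * h := by
    have := mem_rset.1 ha
    have := mem_rset.1 hb
    refine ⟨fun e => ?_, fun e => ?_⟩
    · have := S.sigma_pow_inj (mem_rset.1 ha').1 (mem_rset.1 hb').1 e
      simp only [fold] at this
      split_ifs at this <;> omega
    · congr 1
      simp only [fold]
      split_ifs <;> omega
  have hnot : ¬(a = b ∧ a + b = 2 * h) := by
    have := mem_rset.1 ha
    omega
  simp only [hiff]
  push_cast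
  by_cases e1 : a = b <;> by_cases e2 : a + b = 2 * h <;> simp_all

include 𝒞 in
theorem trace_rot {a : ℕ} (ha : a ∈ rset h) (hal : a ≤ h) :
    ∑ χ : IrrCharacter G,
      (if χ ∈ B then sval 2 D eP (S.σ ^ a) (χ : G → ℂ) χ else 0) = 1 := by
  obtain ⟨h1, hz⟩ := rset_ne 𝒞 ha
  exact trace_loc hM hB hmax 𝒞 (isReps_reps hB hmax S)
    (rots_subset_reps hB hmax S (rot_mem_rots S hal))
    (centralizer_rot_le_KT hB hmax S (S.pow_mem_zpowers a) h1 hz)

/-- The forms of the identity are orthogonal to the columns. -/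
theorem sum_contrib_mul_col {a : ℕ} (ha : a ∈ rset h) {χ : IrrCharacter G} (hχ : χ ∈ B) :
    ∑ ψ ∈ B.toFinset, (contrib 2 B χ ψ : ℂ) * col 𝒞 a ψ = 0 := by
  haveI : Fact (Nat.Prime 2) := ⟨Nat.prime_two⟩
  obtain ⟨ha', hal⟩ := fold_mem ha
  obtain ⟨h1, hz⟩ := rset_ne 𝒞 ha'
  have hσ := S.pow_mem_zpowers (fold h a)
  have hs := sum_sval_mul_F hM hB hmax 𝒞 (isReps_reps hB hmax S)
    (rots_subset_reps hB hmax S (rot_mem_rots S hal)) (centralizer_rot_le_KT hB hmax S hσ h1 hz)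
    (rots_subset_reps hB hmax S (one_mem_rots S)) (Ne.symm h1) hχ
  rw [← Finset.sum_filter] at hs
  rw [← mul_zero (Nat.card D : ℂ), ← hs, Finset.mul_sum]
  refine Finset.sum_congr (by ext; simp) fun ψ hψ => ?_
  rw [← card_mul_sval_one hM hB hmax hχ (Finset.mem_filter.1 hψ).2, ← col_fold 𝒞 ha ψ, mul_assoc]
  rfl

/-- The identity of the contributions, by representatives. -/
theorem sum_sval_split {χ ψ : IrrCharacter G} (hχ : χ ∈ B) (hψ : ψ ∈ B) :
    (4 * h : ℂ) * (if χ = ψ then 1 else 0) = (contrib 2 B χ ψ : ℂ) +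
      (4 * h : ℂ) * sval 2 D eP S.z (χ : G → ℂ) ψ + ∑ a ∈ rset h, col 𝒞 a χ * col 𝒞 a ψ +
      (4 * h : ℂ) * ∑ r ∈ reps S eP \ rots S, sval 2 D eP r (χ : G → ℂ) ψ := by
  haveI : Fact (Nat.Prime 2) := ⟨Nat.prime_two⟩
  have hh := S.h_pos
  rw [← sum_sval hM hB hmax (isReps_reps hB hmax S) hχ hψ,
    ← Finset.sum_sdiff (rots_subset_reps hB hmax S), mul_add, add_comm]
  congr 1
  rw [rots, Finset.sum_image fun a ha b hb e => S.sigma_pow_inj
    (by simp at ha; omega) (by simp at hb; omega) e]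
  have hsplit : ∀ g : ℕ → ℂ,
      ∑ a ∈ Finset.range (h + 1), g a = g 0 + g h + ∑ a ∈ Finset.Ico 1 h, g a := by
    intro g
    rw [Finset.range_eq_Ico, Finset.sum_Ico_succ_top (Nat.zero_le h),
      Finset.sum_eq_sum_Ico_succ_bot hh]
    ring
  rw [hsplit, mul_add, mul_add]
  congr 1
  · congr 1
    rw [pow_zero, ← card_mul_sval_one hM hB hmax hχ hψ, S.card]
    push_cast
    rfl
  have hdis : rset h = Finset.Ico 1 h ∪ (Finset.Ico 1 h).image fun a => 2 * h - a := by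
    ext a
    simp only [mem_rset, Finset.mem_union, Finset.mem_image, Finset.mem_Ico]
    constructor
    · intro ha
      by_cases hl : a < h
      · exact Or.inl ⟨by omega, hl⟩
      · exact Or.inr ⟨2 * h - a, ⟨by omega, by omega⟩, by omega⟩
    · rintro (ha | ⟨b, hb, rfl⟩) <;> omega
  rw [hdis, Finset.sum_union, Finset.sum_image, Finset.mul_sum, ← Finset.sum_add_distrib]
  · refine Finset.sum_congr rfl fun a ha => ?_
    have ha' := Finset.mem_Ico.1 ha
    rw [sval_col hM hB hmax 𝒞 (mem_rset.2 ⟨by omega, by omega, by omega⟩),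
      col_reflect 𝒞 (by omega), col_reflect 𝒞 (by omega)]
    have : (h : ℂ) ≠ 0 := Nat.cast_ne_zero.2 hh.ne'
    field_simp
    ring
  · intro a ha b hb e
    simp only [Finset.coe_Ico, Set.mem_Ico] at ha hb
    simp only at e
    omega
  · rw [Finset.disjoint_left]
    intro a ha ha'
    obtain ⟨b, hb, rfl⟩ := Finset.mem_image.1 ha'
    simp only [Finset.mem_Ico] at ha hb
    omega

/-- At a height zero member the value at the identity is odd. -/
theorem not_memLocalIdeal_col_zero {χ : IrrCharacter G} (hχ : χ ∈ B)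
    (h0 : Cfsg.blockHeight 2 B (χ : G → ℂ) = 0) :
    ¬ Cfsg.MemLocalIdeal M (col 𝒞 0 χ) := by
  intro hI
  have hh := S.h_pos
  have h1m : (1 : ℕ) ∈ rset h := mem_rset.2 ⟨by omega, by omega, by have := S.h_two_le; omega⟩
  have hsub := F_sub_mem hM hmax 𝒞 χ (S.zpowers_le (S.pow_mem_zpowers 1))
  have hI1 : Cfsg.MemLocalIdeal M (col 𝒞 1 χ) := by
    have := CfsgLib.Blocks.memLocalIdeal_add hsub hI
    rw [col, pow_zero] at this
    rwa [sub_add_cancel] at this
  refine not_memLocalIdeal_cval hM hB hmax (S.zpowers_le (S.pow_mem_zpowers 1))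
    (defect_rot hB hmax S (S.pow_mem_zpowers 1)) hχ hχ h0 h0 ?_
  rw [cval_eq, sval_col hM hB hmax 𝒞 h1m, S.inf_centralizer (S.pow_mem_zpowers 1) (rset_ne 𝒞 h1m).1
    (rset_ne 𝒞 h1m).2, S.card_zpowers_sigma]
  have : (h : ℂ) ≠ 0 := Nat.cast_ne_zero.2 hh.ne'
  push_cast
  rw [mul_div_cancel₀ _ (by simpa using this)]
  exact CfsgLib.Blocks.memLocalIdeal_mul_right hI1 (CfsgLib.Blocks.memLocalRing_of_isIntegral
    (F_isIntegral 𝒞 χ (S.zpowers_le (S.pow_mem_zpowers 1))))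

end CfsgLib.TameSQ
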