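import Cfsg.Agent.TameSQ.Columns

/-!
# Four members of height zero

The coefficients `m χ` of the columns: their differences have the inner products of the frame and
`N χ = m χ 0 - m χ h` is odd in height zero; so exactly four members have height zero, and the
contributions at the representatives outside the rotations are carried by these four.
-/

set_option autoImplicit false
set_option linter.unusedSectionVars false
set_option linter.style.haveILetI false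

namespace CfsgLib.TameSQ

open Cfsg CfsgLib.BlockPairs CfsgLib.Star
open CfsgLib.Blocks (Res)
open CfsgLib.TameBlocks (Fused IsReps sval)
open CfsgLib.Contributions (contrib)
open scoped ComplexConjugate Classical

universe u

/-- The root of unity. -/
noncomputable def zeta (h : ℕ) : ℂ := Complex.exp (2 * Real.pi * Complex.I / (2 * h : ℕ))

theorem zeta_spec {h : ℕ} (hh : 0 < h) : IsPrimitiveRoot (zeta h) (2 * h) :=
  Complex.isPrimitiveRoot_exp _ (by omega)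

theorem intCast_memLocalIdeal_iff_even {M : Ideal AlgInt} [M.IsPrime]
    (hM : Cfsg.IsPModular 2 M) (z : ℤ) : Cfsg.MemLocalIdeal M (z : ℂ) ↔ Even z := by
  haveI : Fact (Nat.Prime 2) := ⟨Nat.prime_two⟩
  rw [MajorSubsection.memLocalIdeal_intCast_iff hM, even_iff_two_dvd]
  norm_num

variable {G : Type u} [Group G] [Fintype G] {M : Ideal AlgInt} [M.IsPrime]
  [CharP (Res M) 2] [IsAlgClosed (Res M)] (hM : Cfsg.IsPModular 2 M)
  {B : Set (IrrCharacter G)} (hB : Cfsg.IsPBlock M B)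
  {D : Subgroup G} {eP : GA (Res M) G} (hmax : IsMaxPair 2 (⊤ : Subgroup G) (gblk M B) D eP)
  {h : ℕ} {S : QShape D h} {hDK : D ≤ KT S eP} (𝒞 : LocData M eP (KT S eP) hDK)
  {q : ℕ} (hq : h = 2 * (q + 1))

theorem exists_coeffs : ∃ m : IrrCharacter G → ℕ → ℤ, ∀ χ a,
    col 𝒞 a χ = ∑ j ∈ Finset.range (2 * h), (m χ j : ℂ) * expo (zeta h) (j : ℤ) a := by
  choose m hm using fun χ : IrrCharacter G => exists_coeff (isGen_F 𝒞 χ) S.σ_mem
    (n := 2 * h) (by have := S.h_pos; omega) S.pow_two_h (zeta_spec S.h_pos)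
  exact ⟨m, hm⟩

/-- The integral coefficients of the columns. -/
noncomputable def mcoef (χ : IrrCharacter G) : ℕ → ℤ := (exists_coeffs 𝒞).choose χ

theorem col_eq (χ : IrrCharacter G) (a : ℕ) :
    col 𝒞 a χ = ∑ j ∈ Finset.range (2 * h), (mcoef 𝒞 χ j : ℂ) * expo (zeta h) (j : ℤ) a :=
  (exists_coeffs 𝒞).choose_spec χ a

theorem mcoef_symm (χ : IrrCharacter G) {i : ℕ} (h0 : 0 < i) (hi : i < 2 * h) :
    mcoef 𝒞 χ (2 * h - i) = mcoef 𝒞 χ i :=
  coeff_symm (f := fun a => col 𝒞 a χ) (by omega) (zeta_spec S.h_pos) (col_eq 𝒞 χ)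
    (fun _ ha => col_reflect 𝒞 ha χ) h0 hi

include hq in
theorem mcoef_symm' (χ : IrrCharacter G) :
    ∀ i, 0 < i → i < 4 * (q + 1) → mcoef 𝒞 χ (4 * (q + 1) - i) = mcoef 𝒞 χ i := fun i h0 hi => by
  have := mcoef_symm 𝒞 χ h0 (show i < 2 * h by omega)
  rwa [show 2 * h = 4 * (q + 1) by omega] at this

/-- The odd difference. -/
noncomputable def Nv (q : ℕ) (χ : IrrCharacter G) : ℤ := nd q (mcoef 𝒞 χ)

/-- The differences of the even coefficients. -/
noncomputable def xv (χ : IrrCharacter G) (i : Fin q) : ℤ := xd (mcoef 𝒞 χ) i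

/-- The differences of the odd coefficients. -/
noncomputable def dv (χ : IrrCharacter G) (i : Fin q) : ℤ := dd (mcoef 𝒞 χ) i

/-- The sum of the squares of the columns. -/
noncomputable def lev (q : ℕ) (χ : IrrCharacter G) : ℤ :=
  qf 0 (-Nv 𝒞 q χ) (xv (q := q) 𝒞 χ) + qf 0 0 (dv (q := q) 𝒞 χ)

include hq in
theorem sum_col_sq (χ : IrrCharacter G) :
    ∑ a ∈ rset h, col 𝒞 a χ * col 𝒞 a χ = (lev 𝒞 q χ : ℂ) := by
  have h1 := sum_sq_rset S.h_pos (zeta_spec S.h_pos) (fun a => col 𝒞 a χ) (mcoef 𝒞 χ) (col_eq 𝒞 χ)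
    (fun _ ha => col_reflect 𝒞 ha χ)
  simp only [sq] at h1
  rw [h1]
  congr 1
  have h2 := quad_eq (q := q) (m := mcoef 𝒞 χ) (mcoef_symm' 𝒞 hq χ)
  rw [show (4 * (q + 1) : ℤ) = ((2 * h : ℕ) : ℤ) by rw [hq]; push_cast; ring,
    show 4 * (q + 1) = 2 * h by omega] at h2
  simp only [sq] at h2
  exact h2

include hM hB hmax hq

theorem gram (i k j l : ℕ) (hi : i < 2 * h) (hk : k < 2 * h) (hj : j < 2 * h) (hl : l < 2 * h)
    (hik : i % 2 = k % 2) (hjl : j % 2 = l % 2) :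
    ∑ χ ∈ B.toFinset, (mcoef 𝒞 χ i - mcoef 𝒞 χ k) * (mcoef 𝒞 χ j - mcoef 𝒞 χ l) =
      delta h i j - delta h i l - delta h k j + delta h k l :=
  coeff_gram S.h_pos (zeta_spec S.h_pos) B.toFinset (fun χ a => col 𝒞 a χ) (mcoef 𝒞)
    (fun χ _ => col_eq 𝒞 χ) (fun _ ha _ hb => sum_col_mul hM hB hmax 𝒞 ha hb) hi hk hj hl hik hjl

theorem sum_Nv_sq : ∑ χ ∈ B.toFinset, Nv 𝒞 q χ ^ 2 = 4 := by
  have h1 := gram hM hB hmax 𝒞 hq 0 h 0 h (by omega) (by omega) (by omega) (by omega) (by omega)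
    (by omega)
  simp only [sq, Nv, nd, ← hq]
  rw [h1]
  simp only [delta, dvd_small (n := 2 * h) (x := ((0 : ℕ) : ℤ) + (h : ℤ)) (by omega) (by omega),
    dvd_small (n := 2 * h) (x := ((0 : ℕ) : ℤ) - (h : ℤ)) (by omega) (by omega),
    dvd_small (n := 2 * h) (x := (h : ℤ) + ((0 : ℕ) : ℤ)) (by omega) (by omega),
    dvd_small (n := 2 * h) (x := (h : ℤ) - ((0 : ℕ) : ℤ)) (by omega) (by omega),
    dvd_small (n := 2 * h) (x := (h : ℤ) + (h : ℤ)) (by omega) (by omega),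
    dvd_small (n := 2 * h) (x := (h : ℤ) - (h : ℤ)) (by omega) (by omega)]
  split_ifs <;> simp at * <;> omega

theorem Nv_odd {χ : IrrCharacter G} (hχ : χ ∈ B) (h0 : Cfsg.blockHeight 2 B (χ : G → ℂ) = 0) :
    Odd (Nv 𝒞 q χ) := by
  have h1 := not_memLocalIdeal_col_zero hM hB hmax 𝒞 hχ h0
  have hcol : col 𝒞 0 χ = ((∑ j ∈ Finset.range (2 * h), mcoef 𝒞 χ j : ℤ) : ℂ) := by
    rw [col_eq, Int.cast_sum]
    exact Finset.sum_congr rfl fun j _ => by simp [expo]
  rw [hcol, intCast_memLocalIdeal_iff_even hM, Int.not_even_iff_odd] at h1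
  have h2 := even_sum_sub_nd (q := q) (mcoef_symm' 𝒞 hq χ)
  rw [show 4 * (q + 1) = 2 * h by omega] at h2
  have := h1.sub_even h2
  rwa [sub_sub_cancel] at this

omit 𝒞 hq in
theorem pow_defect (S : QShape D h) : 2 ^ Cfsg.blockDefect 2 B = 4 * h := by
  haveI : Fact (Nat.Prime 2) := ⟨Nat.prime_two⟩
  rw [← CfsgLib.Blocks.card_defectGroup hM hB
    ((isDefectGroup_gblk_iff hB D).2 (hmax.isDefectGrp (isBlock_gblk hB)).1), S.card]

include 𝒞

theorem card_height_zero :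
    (B.toFinset.filter fun χ : IrrCharacter G => Cfsg.blockHeight 2 B (χ : G → ℂ) = 0).card = 4 := by
  haveI : Fact (Nat.Prime 2) := ⟨Nat.prime_two⟩
  set Z := B.toFinset.filter fun χ : IrrCharacter G => Cfsg.blockHeight 2 B (χ : G → ℂ) = 0 with hZ
  have hmem : ∀ {χ}, χ ∈ Z → χ ∈ B ∧ Cfsg.blockHeight 2 B (χ : G → ℂ) = 0 := fun h => by
    obtain ⟨a, b⟩ := Finset.mem_filter.1 h
    exact ⟨Set.mem_toFinset.1 a, b⟩
  have hle : Z.card ≤ 4 := by
    have h1 : ∀ χ ∈ Z, 1 ≤ Nv 𝒞 q χ ^ 2 := fun χ hχ => one_le_sq_of_ne_zero fun e => by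
      have := Nv_odd hM hB hmax 𝒞 hq (hmem hχ).1 (hmem hχ).2
      rw [e] at this
      simp at this
    have h2 := (Finset.sum_le_sum h1).trans (Finset.sum_le_sum_of_subset_of_nonneg
      (show Z ⊆ B.toFinset from Finset.filter_subset _ _) fun _ _ _ => sq_nonneg _)
    rw [sum_Nv_sq hM hB hmax 𝒞 hq, Finset.sum_const, nsmul_eq_mul, mul_one] at h2
    omega
  obtain ⟨φ, hφ, hφ0⟩ := CfsgLib.Blocks.exists_height_zero hM (p := 2) hB
  have hpos : 0 < Z.card := Finset.card_pos.2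
    ⟨φ, Finset.mem_filter.2 ⟨Set.mem_toFinset.2 hφ, hφ0⟩⟩
  have hsq := Contributions.sum_sq (p := 2) hM hB hφ
  rw [show ((2 : ℕ) : ℤ) ^ Cfsg.blockDefect 2 B = 4 * h from by
      exact_mod_cast pow_defect hM hB hmax S,
    ← Finset.sum_filter_add_sum_filter_not B.toFinset
      (fun χ : IrrCharacter G => Cfsg.blockHeight 2 B (χ : G → ℂ) = 0)] at hsq
  have hodd : ∀ ψ ∈ Z, ∃ c : ℤ, contrib 2 B φ ψ ^ 2 = 4 * c + 1 := fun ψ hψ => by
    have h1 := Contributions.not_dvd_of_height_zero hM hB hφ (hmem hψ).1 (hmem hψ).2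
    rw [hφ0, zero_add, pow_one] at h1
    obtain ⟨c, hc⟩ := Int.not_even_iff_odd.1 fun he => h1 (by exact_mod_cast even_iff_two_dvd.1 he)
    exact ⟨c * c + c, by rw [hc]; ring⟩
  have hev : ∀ ψ ∈ B.toFinset.filter
      (fun χ : IrrCharacter G => ¬ Cfsg.blockHeight 2 B (χ : G → ℂ) = 0),
      (4 : ℤ) ∣ contrib 2 B φ ψ ^ 2 := fun ψ hψ => by
    obtain ⟨hψB, hψ0⟩ := Finset.mem_filter.1 hψ
    have hψB' := Set.mem_toFinset.1 hψB
    rw [Contributions.contrib_symm hφ hψB']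
    have h1 : ((2 : ℕ) : ℤ) ∣ contrib 2 B ψ φ :=
      (dvd_pow_self _ hψ0).trans (Contributions.height_spec hM hψB' φ).1
    exact_mod_cast pow_dvd_pow_of_dvd h1 2
  choose! c hc using hodd
  obtain ⟨d, hd⟩ := Finset.dvd_sum hev
  rw [← hZ, Finset.sum_congr rfl hc, Finset.sum_add_distrib, ← Finset.mul_sum, hd] at hsq
  simp only [Finset.sum_const, nsmul_eq_mul, mul_one] at hsq
  rw [mul_assoc] at hsq
  omega

theorem Nv_eq_zero {χ : IrrCharacter G} (hχ : χ ∈ B)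
    (h0 : Cfsg.blockHeight 2 B (χ : G → ℂ) ≠ 0) : Nv 𝒞 q χ = 0 := by
  set Z := B.toFinset.filter fun χ : IrrCharacter G => Cfsg.blockHeight 2 B (χ : G → ℂ) = 0 with hZ
  have h1 : ∀ ψ ∈ Z, 1 ≤ Nv 𝒞 q ψ ^ 2 := fun ψ hψ => one_le_sq_of_ne_zero fun e => by
    obtain ⟨a, b⟩ := Finset.mem_filter.1 hψ
    have := Nv_odd hM hB hmax 𝒞 hq (Set.mem_toFinset.1 a) b
    rw [e] at this
    simp at this
  have h2 := Finset.sum_le_sum h1
  rw [Finset.sum_const, hZ, card_height_zero hM hB hmax 𝒞 hq] at h2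
  have h3 := sum_Nv_sq hM hB hmax 𝒞 hq
  rw [← Finset.sum_filter_add_sum_filter_not B.toFinset
    (fun χ : IrrCharacter G => Cfsg.blockHeight 2 B (χ : G → ℂ) = 0)] at h3
  have h4 := Finset.single_le_sum (f := fun ψ => Nv 𝒞 q ψ ^ 2) (fun _ _ => sq_nonneg _)
    (show χ ∈ B.toFinset.filter fun χ : IrrCharacter G => ¬ Cfsg.blockHeight 2 B (χ : G → ℂ) = 0
      from Finset.mem_filter.2 ⟨Set.mem_toFinset.2 hχ, h0⟩)
  refine sq_eq_zero_iff.1 (le_antisymm ?_ (sq_nonneg _))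
  simp at h2
  rw [hZ] at h1
  linarith

/-- The contributions at the other representatives. -/
theorem sval_other {r : G} (hr : r ∈ reps S eP) (hn : r ∉ rots S) {χ : IrrCharacter G}
    (hχ : χ ∈ B) :
    sval 2 D eP r (χ : G → ℂ) χ =
      if Cfsg.blockHeight 2 B (χ : G → ℂ) = 0 then (4 : ℂ)⁻¹ else 0 := by
  haveI : Fact (Nat.Prime 2) := ⟨Nat.prime_two⟩
  have hR := isReps_reps hB hmax S
  have hrD := hR.1 r hr
  have hrσ := not_mem_zpowers_of_reps hB hmax S hr hn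
  have hd := defect_other hB hmax S hr hn
  have hC := S.inf_centralizer_refl hrD hrσ
  have hcard : (Nat.card ↥(D ⊓ Subgroup.centralizer ({r} : Set G)) : ℂ) = 4 := by
    rw [hC, Nat.card_zpowers, S.orderOf_refl hrD hrσ]
    norm_num
  have htr := trace_small hM hB hmax hrD hC hd
  choose t ht0 ht hT using fun ψ : IrrCharacter G => exists_sval_self (D := D) (eP := eP) r
    (ψ : G → ℂ)
  have hone : ∀ ψ ∈ B, Cfsg.blockHeight 2 B (ψ : G → ℂ) = 0 → 1 / 4 ≤ t ψ := by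
    intro ψ hψ hψ0
    have hw : S.w * r * S.w⁻¹ = r⁻¹ := by
      have h1 := S.refl_conj hrD hrσ (inv_mem S.w_mem_zpowers)
      rw [inv_inv] at h1
      calc S.w * r * S.w⁻¹ = S.w * (r * S.w⁻¹ * r⁻¹) * r := by group
        _ = S.w * S.w * r := by rw [h1]
        _ = r⁻¹ := by
          rw [S.w_mul_w, ← S.refl_sq hrD hrσ]
          refine eq_inv_of_mul_eq_one_left ?_
          rw [show r * r * r * r = r * r * (r * r) by group, S.refl_sq hrD hrσ, S.z_mul_z]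
    have h4 : r ^ 4 = 1 := by
      have := pow_orderOf_eq_one r
      rwa [S.orderOf_refl hrD hrσ] at this
    have hf := Characters.isClassFunction_of_isIrr ψ.2
    have h1 := one_le_aval hM hB hmax hrD hd hψ hψ0 fun k hk => by
      have hodd : k % 2 = 1 := by
        rcases Nat.even_or_odd' k with ⟨j, rfl | rfl⟩
        · exfalso
          have : 2 ∣ Nat.card D := by rw [S.card]; omega
          have h2 := Nat.dvd_gcd (Dvd.intro j rfl : 2 ∣ 2 * j) this
          rw [hk.gcd_eq_one] at h2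
          norm_num at h2
        · omega
      have hrk : r ^ k = r ^ (k % 4) := pow_eq_pow_mod k h4
      rcases (show k % 4 = 1 ∨ k % 4 = 3 by omega) with e | e
      · rw [hrk, e, pow_one]
      · have hinv : r ^ k = S.w * r * S.w⁻¹ := by
          rw [hw, hrk, e]
          exact eq_inv_of_mul_eq_one_left (by rw [← pow_succ, h4])
        rw [hinv, cval_eq, cval_eq, sval_conj_mem hmax hf hf S.w_mem hrD, hw]
        congr 3
        rw [← Star.cent_zpowers, ← Star.cent_zpowers, Subgroup.zpowers_inv]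
    rw [cval_eq, hcard, ht ψ, norm_mul, Complex.norm_real, Real.norm_of_nonneg (ht0 ψ)] at h1
    norm_num at h1 ⊢
    linarith
  have hsum : ∑ ψ ∈ B.toFinset, t ψ = 1 := by
    refine Complex.ofReal_injective ?_
    push_cast
    rw [← htr, ← Finset.sum_filter]
    exact Finset.sum_congr (by ext; simp) fun ψ _ => (ht ψ).symm
  set Z := B.toFinset.filter fun χ : IrrCharacter G => Cfsg.blockHeight 2 B (χ : G → ℂ) = 0 with hZ
  rw [← Finset.sum_filter_add_sum_filter_not B.toFinset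
    (fun χ : IrrCharacter G => Cfsg.blockHeight 2 B (χ : G → ℂ) = 0), ← hZ] at hsum
  have hZle : ∀ ψ ∈ Z, 1 / 4 ≤ t ψ := fun ψ hψ =>
    hone ψ (Set.mem_toFinset.1 (Finset.mem_filter.1 hψ).1) (Finset.mem_filter.1 hψ).2
  have hZsum : ∑ ψ ∈ Z, (1 / 4 : ℝ) = 1 := by
    rw [Finset.sum_const, hZ, card_height_zero hM hB hmax 𝒞 hq]
    norm_num
  have hZ1 := Finset.sum_le_sum hZle
  have hrest : 0 ≤ ∑ ψ ∈ B.toFinset.filter
      (fun χ : IrrCharacter G => ¬ Cfsg.blockHeight 2 B (χ : G → ℂ) = 0), t ψ :=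
    Finset.sum_nonneg fun ψ _ => ht0 ψ
  rw [ht χ]
  split_ifs with h0
  · have := (Finset.sum_eq_sum_iff_of_le hZle).1 (by linarith) χ
      (Finset.mem_filter.2 ⟨Set.mem_toFinset.2 hχ, h0⟩)
    rw [← this]
    norm_num
  · have := (Finset.sum_eq_zero_iff_of_nonneg fun ψ _ => ht0 ψ).1
      (show ∑ ψ ∈ B.toFinset.filter
        (fun χ : IrrCharacter G => ¬ Cfsg.blockHeight 2 B (χ : G → ℂ) = 0), t ψ = 0 by linarith) χ
      (Finset.mem_filter.2 ⟨Set.mem_toFinset.2 hχ, h0⟩)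
    rw [this, Complex.ofReal_zero]

theorem sum_contrib_mul_diff {χ : IrrCharacter G} (hχ : χ ∈ B) {u v : ℕ} (hu : u < 2 * h)
    (hv : v < 2 * h) (huv : u % 2 = v % 2) :
    ∑ ψ ∈ B.toFinset, contrib 2 B χ ψ * (mcoef 𝒞 ψ u - mcoef 𝒞 ψ v) = 0 := by
  refine Int.cast_injective (α := ℂ) (mul_left_cancel₀
    (show (2 * h : ℂ) ≠ 0 by have := S.h_pos; exact_mod_cast (by omega : 2 * h ≠ 0)) ?_)
  push_cast
  rw [mul_zero, Finset.mul_sum, Finset.sum_congr rfl (g := fun ψ =>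
    ∑ a ∈ rset h, (expo (zeta h) (-(u : ℤ)) a - expo (zeta h) (-(v : ℤ)) a) *
      ((contrib 2 B χ ψ : ℂ) * col 𝒞 a ψ)) fun ψ _ => by
      rw [mul_left_comm, coeff_diff S.h_pos (zeta_spec S.h_pos) (fun a => col 𝒞 a ψ) (mcoef 𝒞 ψ)
        (col_eq 𝒞 ψ) hu hv huv, Finset.mul_sum]
      exact Finset.sum_congr rfl fun a _ => by ring]
  rw [Finset.sum_comm]
  refine Finset.sum_eq_zero fun a ha => ?_
  rw [← Finset.mul_sum, sum_contrib_mul_col hM hB hmax 𝒞 ha hχ, mul_zero]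

end CfsgLib.TameSQ
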