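import Mathlib.Tactic

/-!
# Counting in the frame of a block with quaternion defect group

Vectors of integers `d · i`, `x · i` (`i < q`) and `N` on a finite set: the differences of the
Fourier coefficients of the columns at the rotations of a quaternion group of order `4 * h`,
`h = 2 * (q + 1)`, with the form `A` of the identity and the diagonal `Z` of the central involution.
`Frame.main` reads off the heights and bounds the size.
-/

set_option autoImplicit false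

namespace CfsgLib.TameSQ

open Finset

/-- The sum of the squared differences over the ordered pairs from two single values and `q` pairs
of equal values. -/
def qf {q : ℕ} (c₀ c₁ : ℤ) (y : Fin q → ℤ) : ℤ :=
  2 * (c₀ - c₁) ^ 2 + 4 * ∑ i, ((y i - c₀) ^ 2 + (y i - c₁) ^ 2) + 4 * ∑ i, ∑ j, (y i - y j) ^ 2

theorem one_le_sq_of_ne_zero {a : ℤ} (h : a ≠ 0) : 1 ≤ a ^ 2 := sq_pos_iff.2 h

theorem qf_nonneg {q : ℕ} (c₀ c₁ : ℤ) (y : Fin q → ℤ) : 0 ≤ qf c₀ c₁ y := by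
  unfold qf
  have h1 : 0 ≤ ∑ i, ((y i - c₀) ^ 2 + (y i - c₁) ^ 2) := sum_nonneg fun i _ => by positivity
  have h2 : 0 ≤ ∑ i, ∑ j, (y i - y j) ^ 2 := sum_nonneg fun i _ => sum_nonneg fun j _ => sq_nonneg _
  nlinarith [sq_nonneg (c₀ - c₁)]

/-- The lower bound of a nonzero vector and its case of equality. -/
theorem qf_zero {q : ℕ} {y : Fin q → ℤ} {i₀ : Fin q} (h0 : y i₀ ≠ 0) :
    8 * (q : ℤ) ≤ qf 0 0 y ∧ (qf 0 0 y = 8 * q →
      y i₀ ^ 2 = 1 ∧ (∀ i, y i ≠ 0 → y i = y i₀) ∧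
        ((∀ i, y i ≠ 0 → i = i₀) ∨ ∀ i, y i ≠ 0)) := by
  classical
  set S := univ.filter fun i => y i ≠ 0 with hS
  set a : ℤ := (S.card : ℤ) with ha
  have hi₀ : i₀ ∈ S := mem_filter.2 ⟨mem_univ _, h0⟩
  have ha1 : 1 ≤ a := by
    have := card_pos.2 ⟨i₀, hi₀⟩
    omega
  set T := univ.filter fun i => ¬ y i ≠ 0 with hT
  have hST : a + (T.card : ℤ) = q := by
    have h1 : S.card + T.card = q := by
      rw [hS, hT, card_filter_add_card_filter_not, card_univ, Fintype.card_fin]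
    omega
  set P := ∑ i ∈ S, y i ^ 2 with hP
  have hPa : a ≤ P := by
    rw [ha, hP, card_eq_sum_ones, Nat.cast_sum]
    exact sum_le_sum fun i hi => by simpa using one_le_sq_of_ne_zero (mem_filter.1 hi).2
  set W := ∑ i ∈ S, ∑ j ∈ S, (y i - y j) ^ 2 with hW
  have hW0 : 0 ≤ W := sum_nonneg fun i _ => sum_nonneg fun j _ => sq_nonneg _
  have hsum : ∑ i, y i ^ 2 = P := by
    rw [hP, hS, sum_filter]
    exact sum_congr rfl fun i _ => by split_ifs with h <;> simp_all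
  have hcross : ∑ i, ∑ j, (y i - y j) ^ 2 = W + 2 * (T.card : ℤ) * P := by
    have hsplit : ∀ f : Fin q → ℤ, ∑ i, f i = ∑ i ∈ S, f i + ∑ i ∈ T, f i := fun f =>
      (sum_filter_add_sum_filter_not _ _ _).symm
    have hTz : ∀ i ∈ T, y i = 0 := fun i hi => not_not.1 (mem_filter.1 hi).2
    have hrowT : ∀ i ∈ T, ∑ j, (y i - y j) ^ 2 = P := fun i hi => by
      rw [← hsum]
      exact sum_congr rfl fun j _ => by rw [hTz i hi]; ring
    have hrowS : ∀ i ∈ S, ∑ j, (y i - y j) ^ 2 =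
        ∑ j ∈ S, (y i - y j) ^ 2 + (T.card : ℤ) * y i ^ 2 := fun i _ => by
      rw [hsplit, sum_congr rfl (s₂ := T) (g := fun _ => y i ^ 2) fun j hj => by
        rw [hTz j hj, sub_zero], sum_const, nsmul_eq_mul]
    rw [hsplit, sum_congr rfl hrowS, sum_congr rfl hrowT, sum_add_distrib, ← mul_sum, sum_const,
      nsmul_eq_mul, ← hW, ← hP]
    ring
  have hq : qf 0 0 y = 8 * P + 4 * W + 8 * (T.card : ℤ) * P := by
    rw [qf, hcross]
    simp only [sub_zero, sum_add_distrib, hsum]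
    ring
  have hT0 : (0 : ℤ) ≤ T.card := Int.natCast_nonneg _
  have key : 0 ≤ (a - 1) * (T.card : ℤ) := mul_nonneg (by omega) hT0
  refine ⟨by rw [hq]; nlinarith, fun he => ?_⟩
  rw [hq] at he
  have hPeq : P = a := by nlinarith
  have hWeq : W = 0 := by nlinarith
  have hkey : (a - 1) * (T.card : ℤ) = 0 := by nlinarith
  have hone : ∀ i ∈ S, y i ^ 2 = 1 := by
    refine fun i hi => ((sum_eq_sum_iff_of_le (f := fun _ => (1 : ℤ)) fun j hj =>
      one_le_sq_of_ne_zero (mem_filter.1 hj).2).1 ?_ i hi).symm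
    simp only [sum_const, nsmul_eq_mul, mul_one]
    rw [← hP, hPeq, ha]
  refine ⟨hone i₀ hi₀, fun i hi => ?_, ?_⟩
  · have h1 := (sum_eq_zero_iff_of_nonneg fun j _ => sum_nonneg fun l _ => sq_nonneg _).1 hWeq i
      (mem_filter.2 ⟨mem_univ _, hi⟩)
    have h2 := (sum_eq_zero_iff_of_nonneg fun j _ => sq_nonneg _).1 h1 i₀ hi₀
    exact sub_eq_zero.1 (sq_eq_zero_iff.1 h2)
  · rcases mul_eq_zero.1 hkey with h1 | h1
    · left
      intro i hi
      have hc : S.card = 1 := by omega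
      exact card_le_one.1 hc.le i (mem_filter.2 ⟨mem_univ _, hi⟩) i₀ hi₀
    · right
      intro i
      by_contra hi
      have : T.card ≠ 0 := (card_pos.2 ⟨i, mem_filter.2 ⟨mem_univ _, not_not.2 hi⟩⟩).ne'
      omega

/-- Two different single values differ from every pair. -/
theorem qf_ne {q : ℕ} {c₀ c₁ : ℤ} (y : Fin q → ℤ) (h : c₀ ≠ c₁) :
    4 * (q : ℤ) + 2 ≤ qf c₀ c₁ y := by
  have h1 : (q : ℤ) ≤ ∑ i, ((y i - c₀) ^ 2 + (y i - c₁) ^ 2) := by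
    calc (q : ℤ) = ∑ _i : Fin q, (1 : ℤ) := by simp
      _ ≤ _ := sum_le_sum fun i _ => by
        by_cases e : y i = c₀
        · rw [e, sub_self]
          simpa using one_le_sq_of_ne_zero (sub_ne_zero.2 h)
        · have := one_le_sq_of_ne_zero (sub_ne_zero.2 e)
          nlinarith [sq_nonneg (y i - c₁)]
  have h2 : 0 ≤ ∑ i, ∑ j, (y i - y j) ^ 2 := sum_nonneg fun i _ => sum_nonneg fun j _ => sq_nonneg _
  have h3 := one_le_sq_of_ne_zero (sub_ne_zero.2 h)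
  rw [qf]
  linarith

/-- Pairs with the values of the two single ones. -/
theorem qf_two {q : ℕ} {t : ℤ} (y : Fin q → ℤ) (ht : t ^ 2 = 1) (hy : ∀ i, y i = 0 ∨ y i = t) :
    qf 0 t y = 4 * q + 2 + 8 * ((univ.filter fun i => y i ≠ 0).card : ℤ) *
      ((univ.filter fun i => ¬ y i ≠ 0).card : ℤ) := by
  classical
  set S := univ.filter fun i => y i ≠ 0
  set T := univ.filter fun i => ¬ y i ≠ 0
  have h1 : ∀ i, (y i - 0) ^ 2 + (y i - t) ^ 2 = 1 := fun i => by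
    rcases hy i with e | e <;> rw [e] <;> ring_nf <;> exact ht
  have hsplit : ∀ f : Fin q → ℤ, ∑ i, f i = ∑ i ∈ S, f i + ∑ i ∈ T, f i := fun f =>
    (sum_filter_add_sum_filter_not _ _ _).symm
  have hSt : ∀ i ∈ S, y i = t := fun i hi => (hy i).resolve_left (mem_filter.1 hi).2
  have hTz : ∀ i ∈ T, y i = 0 := fun i hi => not_not.1 (mem_filter.1 hi).2
  have hS' : ∀ i ∈ S, ∑ j, (y i - y j) ^ 2 = (T.card : ℤ) := fun i hi => by
    rw [hsplit, sum_eq_zero (fun j hj => by rw [hSt i hi, hSt j hj]; ring),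
      sum_congr rfl (g := fun _ => (1 : ℤ)) fun j hj => by rw [hSt i hi, hTz j hj, sub_zero, ht]]
    simp
  have hT' : ∀ i ∈ T, ∑ j, (y i - y j) ^ 2 = (S.card : ℤ) := fun i hi => by
    rw [hsplit, sum_congr rfl (g := fun _ => (1 : ℤ))
        (fun j hj => by rw [hTz i hi, hSt j hj, zero_sub, neg_sq, ht]),
      sum_eq_zero (s := T) fun j hj => by rw [hTz i hi, hTz j hj]; ring]
    simp
  rw [qf, hsplit (fun i => ∑ j, (y i - y j) ^ 2), sum_congr rfl hS', sum_congr rfl hT']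
  simp only [h1, sum_const, card_univ, Fintype.card_fin, nsmul_eq_mul, mul_one, zero_sub, neg_sq, ht]
  ring

/-- The data. -/
structure Frame (ι : Type*) (s : Finset ι) (q : ℕ) where
  ht : ι → ℕ
  A : ι → ι → ℤ
  Z : ι → ℤ
  N : ι → ℤ
  x : ι → Fin q → ℤ
  d : ι → Fin q → ℤ
  q_cases : q ≤ 1 ∨ 3 ≤ q
  k_ge : 2 * q + 4 ≤ s.card
  zero_card : (s.filter fun χ => ht χ = 0).card = 4
  N_sq : ∑ χ ∈ s, N χ ^ 2 = 4
  N_odd : ∀ χ ∈ s, ht χ = 0 → Odd (N χ)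
  gram_xx : ∀ i j, ∑ χ ∈ s, x χ i * x χ j = 2 + if i = j then 1 else 0
  gram_xN : ∀ i, ∑ χ ∈ s, x χ i * N χ = -2
  gram_dd : ∀ i j, ∑ χ ∈ s, d χ i * d χ j = 1 + if i = j then 1 else 0
  Z_pos : ∀ χ ∈ s, 1 ≤ Z χ
  total : ∀ χ ∈ s,
    A χ χ + Z χ + qf 0 (-N χ) (x χ) + qf 0 0 (d χ) ≤ 8 * ((q : ℤ) + 1) ∧
    (ht χ ≠ 0 → A χ χ + Z χ + qf 0 (-N χ) (x χ) + qf 0 0 (d χ) = 8 * ((q : ℤ) + 1) ∧ 4 ∣ Z χ)
  mul : ∀ χ ∈ s, ∀ χ' ∈ s, ∑ ψ ∈ s, A χ ψ * A χ' ψ = 8 * ((q : ℤ) + 1) * A χ χ'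
  symm : ∀ χ ∈ s, ∀ ψ ∈ s, A χ ψ = A ψ χ
  exact_zero : ∀ χ ∈ s, ∀ φ ∈ s, ht φ = 0 → ¬ (2 : ℤ) ^ (ht χ + 1) ∣ A χ φ
  pow_dvd : ∀ χ ∈ s, ∀ ψ ∈ s, (2 : ℤ) ^ ht χ ∣ A χ ψ
  diag_dvd : ∀ χ ∈ s, ht χ ≠ 0 → (2 : ℤ) ^ (ht χ + 1) ∣ A χ χ
  ht_le : ∀ χ ∈ s, 2 ^ ht χ ≤ 2 * (q + 1)
  high : ∀ χ ∈ s, ht χ ≠ 0 → N χ = 0 → (∀ i, x χ i = 0) → (∀ i, d χ i = 0) →
    2 * (q + 1) ∣ 2 ^ ht χ ∧ (∑ ψ ∈ s, A χ ψ * N ψ = 0) ∧ ∀ i, ∑ ψ ∈ s, A χ ψ * x ψ i = 0

namespace Frame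

variable {ι : Type*} {s : Finset ι} {q : ℕ} (T : Frame ι s q)

/-- The members of height zero. -/
def four : Finset ι := s.filter fun χ => T.ht χ = 0

theorem mem_four {χ : ι} : χ ∈ T.four ↔ χ ∈ s ∧ T.ht χ = 0 := mem_filter

theorem four_subset : T.four ⊆ s := filter_subset _ _

theorem card_four : T.four.card = 4 := T.zero_card

theorem N_sq_four {χ : ι} (hχ : χ ∈ T.four) : T.N χ ^ 2 = 1 := by
  obtain ⟨h1, h2⟩ := T.mem_four.1 hχ
  have hle : ∀ ψ ∈ T.four, 1 ≤ T.N ψ ^ 2 := fun ψ hψ => by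
    obtain ⟨a, b⟩ := T.mem_four.1 hψ
    refine one_le_sq_of_ne_zero fun e => ?_
    have := T.N_odd ψ a b
    rw [e] at this
    simp at this
  have h3 : ∑ ψ ∈ T.four, T.N ψ ^ 2 ≤ 4 := T.N_sq ▸
    sum_le_sum_of_subset_of_nonneg T.four_subset fun _ _ _ => sq_nonneg _
  have h4 : ∑ ψ ∈ T.four, (1 : ℤ) = 4 := by simp [T.card_four]
  exact ((sum_eq_sum_iff_of_le hle).1 (le_antisymm (sum_le_sum hle) (h3.trans_eq h4.symm)) χ hχ).symm

theorem sum_split (f : ι → ℤ) :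
    ∑ χ ∈ s, f χ = ∑ χ ∈ T.four, f χ + ∑ χ ∈ s.filter (fun χ => T.ht χ ≠ 0), f χ :=
  (sum_filter_add_sum_filter_not s _ f).symm

theorem N_eq_zero {χ : ι} (hχ : χ ∈ s) (h : T.ht χ ≠ 0) : T.N χ = 0 := by
  have h1 := T.sum_split fun χ => T.N χ ^ 2
  rw [T.N_sq, sum_congr rfl (fun χ hχ => T.N_sq_four hχ), sum_const, T.card_four] at h1
  have h2 : ∑ χ ∈ s.filter (fun χ => T.ht χ ≠ 0), T.N χ ^ 2 = 0 := by simp at h1; linarith
  exact sq_eq_zero_iff.1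
    ((sum_eq_zero_iff_of_nonneg fun _ _ => sq_nonneg _).1 h2 χ (mem_filter.2 ⟨hχ, h⟩))

theorem row (χ : ι) (hχ : χ ∈ s) :
    ∑ ψ ∈ s, T.A χ ψ ^ 2 = 8 * ((q : ℤ) + 1) * T.A χ χ := by
  rw [← T.mul χ hχ χ hχ]
  simp only [sq]

theorem ne_zero_four {χ φ : ι} (hχ : χ ∈ s) (hφ : φ ∈ T.four) : T.A χ φ ≠ 0 := fun e =>
  T.exact_zero χ hχ φ (T.mem_four.1 hφ).1 (T.mem_four.1 hφ).2 (e ▸ dvd_zero _)

theorem A_self_pos {χ : ι} (hχ : χ ∈ s) : 1 ≤ T.A χ χ := by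
  obtain ⟨φ, hφ⟩ : T.four.Nonempty := card_pos.1 (by rw [T.card_four]; norm_num)
  have h1 := T.row χ hχ
  have h2 := single_le_sum (f := fun ψ => T.A χ ψ ^ 2) (fun _ _ => sq_nonneg _) (T.four_subset hφ)
  have h3 := one_le_sq_of_ne_zero (T.ne_zero_four hχ hφ)
  have : (0 : ℤ) ≤ q := Int.natCast_nonneg q
  nlinarith

theorem four_dvd {χ : ι} (hχ : χ ∈ s) (h : T.ht χ ≠ 0) : 4 ∣ T.A χ χ :=
  (show (4 : ℤ) ∣ 2 ^ (T.ht χ + 1) by
    simpa using pow_dvd_pow (2 : ℤ) (show 2 ≤ T.ht χ + 1 by omega)).trans (T.diag_dvd χ hχ h)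

/-- The members with columns at the rotations have height one. -/
theorem family {χ : ι} (hχ : χ ∈ s) (h : T.ht χ ≠ 0) (h' : ∃ i, T.x χ i ≠ 0 ∨ T.d χ i ≠ 0) :
    T.ht χ = 1 ∧
      ((qf 0 0 (T.x χ) = 8 * q ∧ ∀ i, T.d χ i = 0) ∨ (qf 0 0 (T.d χ) = 8 * q ∧ ∀ i, T.x χ i = 0)) := by
  obtain ⟨he, hz⟩ := (T.total χ hχ).2 h
  rw [T.N_eq_zero hχ h, neg_zero] at he
  have hA := Int.le_of_dvd (by linarith [T.A_self_pos hχ]) (T.four_dvd hχ h)
  have hZ := Int.le_of_dvd (by linarith [T.Z_pos χ hχ]) hz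
  have hxn := qf_nonneg 0 0 (T.x χ)
  have hdn := qf_nonneg 0 0 (T.d χ)
  have hq : 1 ≤ (q : ℤ) := by
    obtain ⟨i, -⟩ := h'
    have := i.pos
    omega
  have hht : T.A χ χ = 4 → T.ht χ = 1 := fun e => by
    have h1 := Int.le_of_dvd (by norm_num) (e ▸ T.diag_dvd χ hχ h)
    have h2 : T.ht χ + 1 ≤ 2 := by
      by_contra hc
      have := pow_le_pow_right₀ (show (1 : ℤ) ≤ 2 by norm_num) (show 3 ≤ T.ht χ + 1 by omega)
      linarith
    omega
  by_cases hd : ∃ i, T.d χ i ≠ 0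
  · obtain ⟨i, hi⟩ := hd
    have h1 := (qf_zero hi).1
    refine ⟨hht (by linarith), Or.inr ⟨by linarith, fun j => ?_⟩⟩
    by_contra hj
    have := (qf_zero hj).1
    linarith
  · push Not at hd
    obtain ⟨i, hi⟩ := h'
    have h1 := (qf_zero (hi.resolve_right (not_not.2 (hd i)))).1
    exact ⟨hht (by linarith), Or.inl ⟨by linarith, hd⟩⟩

/-- The remaining members. -/
theorem high_spec {χ : ι} (hχ : χ ∈ s) (h : T.ht χ ≠ 0) (hx : ∀ i, T.x χ i = 0)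
    (hd : ∀ i, T.d χ i = 0) :
    2 ^ T.ht χ = 2 * (q + 1) ∧ (∀ φ ∈ T.four, T.A χ φ ^ 2 = (2 * ((q : ℤ) + 1)) ^ 2) ∧
      ∀ ψ ∈ s, T.ht ψ ≠ 0 → ψ ≠ χ → T.A χ ψ = 0 := by
  classical
  have hpow : 2 ^ T.ht χ = 2 * (q + 1) := le_antisymm (T.ht_le χ hχ)
    (Nat.le_of_dvd (pow_pos two_pos _) (T.high χ hχ h (T.N_eq_zero hχ h) hx hd).1)
  have hpow' : (2 : ℤ) ^ T.ht χ = 2 * ((q : ℤ) + 1) := by exact_mod_cast hpow
  set a := T.A χ χ
  set F := T.four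
  have hle : ∀ φ ∈ F, (2 * ((q : ℤ) + 1)) ^ 2 ≤ T.A χ φ ^ 2 := fun φ hφ => by
    refine Int.le_of_dvd (sq_pos_iff.2 (T.ne_zero_four hχ hφ)) (pow_dvd_pow_of_dvd ?_ 2)
    rw [← hpow']
    exact T.pow_dvd χ hχ φ (T.four_subset hφ)
  set R := (s.filter fun ψ => T.ht ψ ≠ 0).erase χ
  have hrow := T.row χ hχ
  rw [T.sum_split fun ψ => T.A χ ψ ^ 2,
    ← add_sum_erase _ _ (mem_filter.2 ⟨hχ, h⟩ : χ ∈ s.filter fun ψ => T.ht ψ ≠ 0)] at hrow
  have hR : 0 ≤ ∑ ψ ∈ R, T.A χ ψ ^ 2 := sum_nonneg fun _ _ => sq_nonneg _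
  have hF : ∑ φ ∈ F, (2 * ((q : ℤ) + 1)) ^ 2 ≤ ∑ φ ∈ F, T.A χ φ ^ 2 := sum_le_sum hle
  have h4 : ∑ φ ∈ F, (2 * ((q : ℤ) + 1)) ^ 2 = 4 * (2 * ((q : ℤ) + 1)) ^ 2 := by
    simp [F, T.card_four]
  have hkey := sq_nonneg (a - 4 * ((q : ℤ) + 1))
  refine ⟨hpow, fun φ hφ => ((sum_eq_sum_iff_of_le hle).1 (by nlinarith) φ hφ).symm,
    fun ψ hψ hψ0 hne => ?_⟩
  exact sq_eq_zero_iff.1 ((sum_eq_zero_iff_of_nonneg fun _ _ => sq_nonneg _).1
    (show ∑ ψ ∈ R, T.A χ ψ ^ 2 = 0 by nlinarith) ψ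
    (mem_erase.2 ⟨hne, mem_filter.2 ⟨hψ, hψ0⟩⟩))

theorem two_ht_one {χ : ι} (h : (2 : ℤ) ^ T.ht χ ∣ 2) : T.ht χ ≤ 1 := by
  by_contra hc
  have h1 := Int.le_of_dvd (by norm_num) h
  have := pow_le_pow_right₀ (show (1 : ℤ) ≤ 2 by norm_num) (show 2 ≤ T.ht χ by omega)
  linarith

/-- A row of height zero with unit diagonal. -/
theorem caseA {φ : ι} (hφ : φ ∈ T.four) (h1 : T.A φ φ = 1) :
    s.card = 2 * q + 5 ∧ ∀ χ ∈ s, T.ht χ ≠ 0 → T.ht χ = 1 := by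
  classical
  set R := s.filter fun ψ => T.ht ψ ≠ 0
  have hφs := T.four_subset hφ
  have hle : ∀ ψ ∈ R, 4 ≤ T.A φ ψ ^ 2 := fun ψ hψ => by
    obtain ⟨hs', h0⟩ := mem_filter.1 hψ
    rw [T.symm φ hφs ψ hs']
    have h2 : (2 : ℤ) ∣ T.A ψ φ := (dvd_pow_self 2 h0).trans (T.pow_dvd ψ hs' φ hφs)
    exact Int.le_of_dvd (sq_pos_iff.2 (T.ne_zero_four hs' hφ))
      ((show (4 : ℤ) = 2 ^ 2 by norm_num) ▸ pow_dvd_pow_of_dvd h2 2)
  have hrow := T.row φ hφs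
  rw [T.sum_split fun ψ => T.A φ ψ ^ 2, h1] at hrow
  have hF : (4 : ℤ) ≤ ∑ ψ ∈ T.four, T.A φ ψ ^ 2 := by
    calc (4 : ℤ) = ∑ ψ ∈ T.four, (1 : ℤ) := by simp [T.card_four]
      _ ≤ _ := sum_le_sum fun ψ hψ => one_le_sq_of_ne_zero (T.ne_zero_four hφs hψ)
  have hR : ∑ ψ ∈ R, (4 : ℤ) ≤ ∑ ψ ∈ R, T.A φ ψ ^ 2 := sum_le_sum hle
  have hcard : T.four.card + R.card = s.card := card_filter_add_card_filter_not _
  have hk := T.k_ge
  rw [T.card_four] at hcard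
  simp only [sum_const, nsmul_eq_mul] at hR
  have hRc : (R.card : ℤ) = 2 * q + 1 := by
    by_contra hne
    have hle' : (R.card : ℤ) ≤ 2 * q + 1 := by linarith
    have hRc' : (R.card : ℤ) = 2 * q := by omega
    -- the squares at the four are `1` modulo eight
    have hodd : ∀ ψ ∈ T.four, ∃ b : ℤ, T.A φ ψ ^ 2 = 8 * b + 1 := fun ψ hψ => by
      obtain ⟨v, hv⟩ : Odd (T.A φ ψ) := by
        have h2 := T.exact_zero φ hφs ψ (T.four_subset hψ) (T.mem_four.1 hψ).2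
        rw [(T.mem_four.1 hφ).2, zero_add, pow_one] at h2
        rwa [← Int.not_even_iff_odd, even_iff_two_dvd]
      obtain ⟨b, hb⟩ := Int.even_mul_succ_self v
      exact ⟨b, by rw [hv]; linear_combination 4 * hb⟩
    choose! b hb using hodd
    have hFb : ∑ ψ ∈ T.four, T.A φ ψ ^ 2 = 8 * (∑ ψ ∈ T.four, b ψ) + 4 := by
      rw [sum_congr rfl hb, sum_add_distrib, ← mul_sum, sum_const, T.card_four]
      simp
    have hexc : ∀ ψ ∈ R, 4 ≤ T.A φ ψ ^ 2 ∧ (T.A φ ψ ^ 2 = 4 ∨ 16 ≤ T.A φ ψ ^ 2) := fun ψ hψ => by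
      refine ⟨hle ψ hψ, ?_⟩
      obtain ⟨hs', h0⟩ := mem_filter.1 hψ
      obtain ⟨v, hv⟩ : (2 : ℤ) ∣ T.A φ ψ := by
        rw [T.symm φ hφs ψ hs']
        exact (dvd_pow_self 2 h0).trans (T.pow_dvd ψ hs' φ hφs)
      rw [hv]
      by_cases hv1 : v ^ 2 ≤ 1
      · left
        have : v ≠ 0 := fun e => by
          have := hle ψ hψ
          rw [hv, e] at this
          norm_num at this
        have := one_le_sq_of_ne_zero this
        linarith [mul_pow (2 : ℤ) v 2]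
      · right
        by_cases hv2 : v ^ 2 ≤ 3
        · have h5 : -1 ≤ v ∧ v ≤ 1 := ⟨by nlinarith, by nlinarith⟩
          obtain ⟨h6, h7⟩ := h5
          interval_cases v <;> norm_num at hv1
        · linarith [mul_pow (2 : ℤ) v 2]
    by_cases hall : ∀ ψ ∈ R, T.A φ ψ ^ 2 = 4
    · rw [sum_congr rfl hall, sum_const, nsmul_eq_mul, hFb] at hrow
      omega
    · push Not at hall
      obtain ⟨ψ, hψ, hψ4⟩ := hall
      have h16 := ((hexc ψ hψ).2).resolve_left hψ4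
      have hrest := sum_le_sum fun x (hx : x ∈ R.erase ψ) => hle x (mem_of_mem_erase hx)
      have hsum := add_sum_erase R (fun ψ => T.A φ ψ ^ 2) hψ
      have hc : ((R.erase ψ).card : ℤ) + 1 = R.card := by
        exact_mod_cast card_erase_add_one hψ
      simp only [sum_const, nsmul_eq_mul] at hrest
      linarith
  refine ⟨by omega, fun χ hχ h0 => ?_⟩
  have hχR : χ ∈ R := mem_filter.2 ⟨hχ, h0⟩
  have heq := (sum_eq_sum_iff_of_le hle).1 (by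
    simp only [sum_const, nsmul_eq_mul]
    linarith) χ hχR
  rw [T.symm φ hφs χ hχ] at heq
  have h2 : (2 : ℤ) ^ T.ht χ ∣ 2 := by
    have h3 : T.A χ φ ^ 2 = 2 ^ 2 := by rw [← heq]; norm_num
    rcases sq_eq_sq_iff_eq_or_eq_neg.1 h3 with e | e
    · exact e ▸ T.pow_dvd χ hχ φ hφs
    · exact (dvd_neg).1 (e ▸ T.pow_dvd χ hχ φ hφs)
  have := T.two_ht_one h2
  omega

section CaseB

variable (hB : ∀ φ ∈ T.four, T.A φ φ ≠ 1)

include hB

theorem four_bound {φ : ι} (hφ : φ ∈ T.four) :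
    qf 0 (-T.N φ) (T.x φ) + qf 0 0 (T.d φ) ≤ 8 * (q : ℤ) + 4 := by
  obtain ⟨hs', h0⟩ := T.mem_four.1 hφ
  have h1 := (T.total φ hs').1
  have h2 := T.Z_pos φ hs'
  have h3 := T.A_self_pos hs'
  have h4 : T.A φ φ ≠ 2 := fun e => T.exact_zero φ hs' φ hs' h0 (by rw [h0, e]; norm_num)
  have := hB φ hφ
  omega

theorem d_four {φ : ι} (hφ : φ ∈ T.four) (i : Fin q) : T.d φ i = 0 := by
  by_contra hi
  have h1 := (qf_zero hi).1
  have hN : (0 : ℤ) ≠ -T.N φ := fun e => by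
    have := T.N_sq_four hφ
    rw [show T.N φ = 0 by omega] at this
    norm_num at this
  have h2 := qf_ne (T.x φ) hN
  have h3 := T.four_bound hB hφ
  have := i.pos
  omega

theorem sum_d_mul (i j : Fin q) :
    ∑ χ ∈ s.filter (fun χ => T.ht χ ≠ 0), T.d χ i * T.d χ j = 1 + if i = j then 1 else 0 := by
  rw [← T.gram_dd i j, T.sum_split, sum_eq_zero (s := T.four) fun φ hφ => by
    rw [T.d_four hB hφ i, zero_mul], zero_add]

theorem x_four_le {φ : ι} (hφ : φ ∈ T.four) (i : Fin q) :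
    (∀ j, T.x φ j = 0 ∨ T.x φ j = -T.N φ) → T.x φ i ≠ 0 → ∀ j, T.x φ j ≠ 0 := by
  classical
  intro hy hi j hj
  have hb := T.four_bound hB hφ
  have hn := qf_nonneg 0 0 (T.d φ)
  rw [qf_two (T.x φ) (by rw [neg_sq]; exact T.N_sq_four hφ) hy] at hb
  set S := univ.filter fun i => T.x φ i ≠ 0
  set T' := univ.filter fun i => ¬ T.x φ i ≠ 0
  have h1 : 1 ≤ (S.card : ℤ) := by
    have := card_pos.2 ⟨i, (by simp [S, hi] : i ∈ S)⟩
    omega
  have h2 : 1 ≤ (T'.card : ℤ) := by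
    have := card_pos.2 ⟨j, (by simp [T', hj] : j ∈ T')⟩
    omega
  have h3 : S.card + T'.card = q := by
    rw [card_filter_add_card_filter_not, card_univ, Fintype.card_fin]
  have h4 : (q : ℤ) - 1 ≤ (S.card : ℤ) * T'.card := by
    have := mul_nonneg (show (0 : ℤ) ≤ S.card - 1 by omega) (show (0 : ℤ) ≤ T'.card - 1 by omega)
    have h5 : (S.card : ℤ) + T'.card = q := by exact_mod_cast h3
    nlinarith
  rcases T.q_cases with hq | hq <;> nlinarith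

omit hB in
/-- The restriction of `x · i` to the four members of height zero. -/
theorem x_shape (i : Fin q) :
    (∀ φ ∈ T.four, T.x φ i = 0 ∨ T.x φ i = -T.N φ) ∧ ∑ φ ∈ T.four, T.x φ i ^ 2 = 2 ∧
      ∑ χ ∈ s.filter (fun χ => T.ht χ ≠ 0), T.x χ i ^ 2 = 1 := by
  classical
  set R := s.filter fun χ => T.ht χ ≠ 0
  have h1 : ∑ φ ∈ T.four, T.x φ i ^ 2 + ∑ χ ∈ R, T.x χ i ^ 2 = 3 := by
    rw [← T.sum_split]
    simp only [sq, T.gram_xx, if_true]
    norm_num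
  have h2 : ∑ φ ∈ T.four, T.x φ i * T.N φ = -2 := by
    rw [← T.gram_xN i, T.sum_split (fun χ => T.x χ i * T.N χ),
      sum_eq_zero (s := R) fun χ hχ => by
      rw [T.N_eq_zero (mem_filter.1 hχ).1 (mem_filter.1 hχ).2, mul_zero], add_zero]
  have hRn : 0 ≤ ∑ χ ∈ R, T.x χ i ^ 2 := sum_nonneg fun _ _ => sq_nonneg _
  have hsq : ∀ φ ∈ T.four, T.x φ i ^ 2 ≤ 1 := fun φ hφ => by
    have h3 := single_le_sum (f := fun φ => T.x φ i ^ 2) (fun _ _ => sq_nonneg _) hφ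
    by_contra hc
    have h6 : 4 ≤ T.x φ i ^ 2 := by
      have : 2 ≤ |T.x φ i| := by
        by_contra hc'
        have h7 : T.x φ i ^ 2 ≤ 1 := by rw [← sq_abs]; nlinarith [abs_nonneg (T.x φ i)]
        exact hc h7
      rw [← sq_abs]
      nlinarith
    linarith
  -- each term is one of `0`, `2`
  have hterm : ∀ φ ∈ T.four, (T.x φ i ^ 2 + T.x φ i * T.N φ = 0 ∧ (T.x φ i = 0 ∨ T.x φ i = -T.N φ)) ∨
      T.x φ i ^ 2 + T.x φ i * T.N φ = 2 := fun φ hφ => by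
    have hN : T.N φ = 1 ∨ T.N φ = -1 := sq_eq_one_iff.1 (T.N_sq_four hφ)
    have hx : T.x φ i = 0 ∨ T.x φ i = 1 ∨ T.x φ i = -1 := by
      have h8 := hsq φ hφ
      have h9 : -1 ≤ T.x φ i ∧ T.x φ i ≤ 1 := abs_le.1 (by nlinarith [sq_abs (T.x φ i), abs_nonneg (T.x φ i)])
      omega
    rcases hN with e | e <;> rcases hx with e' | e' | e' <;> rw [e, e'] <;> norm_num
  have hnn : ∀ φ ∈ T.four, 0 ≤ T.x φ i ^ 2 + T.x φ i * T.N φ := fun φ hφ => by
    rcases hterm φ hφ with h | h <;> omega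
  have hsum : ∑ φ ∈ T.four, (T.x φ i ^ 2 + T.x φ i * T.N φ) =
      ∑ φ ∈ T.four, T.x φ i ^ 2 - 2 := by
    rw [sum_add_distrib, h2]
    ring
  have hev : (2 : ℤ) ∣ ∑ φ ∈ T.four, (T.x φ i ^ 2 + T.x φ i * T.N φ) :=
    dvd_sum fun φ hφ => by rcases hterm φ hφ with h | h <;> simp [h]
  have hlo : 0 ≤ ∑ φ ∈ T.four, (T.x φ i ^ 2 + T.x φ i * T.N φ) := sum_nonneg hnn
  obtain ⟨k, hk⟩ := hev
  have hzero : ∑ φ ∈ T.four, (T.x φ i ^ 2 + T.x φ i * T.N φ) = 0 := by omega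
  refine ⟨fun φ hφ => ?_, by omega, by omega⟩
  have h0 := (sum_eq_zero_iff_of_nonneg hnn).1 hzero φ hφ
  rcases hterm φ hφ with h | h
  · exact h.2
  · omega

theorem x_four_sum (i j : Fin q) : ∑ φ ∈ T.four, T.x φ i * T.x φ j = 2 := by
  obtain ⟨hi, hi2, -⟩ := T.x_shape i
  rw [← hi2]
  refine sum_congr rfl fun φ hφ => ?_
  have hy : ∀ l, T.x φ l = 0 ∨ T.x φ l = -T.N φ := fun l => (T.x_shape l).1 φ hφ
  by_cases h0 : T.x φ i = 0
  · simp [h0]
  · have hj := T.x_four_le hB hφ i hy h0 j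
    rw [(hy i).resolve_left h0, (hy j).resolve_left hj, sq]

theorem x_pos_sum (i j : Fin q) :
    ∑ χ ∈ s.filter (fun χ => T.ht χ ≠ 0), T.x χ i * T.x χ j = if i = j then 1 else 0 := by
  have := T.gram_xx i j
  rw [T.sum_split, T.x_four_sum hB i j] at this
  linarith

/-- The two families. -/
theorem family_count (hq : 1 ≤ q) :
    (s.filter fun χ => T.ht χ ≠ 0 ∧ ∃ i, T.x χ i ≠ 0 ∨ T.d χ i ≠ 0).card = 2 * q + 1 := by
  classical
  set R := s.filter fun χ => T.ht χ ≠ 0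
  set U := R.filter fun χ => ∃ i, T.d χ i ≠ 0
  set V := R.filter fun χ => ∃ i, T.x χ i ≠ 0
  have hmemR : ∀ {χ}, χ ∈ R → χ ∈ s ∧ T.ht χ ≠ 0 := fun h => mem_filter.1 h
  have hUd : ∀ {χ}, χ ∈ R → ∀ i, T.d χ i ≠ 0 → T.d χ i ^ 2 = 1 ∧ (∀ j, T.d χ j ≠ 0 → T.d χ j = T.d χ i) ∧
      ((∀ j, T.d χ j ≠ 0 → j = i) ∨ ∀ j, T.d χ j ≠ 0) := fun {χ} hχ i hi => by
    rcases (T.family (hmemR hχ).1 (hmemR hχ).2 ⟨i, Or.inr hi⟩).2 with ⟨-, h⟩ | ⟨h, -⟩
    · exact absurd (h i) hi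
    · exact (qf_zero hi).2 h
  have hVx : ∀ {χ}, χ ∈ R → ∀ i, T.x χ i ≠ 0 → T.x χ i ^ 2 = 1 ∧ (∀ j, T.x χ j ≠ 0 → T.x χ j = T.x χ i) ∧
      ((∀ j, T.x χ j ≠ 0 → j = i) ∨ ∀ j, T.x χ j ≠ 0) := fun {χ} hχ i hi => by
    rcases (T.family (hmemR hχ).1 (hmemR hχ).2 ⟨i, Or.inl hi⟩).2 with ⟨h, -⟩ | ⟨-, h⟩
    · exact (qf_zero hi).2 h
    · exact absurd (h i) hi
  -- no member outside sees two of the `x`
  have hVone : ∀ χ ∈ R, ∀ i j, T.x χ i ≠ 0 → T.x χ j ≠ 0 → i = j := by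
    intro χ hχ i j hi hj
    by_contra hne
    have h0 := T.x_pos_sum hB i j
    rw [if_neg hne] at h0
    have hnn : ∀ ψ ∈ R, 0 ≤ T.x ψ i * T.x ψ j := fun ψ hψ => by
      by_cases a : T.x ψ i = 0
      · simp [a]
      by_cases b : T.x ψ j = 0
      · simp [b]
      rw [(hVx hψ i a).2.1 j b]
      exact mul_self_nonneg _
    have := (sum_eq_zero_iff_of_nonneg hnn).1 h0 χ hχ
    exact (mul_ne_zero hi hj) this
  have hV : (V.card : ℤ) = q := by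
    have h1 : ∑ i : Fin q, ∑ χ ∈ R, T.x χ i ^ 2 = q := by
      have h' : ∀ i : Fin q, ∑ χ ∈ R, T.x χ i ^ 2 = 1 := fun i => (T.x_shape i).2.2
      simp [h']
    have h2 : ∀ χ ∈ R, ∑ i, T.x χ i ^ 2 = if ∃ i, T.x χ i ≠ 0 then 1 else 0 := fun χ hχ => by
      split_ifs with h
      · obtain ⟨i, hi⟩ := h
        rw [sum_eq_single i (fun j _ hj => ?_) (by simp), (hVx hχ i hi).1]
        by_contra hc
        exact hj (hVone χ hχ j i (fun e => hc (by rw [e]; ring)) hi)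
      · push Not at h
        simp [h]
    rw [sum_comm, sum_congr rfl h2, sum_boole] at h1
    exact h1
  -- the odd family
  have hdd : ∀ i, ∑ χ ∈ R, T.d χ i ^ 2 = 2 := fun i => by
    have h' : ∑ χ ∈ R, T.d χ i * T.d χ i = 1 + if i = i then 1 else 0 := T.sum_d_mul hB i i
    simp only [sq]
    rw [h', if_pos rfl]
    norm_num
  set All := R.filter fun χ => ∀ i, T.d χ i ≠ 0
  have hAll : (All.card : ℤ) * ((q : ℤ) - 1) = (q : ℤ) - 1 := by
    by_cases h2 : 2 ≤ q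
    · let i : Fin q := ⟨0, by omega⟩
      let j : Fin q := ⟨1, by omega⟩
      have hij : i ≠ j := by simp [i, j, Fin.ext_iff]
      have h0 := T.sum_d_mul hB i j
      rw [if_neg hij, add_zero] at h0
      have hterm : ∀ χ ∈ R, T.d χ i * T.d χ j = if ∀ l, T.d χ l ≠ 0 then 1 else 0 := fun χ hχ => by
        split_ifs with h
        · rw [(hUd hχ i (h i)).2.1 j (h j), ← sq, (hUd hχ i (h i)).1]
        · by_cases hi : T.d χ i = 0
          · simp [hi]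
          · rcases (hUd hχ i hi).2.2 with h' | h'
            · by_cases hj : T.d χ j = 0
              · simp [hj]
              · exact absurd (h' j hj).symm hij
            · exact absurd h' h
      rw [sum_congr rfl hterm, sum_boole] at h0
      rw [show (All.card : ℤ) = 1 from h0, one_mul]
    · rw [show q = 1 by omega]
      ring
  have hU : (U.card : ℤ) = q + 1 := by
    have h1 : ∑ i : Fin q, ∑ χ ∈ R, T.d χ i ^ 2 = 2 * q := by
      simp [hdd, mul_comm]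
    have h2 : ∀ χ ∈ R, ∑ i, T.d χ i ^ 2 = (if ∃ i, T.d χ i ≠ 0 then 1 else 0) +
        ((q : ℤ) - 1) * if ∀ i, T.d χ i ≠ 0 then 1 else 0 := fun χ hχ => by
      by_cases hall : ∀ i, T.d χ i ≠ 0
      · rw [if_pos hall, if_pos ⟨⟨0, hq⟩, hall _⟩, sum_congr rfl fun i _ => (hUd hχ i (hall i)).1]
        simp
      · rw [if_neg hall]
        by_cases hex : ∃ i, T.d χ i ≠ 0
        · obtain ⟨i, hi⟩ := hex
          rw [if_pos ⟨i, hi⟩, sum_eq_single i (fun j _ hj => ?_) (by simp), (hUd hχ i hi).1]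
          · ring
          · by_contra hc
            exact hj (((hUd hχ i hi).2.2.resolve_right hall) j fun e => hc (by rw [e]; ring))
        · push Not at hex
          simp [hex]
    rw [sum_comm, sum_congr rfl h2, sum_add_distrib, ← mul_sum, sum_boole, sum_boole] at h1
    change (U.card : ℤ) + ((q : ℤ) - 1) * (All.card : ℤ) = _ at h1
    linarith
  have hunion : (s.filter fun χ => T.ht χ ≠ 0 ∧ ∃ i, T.x χ i ≠ 0 ∨ T.d χ i ≠ 0) = U ∪ V := by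
    ext χ
    simp only [U, V, R, mem_filter, mem_union, exists_or]
    tauto
  have hdisj : Disjoint U V := disjoint_left.2 fun χ hu hv => by
    obtain ⟨hR', i, hi⟩ := mem_filter.1 hu
    obtain ⟨-, j, hj⟩ := mem_filter.1 hv
    rcases (T.family (hmemR hR').1 (hmemR hR').2 ⟨i, Or.inr hi⟩).2 with ⟨-, h⟩ | ⟨-, h⟩
    · exact hi (h i)
    · exact hj (h j)
  rw [hunion, card_union_of_disjoint hdisj]
  omega

omit hB in
/-- There are few further members. -/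
theorem high_count :
    (s.filter fun χ => T.ht χ ≠ 0 ∧ ∀ i, T.x χ i = 0 ∧ T.d χ i = 0).card ≤ if q = 0 then 3 else 2 := by
  classical
  set R := s.filter fun χ => T.ht χ ≠ 0 ∧ ∀ i, T.x χ i = 0 ∧ T.d χ i = 0
  set H : ℤ := 2 * ((q : ℤ) + 1)
  have hH : 0 < H := by positivity
  let w : ι → ι → ℤ := fun χ φ => T.A χ φ * T.N φ
  have hR : ∀ χ ∈ R, (∀ φ ∈ T.four, w χ φ = H ∨ w χ φ = -H) ∧ ∑ φ ∈ T.four, w χ φ = 0 ∧
      (∀ i, ∑ φ ∈ T.four, T.A χ φ * T.x φ i = 0) := by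
    intro χ hχ
    obtain ⟨hs', h0, hz⟩ := mem_filter.1 hχ
    obtain ⟨-, hsq, hoff⟩ := T.high_spec hs' h0 (fun i => (hz i).1) fun i => (hz i).2
    obtain ⟨-, hN, hx⟩ := T.high χ hs' h0 (T.N_eq_zero hs' h0) (fun i => (hz i).1) fun i => (hz i).2
    refine ⟨fun φ hφ => sq_eq_sq_iff_eq_or_eq_neg.1 (by rw [mul_pow, T.N_sq_four hφ, mul_one, hsq φ hφ]),
      ?_, fun i => ?_⟩
    · rw [← hN, T.sum_split (fun ψ => T.A χ ψ * T.N ψ),
        sum_eq_zero (s := s.filter fun χ => T.ht χ ≠ 0) fun ψ hψ => by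
        rw [T.N_eq_zero (mem_filter.1 hψ).1 (mem_filter.1 hψ).2, mul_zero], add_zero]
    · rw [← hx i, T.sum_split (fun ψ => T.A χ ψ * T.x ψ i),
        sum_eq_zero (s := s.filter fun χ => T.ht χ ≠ 0) fun ψ hψ => by
        by_cases e : ψ = χ
        · rw [e, (hz i).1, mul_zero]
        · rw [hoff ψ (mem_filter.1 hψ).1 (mem_filter.1 hψ).2 e, zero_mul], add_zero]
  obtain ⟨φ₀, hφ₀⟩ : T.four.Nonempty := card_pos.1 (by rw [T.card_four]; norm_num)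
  set F3 := T.four.erase φ₀
  have hF3 : F3.card = 3 := by rw [card_erase_of_mem hφ₀, T.card_four]
  -- the unique other place with the sign of `φ₀`
  have hpart : ∀ χ ∈ R, ∃ p ∈ F3, ∀ φ ∈ F3, w χ φ = if φ = p then w χ φ₀ else -w χ φ₀ := by
    intro χ hχ
    obtain ⟨hw, hsum, -⟩ := hR χ hχ
    set P := F3.filter fun φ => w χ φ = w χ φ₀
    have hval : ∀ φ ∈ F3, w χ φ = if φ ∈ P then w χ φ₀ else -w χ φ₀ := fun φ hφ => by
      split_ifs with h
      · exact (mem_filter.1 h).2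
      · have h1 := hw φ (mem_of_mem_erase hφ)
        have h2 := hw φ₀ hφ₀
        have h3 : w χ φ ≠ w χ φ₀ := fun e => h (mem_filter.2 ⟨hφ, e⟩)
        omega
    have hP : P.card = 1 := by
      rw [← add_sum_erase _ _ hφ₀, sum_congr rfl hval, sum_ite,
        filter_mem_eq_inter, inter_eq_right.2 (filter_subset _ _ : P ⊆ F3), sum_const, sum_const,
        nsmul_eq_mul, nsmul_eq_mul] at hsum
      have hc : P.card + (F3.filter fun φ => φ ∉ P).card = 3 := by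
        rw [← hF3, ← card_filter_add_card_filter_not (s := F3) (fun φ => φ ∈ P),
          filter_mem_eq_inter, inter_eq_right.2 (filter_subset _ _ : P ⊆ F3)]
      have hne : w χ φ₀ ≠ 0 := by rcases hw φ₀ hφ₀ with e | e <;> rw [e] <;> omega
      have : (1 + (P.card : ℤ) - ((F3.filter fun φ => φ ∉ P).card : ℤ)) * w χ φ₀ = 0 := by linarith
      rcases mul_eq_zero.1 this with e | e
      · omega
      · exact absurd e hne
    obtain ⟨p, hp⟩ := card_eq_one.1 hP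
    refine ⟨p, (mem_filter.1 (hp ▸ mem_singleton_self p : p ∈ P)).1, fun φ hφ => ?_⟩
    rw [hval φ hφ, hp]
    simp
  choose! p hp hpw using hpart
  have hinj : Set.InjOn p R := by
    intro χ hχ χ' hχ' he
    simp only [mem_coe] at hχ hχ'
    by_contra hne
    obtain ⟨hs1, h1, hz1⟩ := mem_filter.1 hχ
    obtain ⟨hs2, h2, hz2⟩ := mem_filter.1 hχ'
    obtain ⟨-, -, hoff⟩ := T.high_spec hs1 h1 (fun i => (hz1 i).1) fun i => (hz1 i).2
    obtain ⟨-, -, hoff'⟩ := T.high_spec hs2 h2 (fun i => (hz2 i).1) fun i => (hz2 i).2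
    have hprod := T.mul χ hs1 χ' hs2
    rw [hoff χ' hs2 h2 (Ne.symm hne), mul_zero, T.sum_split (fun ψ => T.A χ ψ * T.A χ' ψ),
      sum_eq_zero (s := s.filter fun χ => T.ht χ ≠ 0) (fun ψ hψ => by
        by_cases e : ψ = χ
        · rw [hoff' ψ (mem_filter.1 hψ).1 (mem_filter.1 hψ).2 (e ▸ hne), mul_zero]
        · rw [hoff ψ (mem_filter.1 hψ).1 (mem_filter.1 hψ).2 e, zero_mul]), add_zero] at hprod
    have heq : ∀ φ ∈ T.four, T.A χ φ * T.A χ' φ = w χ φ₀ * w χ' φ₀ := fun φ hφ => by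
      have e1 : T.A χ φ * T.A χ' φ = w χ φ * w χ' φ := by
        calc T.A χ φ * T.A χ' φ = T.A χ φ * T.A χ' φ * T.N φ ^ 2 := by rw [T.N_sq_four hφ, mul_one]
          _ = _ := by simp only [w]; ring
      rw [e1]
      by_cases e : φ = φ₀
      · rw [e]
      · rw [hpw χ hχ φ (mem_erase.2 ⟨e, hφ⟩), hpw χ' hχ' φ (mem_erase.2 ⟨e, hφ⟩), he]
        split_ifs <;> ring
    rw [sum_congr rfl heq, sum_const, T.card_four, nsmul_eq_mul] at hprod
    have a := (hR χ hχ).1 φ₀ hφ₀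
    have b := (hR χ' hχ').1 φ₀ hφ₀
    rcases a with a | a <;> rcases b with b | b <;> rw [a, b] at hprod <;> push_cast at hprod <;>
      nlinarith
  split_ifs with hq
  · exact (card_le_card_of_injOn p hp hinj).trans hF3.le
  let i : Fin q := ⟨0, by omega⟩
  obtain ⟨hxs, hx2, -⟩ := T.x_shape i
  -- a place the partner avoids
  have havoid : ∃ b ∈ F3, ∀ χ ∈ R, p χ ≠ b := by
    set X := T.four.filter fun φ => T.x φ i ≠ 0
    have hval : ∀ φ ∈ T.four, T.x φ i ^ 2 = if T.x φ i ≠ 0 then 1 else 0 := fun φ hφ => by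
      rcases hxs φ hφ with e | e
      · simp [e]
      · have := T.N_sq_four hφ
        have hne : T.N φ ≠ 0 := fun e' => by rw [e'] at this; norm_num at this
        rw [e, neg_sq, this, if_pos (neg_ne_zero.2 hne)]
    have hX : X.card = 2 := by
      rw [sum_congr rfl hval, sum_boole] at hx2
      exact_mod_cast hx2
    obtain ⟨a, b, hab, hXab⟩ := card_eq_two.1 hX
    have hsumX : ∀ χ ∈ R, w χ a + w χ b = 0 := fun χ hχ => by
      have h0 := (hR χ hχ).2.2 i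
      have h1 : ∑ φ ∈ T.four, T.A χ φ * T.x φ i = ∑ φ ∈ X, -w χ φ := by
        rw [sum_filter]
        refine sum_congr rfl fun φ hφ => ?_
        split_ifs with h
        · rw [(hxs φ hφ).resolve_left h]; simp [w]
        · rw [not_not.1 h, mul_zero]
      rw [h1, hXab, sum_pair hab] at h0
      linarith
    have haF : a ∈ T.four := (mem_filter.1 (hXab ▸ mem_insert_self a _ : a ∈ X)).1
    have hbF : b ∈ T.four :=
      (mem_filter.1 (hXab ▸ mem_insert_of_mem (mem_singleton_self b) : b ∈ X)).1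
    have hne : ∀ χ ∈ R, ∀ φ ∈ T.four, w χ φ ≠ 0 := fun χ hχ φ hφ e => by
      rcases (hR χ hχ).1 φ hφ with e' | e' <;> omega
    by_cases ha : a = φ₀
    · refine ⟨b, mem_erase.2 ⟨fun e => hab (ha.trans e.symm), hbF⟩, fun χ hχ e => ?_⟩
      have := hsumX χ hχ
      rw [ha, hpw χ hχ b (mem_erase.2 ⟨fun e => hab (ha.trans e.symm), hbF⟩), if_pos e.symm] at this
      exact hne χ hχ φ₀ hφ₀ (by linarith)
    by_cases hb : b = φ₀
    · refine ⟨a, mem_erase.2 ⟨ha, haF⟩, fun χ hχ e => ?_⟩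
      have := hsumX χ hχ
      rw [hb, hpw χ hχ a (mem_erase.2 ⟨ha, haF⟩), if_pos e.symm] at this
      exact hne χ hχ φ₀ hφ₀ (by linarith)
    · have hr : ((F3.erase a).erase b).card = 1 := by
        rw [card_erase_of_mem (mem_erase.2 ⟨hab.symm, mem_erase.2 ⟨hb, hbF⟩⟩),
          card_erase_of_mem (mem_erase.2 ⟨ha, haF⟩), hF3]
      obtain ⟨r, hr⟩ := card_eq_one.1 hr
      have hrm : r ∈ (F3.erase a).erase b := hr ▸ mem_singleton_self r
      simp only [mem_erase] at hrm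
      refine ⟨r, hrm.2.2, fun χ hχ e => ?_⟩
      have := hsumX χ hχ
      rw [hpw χ hχ a (mem_erase.2 ⟨ha, haF⟩), hpw χ hχ b (mem_erase.2 ⟨hb, hbF⟩), e,
        if_neg hrm.2.1.symm, if_neg hrm.1.symm] at this
      exact hne χ hχ φ₀ hφ₀ (by linarith)
  obtain ⟨b, hb, hbR⟩ := havoid
  refine (card_le_card_of_injOn p (fun χ hχ => mem_erase.2 ⟨hbR χ hχ, hp χ hχ⟩) hinj).trans ?_
  rw [card_erase_of_mem hb, hF3]

end CaseB

/-- The heights and the size. -/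
theorem main :
    (∀ χ ∈ s, T.ht χ = 0 ∨ T.ht χ = 1 ∨ 2 ^ T.ht χ = 2 * (q + 1)) ∧
      (1 ≤ q → (s.filter fun χ => T.ht χ = 1).card = 2 * q + 1) ∧ s.card ≤ 2 * q + 7 := by
  classical
  have hsplit : T.four.card + (s.filter fun χ => T.ht χ ≠ 0).card = s.card :=
    card_filter_add_card_filter_not _
  rw [T.card_four] at hsplit
  by_cases hA : ∃ φ ∈ T.four, T.A φ φ = 1
  · obtain ⟨φ, hφ, h1⟩ := hA
    obtain ⟨hk, hone⟩ := T.caseA hφ h1
    refine ⟨fun χ hχ => ?_, fun _ => ?_, by omega⟩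
    · by_cases h0 : T.ht χ = 0
      · exact Or.inl h0
      · exact Or.inr (Or.inl (hone χ hχ h0))
    · rw [show (s.filter fun χ => T.ht χ = 1) = s.filter fun χ => T.ht χ ≠ 0 from
        filter_congr fun χ hχ => ⟨fun e => by omega, hone χ hχ⟩]
      omega
  push Not at hA
  set P := s.filter fun χ => T.ht χ ≠ 0 ∧ ∃ i, T.x χ i ≠ 0 ∨ T.d χ i ≠ 0
  set R := s.filter fun χ => T.ht χ ≠ 0 ∧ ∀ i, T.x χ i = 0 ∧ T.d χ i = 0
  have hpos : (s.filter fun χ => T.ht χ ≠ 0).card = P.card + R.card := by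
    rw [← card_union_of_disjoint (disjoint_left.2 fun χ h1 h2 => ?_)]
    · refine congrArg card (ext fun χ => ?_)
      simp only [P, R, mem_filter, mem_union]
      by_cases h : ∀ i, T.x χ i = 0 ∧ T.d χ i = 0
      · tauto
      · have h' : ∃ i, T.x χ i ≠ 0 ∨ T.d χ i ≠ 0 := by
          push Not at h
          obtain ⟨i, hi⟩ := h
          exact ⟨i, by by_cases hx : T.x χ i = 0; exacts [Or.inr (hi hx), Or.inl hx]⟩
        exact ⟨fun ⟨a, b⟩ => Or.inl ⟨a, b, h'⟩,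
          fun c => c.elim (fun c => ⟨c.1, c.2.1⟩) fun c => ⟨c.1, c.2.1⟩⟩
    · obtain ⟨-, -, i, hi⟩ := mem_filter.1 h1
      have := (mem_filter.1 h2).2.2 i
      tauto
  have hPone : ∀ χ ∈ P, T.ht χ = 1 := fun χ h => by
    obtain ⟨hs', h0, hi⟩ := mem_filter.1 h
    exact (T.family hs' h0 hi).1
  have hRh : ∀ χ ∈ R, 2 ^ T.ht χ = 2 * (q + 1) := fun χ h => by
    obtain ⟨hs', h0, hi⟩ := mem_filter.1 h
    exact (T.high_spec hs' h0 (fun i => (hi i).1) fun i => (hi i).2).1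
  have hmem : ∀ χ ∈ s, T.ht χ ≠ 0 → χ ∈ P ∨ χ ∈ R := fun χ hχ h0 => by
    by_cases h : ∃ i, T.x χ i ≠ 0 ∨ T.d χ i ≠ 0
    · exact Or.inl (mem_filter.2 ⟨hχ, h0, h⟩)
    · push Not at h
      exact Or.inr (mem_filter.2 ⟨hχ, h0, h⟩)
  have hR : R.card ≤ if q = 0 then 3 else 2 := by convert T.high_count
  refine ⟨fun χ hχ => ?_, fun hq => ?_, ?_⟩
  · by_cases h0 : T.ht χ = 0
    · exact Or.inl h0
    rcases hmem χ hχ h0 with h | h
    · exact Or.inr (Or.inl (hPone χ h))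
    · exact Or.inr (Or.inr (hRh χ h))
  · have hfc : P.card = 2 * q + 1 := by convert T.family_count hA hq
    rw [← hfc]
    refine congrArg card (ext fun χ => ?_)
    rw [mem_filter]
    refine ⟨fun ⟨hs', h1⟩ => ?_, fun h => ⟨(mem_filter.1 h).1, hPone χ h⟩⟩
    rcases hmem χ hs' (by omega) with h | h
    · exact h
    · have := hRh χ h
      rw [h1] at this
      omega
  · by_cases hq : q = 0
    · rw [if_pos hq] at hR
      have : P = ∅ := filter_eq_empty_iff.2 fun χ _ ⟨_, i, _⟩ => absurd i.pos (by omega)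
      rw [this, card_empty] at hpos
      omega
    · rw [if_neg hq] at hR
      have : P.card = 2 * q + 1 := by convert T.family_count hA (by omega)
      omega

end Frame

end CfsgLib.TameSQ
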