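import Cfsg.Agent.TameBlocks.Lift
import Cfsg.Agent.Star.Major
import Mathlib.GroupTheory.SpecificGroups.Cyclic

/-!
# Generalities on the subsections below a maximal pair

Inclusions of pairs map along injective homomorphisms; the fusion of an element whose cyclic group
is normal in the maximal pair's 2-group is that of the group, and that cyclic group is fully
normalized; traces at translates by central elements.
-/

set_option autoImplicit false
set_option linter.unusedSectionVars false
set_option linter.style.haveILetI false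

namespace CfsgLib.TameSQ

open Cfsg MonoidAlgebra CfsgLib.BlockPairs CfsgLib.Star
open CfsgLib.Blocks (localRing Res)
open CfsgLib.BlockPairing (regInner)
open CfsgLib.TameBlocks (Fused IsReps sval)
open scoped ComplexConjugate

universe u v

section Map

variable {k : Type*} [Field k] {X : Type v} [Group X] [Finite X] {G : Type u} [Group G] [Finite G]
  {p : ℕ}

theorem Le.map {φ : X →* G} (hφ : Function.Injective φ) {H Q P : Subgroup X} {f e : GA k X}
    (h : Le p H Q f P e) :
    Le p (H.map φ) (Q.map φ) (emb φ f) (P.map φ) (emb φ e) := by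
  refine Relation.ReflTransGen.lift (fun a : Subgroup X × GA k X => (a.1.map φ, emb φ a.2)) ?_ _ _ h
  rintro ⟨A, a⟩ ⟨B, b⟩ ⟨hA, hB, hAB, hN, hfix, hbr⟩
  refine ⟨(isPair_map_iff hφ).2 hA, (isPair_map_iff hφ).2 hB, Subgroup.map_mono hAB, ?_,
    (isFixed_map_iff hφ).2 hfix, ?_⟩
  · rintro _ ⟨x, hx, rfl⟩
    exact (map_mem_normalizer_iff hφ).2 (hN hx)
  · show br (B.map φ) (emb φ a) * emb φ b = emb φ b
    rw [br_emb hφ, ← map_mul]
    exact congrArg _ hbr

end Map

variable {G : Type u} [Group G] [Fintype G] {M : Ideal AlgInt} [M.IsPrime]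
  [CharP (Res M) 2] [IsAlgClosed (Res M)] {B : Set (IrrCharacter G)}
  {D : Subgroup G} {eP : GA (Res M) G}

theorem exists_orderOf {u : G} (hD : IsPGroup 2 D) (hu : u ∈ D) : ∃ i, orderOf u = 2 ^ i := by
  obtain ⟨k, hk⟩ := hD ⟨u, hu⟩
  obtain ⟨i, -, hi⟩ := (Nat.dvd_prime_pow Nat.prime_two).1
    (orderOf_dvd_of_pow_eq_one (x := u) (n := 2 ^ k) (congrArg Subtype.val hk))
  exact ⟨i, hi⟩

/-- The automorphisms of a cyclic 2-group form a 2-group. -/
theorem isPGroup_mulAut {u : G} (hD : IsPGroup 2 D) (hu : u ∈ D) :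
    IsPGroup 2 (MulAut ↥(Subgroup.zpowers u)) := by
  obtain ⟨i, hi⟩ := exists_orderOf hD hu
  have hc := IsCyclic.card_mulAut ↥(Subgroup.zpowers u)
  rw [Nat.card_zpowers, hi] at hc
  rcases Nat.eq_zero_or_pos i with rfl | h0
  · exact IsPGroup.of_card (n := 0) (by simpa using hc)
  · rw [Nat.totient_prime_pow Nat.prime_two h0, Nat.mul_one] at hc
    exact IsPGroup.of_card hc

variable (hB : Cfsg.IsPBlock M B) (hmax : IsMaxPair 2 (⊤ : Subgroup G) (gblk M B) D eP)

include hmax

theorem isFullyNormalized_of_normal {Q : Subgroup G} (hQ : Q ≤ D)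
    (hN : D ≤ Subgroup.normalizer (Q : Set G)) :
    (blockSystem hmax.1.1).IsFullyNormalized Q := by
  refine ⟨hQ, fun R _ => ?_⟩
  refine (Subgroup.card_le_of_le (K := D) inf_le_left).trans ?_
  exact le_of_eq (congrArg (fun H : Subgroup G => Nat.card H) (inf_eq_left.2 hN).symm)

include hB

/-- Fusion of an element whose cyclic group is normal in the group of the maximal pair. -/
theorem fused_cyclic {u v : G} (hu : u ∈ D)
    (hN : D ≤ Subgroup.normalizer (Subgroup.zpowers u : Set G)) (hf : Fused 2 D eP u v)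
    (hv : v ∈ Subgroup.zpowers u) : ∃ y ∈ D, y * u * y⁻¹ = v := by
  haveI : Fact (Nat.Prime 2) := ⟨Nat.prime_two⟩
  have hord := hf.orderOf_eq
  obtain ⟨g, hg, hgu⟩ := hf
  obtain ⟨f, hle, -⟩ := id hg
  set Q := Subgroup.zpowers u with hQ
  have hgN : g ∈ Subgroup.normalizer (Q : Set G) := by
    refine mem_normalizer_of_cj_eq ?_
    rw [Star.cj_zpowers, hgu]
    exact Subgroup.eq_of_le_of_card_ge (Subgroup.zpowers_le.2 hv)
      (le_of_eq (by rw [hQ, Nat.card_zpowers, Nat.card_zpowers, hord]))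
  have hQD : Q ≤ D := Subgroup.zpowers_le.2 hu
  have hA := (CfsgLib.Fusion.automized_receptive hmax.1.1.2.1
    (isSaturated_blockSystem (isBlock_gblk hB) hmax) (isFullyNormalized_of_normal hmax hQD hN)).1
  have heq := CfsgLib.Fusion.eq_autInducedBy_of_le hA le_rfl
    ((isPGroup_mulAut hmax.1.1.2.1 hu).to_subgroup _)
    (CfsgLib.Fusion.autInducedBy_le_autGroup hQD)
  have hmem := mem_autGroup_of_stab (hPe := hmax.1.1) hle ((mor_self_iff hle hgN).1 hg)
  rw [heq] at hmem
  obtain ⟨y, hy, -, hyu⟩ := CfsgLib.Fusion.mem_autInducedBy_iff.1 hmem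
  refine ⟨y, hy, ?_⟩
  have := hyu ⟨u, Subgroup.mem_zpowers u⟩
  rw [show ((Q.normalizerMonoidHom ⟨g, hgN⟩ ⟨u, Subgroup.mem_zpowers u⟩ : Q) : G) =
    g * u * g⁻¹ from rfl, hgu] at this
  exact this.symm

/-- The defect group of the block below a fully centralized element. -/
theorem defect_below {r : G} (hr : r ∈ D)
    (hfc : (blockSystem hmax.1.1).IsFullyCentralized (Subgroup.zpowers r)) :
    IsDefectGrp 2 (Subgroup.centralizer ({r} : Set G)) (below 2 D eP (Subgroup.zpowers r))
      (D ⊓ Subgroup.centralizer ({r} : Set G)) := by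
  haveI : Fact (Nat.Prime 2) := ⟨Nat.prime_two⟩
  have h := (isFullyCentralized_iff (isBlock_gblk hB) hmax (le_below hmax hr)).1 hfc
  have hc : Subgroup.centralizer ((Subgroup.zpowers r : Subgroup G) : Set G) =
      Subgroup.centralizer ({r} : Set G) := by
    rw [← Star.cent_zpowers, cent, top_inf_eq]
  rwa [hc] at h

theorem card_inf_eq (hM : Cfsg.IsPModular 2 M) {r : G}
    (hd : IsDefectGrp 2 (Subgroup.centralizer ({r} : Set G)) (below 2 D eP (Subgroup.zpowers r))
      (D ⊓ Subgroup.centralizer ({r} : Set G)))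
    [Fintype ↥(Subgroup.centralizer ({r} : Set G))]
    {f : Set (IrrCharacter ↥(Subgroup.centralizer ({r} : Set G)))} (hf : Cfsg.IsPBlock M f)
    (hle : Le 2 ⊤ (Subgroup.zpowers r) (sblk M (Subgroup.centralizer ({r} : Set G)) f) D eP) :
    Nat.card ↥(D ⊓ cent ⊤ (Subgroup.zpowers r)) = 2 ^ Cfsg.blockDefect 2 f := by
  haveI : Fact (Nat.Prime 2) := ⟨Nat.prime_two⟩
  rw [below_eq hmax hle, ← isDefectGroup_subgroupOf_iff hf inf_le_right] at hd
  rw [Star.cent_zpowers, ← CfsgLib.Blocks.card_defectGroup hM hf hd,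
    Nat.card_congr (Subgroup.subgroupOfEquivOfLe inf_le_right).toEquiv]

omit hB

/-- The contributions are constant on the classes of the group of the maximal pair. -/
theorem sval_conj_mem {χ ψ : G → ℂ} (hχ : Cfsg.IsClassFunction G χ)
    (hψ : Cfsg.IsClassFunction G ψ) {y w : G} (hy : y ∈ D) (hw : w ∈ D) :
    sval 2 D eP (y * w * y⁻¹) χ ψ = sval 2 D eP w χ ψ := by
  haveI : Fact (Nat.Prime 2) := ⟨Nat.prime_two⟩
  rw [sval, sval, below_conj hmax hy hw,
    nsum_conj hχ hψ y w (mem_blocks.1 (below_mem_blocks hmax hw))]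
  congr 2
  rw [← Star.cj_zpowers, ← Star.cj_cent_top, card_cj]

omit hmax

omit [CharP (Res M) 2] [IsAlgClosed (Res M)] in
/-- A central translate moves from the argument into the function. -/
theorem T_translate {f : G → ℂ} (hf : Cfsg.IsClassFunction G f) {z : G}
    (hz : ∀ g : G, Commute g z) {g : G} {j : GA (Res M) G} (hj : j * j = j)
    (hgj : conjA (Res M) g j = j) :
    T M f (z * g) j = T M (fun x => f (z * x)) g j := by
  have hf' : Cfsg.IsClassFunction G fun x => f (z * x) := fun x a => by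
    show f (z * (a * x * a⁻¹)) = f (z * x)
    rw [← hf (z * x) a]
    congr 1
    rw [← mul_assoc, ← mul_assoc, ← mul_assoc a, (hz a).eq]
  have hzj : conjA (Res M) (z * g) j = j := by
    rw [← conjA_conjA, hgj]
    refine ga_ext fun x => ?_
    rw [conjA_coeff]
    congr 1
    rw [(hz x).symm.inv_left.eq, mul_assoc, inv_mul_cancel, mul_one]
  obtain ⟨E, hE, hEz⟩ := exists_lift (M := M) j hj
  rw [T_eq hf hE (hEz _ hzj), T_eq hf' hE (hEz _ hgj), tau_single_mul, tau_single_mul]
  exact Finset.sum_congr rfl fun x _ => by rw [mul_assoc]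

end CfsgLib.TameSQ
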