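import Cfsg.Agent.TameSQ.Generic
import Cfsg.Agent.TameBlocks.Param
import Cfsg.Agent.BlocksCharsC.Congruence
import Cfsg.Agent.Blocks.HeightZero

/-!
# Generalized characters of the group of a maximal pair from a nilpotent local block

`LocData M eP K hDK`: a nilpotent block of `K ≥ D` whose maximal pair is `(D, eP)`, parametrized on
a member `χ₀` of height zero.  At an element `r` of `D` with `C(r) ≤ K` the block below has one
Brauer character: its contribution of `χ, ψ` is `F χ r * conj (F ψ r) / |C_D(r)|` for the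
generalized characters `F χ` of `D`.
-/

set_option autoImplicit false
set_option linter.unusedSectionVars false
set_option linter.style.haveILetI false

namespace CfsgLib.TameSQ

open Cfsg CfsgLib.BlockPairs CfsgLib.Star
open CfsgLib.Blocks (Res)
open CfsgLib.TameBlocks (Fused IsReps sval sum_sval_mul exists_rank exists_param_star T_fun_sum
  T_star_below T_below_eq_zero T_emb isClassFunction_comap exists_local_nilp)
open scoped ComplexConjugate Classical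

universe u

variable {G : Type u} [Group G] [Fintype G] (M : Ideal AlgInt) [M.IsPrime]
  [CharP (Res M) 2] [IsAlgClosed (Res M)] {D : Subgroup G} (eP : GA (Res M) G)

/-- A nilpotent block of `K` with maximal pair `(D, eP)` and its parametrization. -/
structure LocData (K : Subgroup G) (hDK : D ≤ K) where
  b : Set (IrrCharacter ↥K)
  e : GA (Res M) ↥K
  χ₀ : IrrCharacter ↥K
  Ψ : IrrCharacter ↥(D.subgroupOf K) → IrrCharacter ↥K
  block : Cfsg.IsPBlock M b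
  emb_eq : emb K.subtype e = eP
  maxPair : IsMaxPair 2 ⊤ (gblk M b) (D.subgroupOf K) e
  nilp : Nilp 2 ⊤ (gblk M b)
  mem : χ₀ ∈ b
  height : Cfsg.blockHeight 2 b (χ₀ : ↥K → ℂ) = 0
  inj : Function.Injective Ψ
  mem_iff : ∀ ψ, ψ ∈ b ↔ ∃ θ, Ψ θ = ψ
  eqn : ∀ θ : IrrCharacter ↥(D.subgroupOf K), (Ψ θ : ↥K → ℂ) =
    star 2 (D.subgroupOf K) e (Cfsg.extendByZero (D.subgroupOf K) (θ : ↥(D.subgroupOf K) → ℂ))
      (χ₀ : ↥K → ℂ)

variable {M eP} (hM : Cfsg.IsPModular 2 M) {B : Set (IrrCharacter G)} (hB : Cfsg.IsPBlock M B)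
  (hmax : IsMaxPair 2 (⊤ : Subgroup G) (gblk M B) D eP) {K : Subgroup G} {hDK : D ≤ K}

include hM in
theorem exists_locData {bK : GA (Res M) G} (hblk : IsBlock K bK) (hm : IsMaxPair 2 K bK D eP)
    (hn : Nilp 2 K bK) : Nonempty (LocData M eP K hDK) := by
  haveI : Fact (Nat.Prime 2) := ⟨Nat.prime_two⟩
  obtain ⟨b, e, hb, -, hemb, hmK, hnK⟩ := exists_local_nilp hblk hm hn
  obtain ⟨χ₀, hχ, h0⟩ := CfsgLib.Blocks.exists_height_zero hM (p := 2) hb
  obtain ⟨Ψ, hi, hiff, heq⟩ := exists_param_star hM hb hmK hnK hχ h0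
  exact ⟨⟨b, e, χ₀, Ψ, hb, hemb, hmK, hnK, hχ, h0, hi, hiff, heq⟩⟩

variable (𝒞 : LocData M eP K hDK)

/-- An element of `D` in `K`. -/
def liftD (hDK : D ≤ K) : D →* ↥(D.subgroupOf K) :=
  (Subgroup.subgroupOfEquivOfLe hDK).symm.toMonoidHom

/-- The multiplicities of the members in the restriction. -/
noncomputable def mult (χ : G → ℂ) (θ : IrrCharacter ↥(D.subgroupOf K)) : ℂ :=
  Cfsg.classInner (fun k : ↥K => χ (k : G)) (𝒞.Ψ θ : ↥K → ℂ)

/-- The generalized character of `D` belonging to `χ`, extended by zero. -/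
noncomputable def F (χ : G → ℂ) : G → ℂ :=
  Cfsg.extendByZero D fun x : D => ∑ θ : IrrCharacter ↥(D.subgroupOf K),
    mult 𝒞 χ θ * (θ : ↥(D.subgroupOf K) → ℂ) (liftD hDK x)

theorem F_apply (χ : G → ℂ) {x : G} (hx : x ∈ D) :
    F 𝒞 χ x = ∑ θ : IrrCharacter ↥(D.subgroupOf K),
      mult 𝒞 χ θ * (θ : ↥(D.subgroupOf K) → ℂ) (liftD hDK ⟨x, hx⟩) :=
  Characters.extendByZero_of_mem D _ hx

/-- The function on `D` belonging to a function on `K`. -/
noncomputable def FK (φ : ↥K → ℂ) (w : ↥(D.subgroupOf K)) : ℂ :=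
  ∑ θ : IrrCharacter ↥(D.subgroupOf K),
    Cfsg.classInner φ (𝒞.Ψ θ : ↥K → ℂ) * (θ : ↥(D.subgroupOf K) → ℂ) w

theorem F_eq_FK (χ : G → ℂ) {x : G} (hx : x ∈ D) :
    F 𝒞 χ x = FK 𝒞 (fun k : ↥K => χ (k : G)) (liftD hDK ⟨x, hx⟩) :=
  F_apply 𝒞 χ hx

theorem exists_mult_int (χ : IrrCharacter G) (θ : IrrCharacter ↥(D.subgroupOf K)) :
    ∃ m : ℕ, mult 𝒞 (χ : G → ℂ) θ = (m : ℂ) :=
  Characters.classInner_character_irr
    (Characters.isCharacter_restrict K (Characters.isCharacter_of_isIrr χ.2)) (𝒞.Ψ θ).2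

theorem isGen_F (χ : IrrCharacter G) :
    Cfsg.IsGeneralizedCharacter D fun x : D => F 𝒞 (χ : G → ℂ) (x : G) := by
  choose m hm using exists_mult_int 𝒞 χ
  have h1 : ∀ θ : IrrCharacter ↥(D.subgroupOf K), Cfsg.IsGeneralizedCharacter D fun x : D =>
      ((m θ : ℤ) : ℂ) * (θ : ↥(D.subgroupOf K) → ℂ) (liftD hDK x) := fun θ => by
    exact Characters.isGen_zsmul
      (Characters.isGen_comp (liftD hDK) (Characters.isGen_of_isIrr θ.2)) _
  have h2 := Characters.isGen_sum (G := D) Finset.univ _ fun θ _ => h1 θ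
  convert h2 using 1
  funext x
  rw [F_apply 𝒞 _ x.2, Finset.sum_apply]
  exact Finset.sum_congr rfl fun θ _ => by rw [hm θ, Int.cast_natCast]

theorem F_conj (χ : IrrCharacter G) {x y : G} (hx : x ∈ D) (hy : y ∈ D) :
    F 𝒞 (χ : G → ℂ) (y * x * y⁻¹) = F 𝒞 (χ : G → ℂ) x :=
  Characters.isClassFunction_of_isGen (isGen_F 𝒞 χ) ⟨x, hx⟩ ⟨y, hy⟩

theorem F_isIntegral (χ : IrrCharacter G) {x : G} (hx : x ∈ D) :
    IsIntegral ℤ (F 𝒞 (χ : G → ℂ) x) :=
  Characters.gen_isIntegral (isGen_F 𝒞 χ) ⟨x, hx⟩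

theorem conj_F (χ : IrrCharacter G) {x : G} (hx : x ∈ D) :
    conj (F 𝒞 (χ : G → ℂ) x) = F 𝒞 (χ : G → ℂ) x⁻¹ :=
  (Characters.gen_inv (isGen_F 𝒞 χ) ⟨x, hx⟩).symm

include hM hmax in
/-- All values are congruent. -/
theorem F_sub_mem (χ : IrrCharacter G) {x : G} (hx : x ∈ D) :
    Cfsg.MemLocalIdeal M (F 𝒞 (χ : G → ℂ) x - F 𝒞 (χ : G → ℂ) 1) := by
  haveI : Fact (Nat.Prime 2) := ⟨Nat.prime_two⟩
  obtain ⟨φ, ψ, hφ, hψ, he⟩ := isGen_F 𝒞 χ
  have h1 := congrFun he ⟨x, hx⟩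
  have h2 := congrFun he 1
  simp only [Pi.sub_apply, OneMemClass.coe_one] at h1 h2
  obtain ⟨i, hi⟩ := exists_orderOf hmax.1.1.2.1 hx
  have key : ∀ {η : D → ℂ}, Cfsg.IsCharacter D η →
      Cfsg.MemLocalIdeal M (η ⟨x, hx⟩ - η 1) := fun {η} hη => by
    obtain ⟨a, ha, hae⟩ := BlocksCharsC.sub_degree_mem hM hη
      (show orderOf (⟨x, hx⟩ : D) = 2 ^ i by rw [Subgroup.orderOf_mk, hi])
    exact ⟨a, 1, ha, fun h1 => (inferInstance : M.IsPrime).ne_top ((Ideal.eq_top_iff_one M).2 h1),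
      by rw [hae]; simp⟩
  rw [h1, h2, show φ ⟨x, hx⟩ - ψ ⟨x, hx⟩ - (φ 1 - ψ 1) =
    (φ ⟨x, hx⟩ - φ 1) - (ψ ⟨x, hx⟩ - ψ 1) by ring]
  exact CfsgLib.Blocks.memLocalIdeal_sub (key hφ) (key hψ)

include hmax

/-- The block below an element with centralizer in `K` comes from `K`. -/
theorem below_loc {r : G} (hr : r ∈ D) (hC : Subgroup.centralizer ({r} : Set G) ≤ K) :
    below 2 D eP (Subgroup.zpowers r) = emb K.subtype (below 2 (D.subgroupOf K) 𝒞.e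
      (Subgroup.zpowers (⟨r, hDK hr⟩ : ↥K))) := by
  haveI : Fact (Nat.Prime 2) := ⟨Nat.prime_two⟩
  haveI := Fintype.ofFinite ↥K
  have h := Le.map (φ := K.subtype) K.subtype_injective
    (le_below 𝒞.maxPair (show (⟨r, hDK hr⟩ : ↥K) ∈ D.subgroupOf K from hr))
  rw [← MonoidHom.range_eq_map, K.range_subtype, MonoidHom.map_zpowers,
    Subgroup.map_subgroupOf_eq_of_le hDK, 𝒞.emb_eq] at h
  refine below_eq hmax (h.to_top (Q := Subgroup.zpowers r) ?_ le_rfl)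
  rwa [← top_inf_eq (Subgroup.centralizer _), ← cent, Star.cent_zpowers]

include hM

/-- The trace of a block below in `K`. -/
theorem TK_F {φ : ↥K → ℂ} (hφ : Cfsg.IsClassFunction ↥K φ) (w : ↥(D.subgroupOf K))
    (s : ↥(Subgroup.centralizer ({(w : ↥K)} : Set ↥K))) (hs : ¬ 2 ∣ orderOf s) :
    T M φ ((w : ↥K) * (s : ↥K))
        (below 2 (D.subgroupOf K) 𝒞.e (Subgroup.zpowers (w : ↥K))) =
      FK 𝒞 φ w * T M (𝒞.χ₀ : ↥K → ℂ) ((w : ↥K) * (s : ↥K))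
        (below 2 (D.subgroupOf K) 𝒞.e (Subgroup.zpowers (w : ↥K))) := by
  haveI : Fact (Nat.Prime 2) := ⟨Nat.prime_two⟩
  have hjb := mem_blocks.1 (below_mem_blocks 𝒞.maxPair w.2)
  have hfix := hjb.fixed ((w : ↥K) * (s : ↥K)) (by
    rw [Star.cent_zpowers]
    exact mul_mem (Subgroup.mem_centralizer_singleton_iff.2 rfl) s.2)
  have hexp : φ = fun k => ∑ ξ : IrrCharacter ↥K,
      Cfsg.classInner φ (ξ : ↥K → ℂ) * (ξ : ↥K → ℂ) k := by
    funext k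
    have := congrFun (Characters.classFunction_expansion hφ) k
    simpa [Finset.sum_apply] using this
  conv_lhs => rw [hexp]
  rw [T_fun_sum Finset.univ _ (fun ξ : IrrCharacter ↥K => (ξ : ↥K → ℂ))
    (fun ξ _ => Characters.isClassFunction_of_isIrr ξ.2) hjb.idem hfix, FK, Finset.sum_mul]
  rw [← Finset.sum_subset (Finset.subset_univ (Finset.univ.image 𝒞.Ψ)) fun ξ _ hξ => ?_,
    Finset.sum_image fun a _ b _ e => 𝒞.inj e]
  · refine Finset.sum_congr rfl fun θ _ => ?_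
    rw [mul_assoc]
    congr 1
    rw [𝒞.eqn, T_star_below hM 𝒞.block 𝒞.maxPair
      (isInvariant_extend 𝒞.block 𝒞.maxPair 𝒞.nilp (Characters.isClassFunction_of_isIrr θ.2))
      (Characters.isClassFunction_of_isIrr 𝒞.χ₀.2) w.2 s hs,
      Characters.extendByZero_of_mem (D.subgroupOf K) _ w.2]
  · refine mul_eq_zero_of_right _ (T_below_eq_zero hM 𝒞.block 𝒞.maxPair (fun hb => hξ ?_)
      w.2 s hs)
    obtain ⟨θ, rfl⟩ := (𝒞.mem_iff ξ).1 hb
    exact Finset.mem_image.2 ⟨θ, Finset.mem_univ _, rfl⟩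

/-- The trace of the block below. -/
theorem T_F {χ : G → ℂ} (hχ : Cfsg.IsClassFunction G χ) {r : G}
    (hr : r ∈ D) (hC : Subgroup.centralizer ({r} : Set G) ≤ K)
    (s : ↥(Subgroup.centralizer ({(⟨r, hDK hr⟩ : ↥K)} : Set ↥K)))
    (hs : ¬ 2 ∣ orderOf s) :
    T M χ (r * ((s : ↥K) : G)) (below 2 D eP (Subgroup.zpowers r)) =
      F 𝒞 χ r * T M (𝒞.χ₀ : ↥K → ℂ) ((⟨r, hDK hr⟩ : ↥K) * (s : ↥K))
        (below 2 (D.subgroupOf K) 𝒞.e (Subgroup.zpowers (⟨r, hDK hr⟩ : ↥K))) := by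
  haveI : Fact (Nat.Prime 2) := ⟨Nat.prime_two⟩
  revert s hs
  set r' : ↥K := ⟨r, hDK hr⟩ with hr'
  intro s hs
  have hr'D : r' ∈ D.subgroupOf K := Subgroup.mem_subgroupOf.2 hr
  have hjb := mem_blocks.1 (below_mem_blocks 𝒞.maxPair hr'D)
  have hfix := hjb.fixed (r' * (s : ↥K)) (by
    rw [Star.cent_zpowers]
    exact mul_mem (Subgroup.mem_centralizer_singleton_iff.2 rfl) s.2)
  rw [below_loc hmax 𝒞 hr hC,
    show r * ((s : ↥K) : G) = ((r' * (s : ↥K) : ↥K) : G) from rfl,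
    T_emb K hχ hjb.idem hfix, F_eq_FK 𝒞 χ hr]
  exact TK_F hM hmax 𝒞 (isClassFunction_comap K hχ) (liftD hDK ⟨r, hr⟩) s hs

omit hmax in
/-- The height zero member sees the block below. -/
theorem exists_T_ne_zero (w : ↥(D.subgroupOf K)) :
    ∃ s : ↥(Subgroup.centralizer ({(w : ↥K)} : Set ↥K)), ¬ 2 ∣ orderOf s ∧
      T M (𝒞.χ₀ : ↥K → ℂ) ((w : ↥K) * (s : ↥K))
        (below 2 (D.subgroupOf K) 𝒞.e (Subgroup.zpowers (w : ↥K))) ≠ 0 := by
  haveI : Fact (Nat.Prime 2) := ⟨Nat.prime_two⟩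
  have ha := aval_eq_one hM 𝒞.block 𝒞.maxPair 𝒞.nilp 𝒞.mem 𝒞.height w
  by_contra hc
  push Not at hc
  rw [aval, cval, wt, Star.cent_zpowers, nsum_eq_sum, Finset.sum_eq_zero fun s _ => ?_, mul_zero]
    at ha
  · exact zero_ne_one ha
  · split_ifs with hs
    · rfl
    · rw [hc s hs, zero_mul]

/-- The contribution. -/
theorem sval_eq_F {χ ψ : G → ℂ} (hχ : Cfsg.IsClassFunction G χ) (hψ : Cfsg.IsClassFunction G ψ)
    {r : G} (hr : r ∈ D) (hCK : Subgroup.centralizer ({r} : Set G) ≤ K) :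
    sval 2 D eP r χ ψ = F 𝒞 χ r * conj (F 𝒞 ψ r) /
      (Nat.card ↥(D ⊓ Subgroup.centralizer ({r} : Set G)) : ℂ) := by
  haveI : Fact (Nat.Prime 2) := ⟨Nat.prime_two⟩
  set r' : ↥K := ⟨r, hDK hr⟩ with hr'
  have hr'D : r' ∈ D.subgroupOf K := Subgroup.mem_subgroupOf.2 hr
  set C := Subgroup.centralizer ({r} : Set G) with hC
  set C' := Subgroup.centralizer ({r'} : Set ↥K) with hC'
  have hCm : C' = C.subgroupOf K := by
    ext k
    simp [hC', hC, Subgroup.mem_subgroupOf, Subgroup.mem_centralizer_singleton_iff, hr',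
      Subtype.ext_iff]
  let eC : ↥C' ≃* ↥C :=
    (MulEquiv.subgroupCongr hCm).trans (Subgroup.subgroupOfEquivOfLe hCK)
  have heC : ∀ s : ↥C', ((eC s : ↥C) : G) = ((s : ↥K) : G) := fun s => rfl
  have ha := aval_eq_one hM 𝒞.block 𝒞.maxPair 𝒞.nilp 𝒞.mem 𝒞.height ⟨r', hr'D⟩
  rw [aval, cval, wt, Star.cent_zpowers, nsum_eq_sum, ← hC'] at ha
  have hinf : Nat.card ↥(D.subgroupOf K ⊓ C') = Nat.card ↥(D ⊓ C) := by
    rw [hCm, ← Subgroup.inf_subgroupOf_right]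
    refine Nat.card_congr (Equiv.trans ?_ (Subgroup.subgroupOfEquivOfLe
      (inf_le_left.trans hDK : D ⊓ C ≤ K)).toEquiv)
    refine (MulEquiv.subgroupCongr ?_).toEquiv
    ext k
    simp [Subgroup.mem_subgroupOf]
  rw [hinf, ← Nat.card_congr eC.toEquiv.symm] at ha
  rw [sval, Star.cent_zpowers, nsum_eq_sum, ← hC]
  have hterm : ∀ s : ↥C', (if 2 ∣ orderOf (eC s) then 0 else
      T M χ (r * ((eC s : ↥C) : G)) (below 2 D eP (Subgroup.zpowers r)) *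
        conj (T M ψ (r * ((eC s : ↥C) : G)) (below 2 D eP (Subgroup.zpowers r)))) =
      F 𝒞 χ r * conj (F 𝒞 ψ r) * (if 2 ∣ orderOf s then 0 else
        T M (𝒞.χ₀ : ↥K → ℂ) (r' * (s : ↥K)) (below 2 (D.subgroupOf K) 𝒞.e (Subgroup.zpowers r')) *
          conj (T M (𝒞.χ₀ : ↥K → ℂ) (r' * (s : ↥K))
            (below 2 (D.subgroupOf K) 𝒞.e (Subgroup.zpowers r')))) := fun s => by
    rw [MulEquiv.orderOf_eq]
    split_ifs with hs
    · rw [mul_zero]
    · rw [heC, T_F hM hmax 𝒞 hχ hr hCK s hs, T_F hM hmax 𝒞 hψ hr hCK s hs, map_mul]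
      ring
  rw [← Fintype.sum_equiv eC.toEquiv _ _ fun s => (hterm s).symm, ← Finset.mul_sum]
  have hC0 : (Nat.card ↥C : ℂ) ≠ 0 := Nat.cast_ne_zero.2 Nat.card_pos.ne'
  have hD0 : (Nat.card ↥(D ⊓ C) : ℂ) ≠ 0 := Nat.cast_ne_zero.2 Nat.card_pos.ne'
  field_simp at ha ⊢
  linear_combination (F 𝒞 χ r * conj (F 𝒞 ψ r)) * ha

include hB

theorem exists_F_ne_zero {r : G} (hr : r ∈ D) (hC : Subgroup.centralizer ({r} : Set G) ≤ K) :
    ∃ χ : IrrCharacter G, χ ∈ B ∧ F 𝒞 (χ : G → ℂ) r ≠ 0 := by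
  by_contra hc
  push Not at hc
  haveI : Fact (Nat.Prime 2) := ⟨Nat.prime_two⟩
  obtain ⟨l, hl, he⟩ := exists_rank hM hB hmax hr
  rw [Finset.sum_eq_zero fun χ _ => ?_, eq_comm, Nat.cast_eq_zero] at he
  · omega
  split_ifs with hχ
  · rw [sval_eq_F hM hmax 𝒞 (Characters.isClassFunction_of_isIrr χ.2)
      (Characters.isClassFunction_of_isIrr χ.2) hr hC, hc χ hχ]
    simp
  · rfl

variable {R : Finset G} (hR : IsReps 2 D eP R)

include hR

/-- The columns are orthogonal. -/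
theorem sum_F_mul_conj {r r' : G} (hr : r ∈ R) (hC : Subgroup.centralizer ({r} : Set G) ≤ K)
    (hr' : r' ∈ R) (hC' : Subgroup.centralizer ({r'} : Set G) ≤ K) :
    ∑ χ : IrrCharacter G, (if χ ∈ B then F 𝒞 (χ : G → ℂ) r * conj (F 𝒞 (χ : G → ℂ) r') else 0) =
      if r = r' then (Nat.card ↥(D ⊓ Subgroup.centralizer ({r} : Set G)) : ℂ) else 0 := by
  haveI : Fact (Nat.Prime 2) := ⟨Nat.prime_two⟩
  have hrD := hR.1 r hr
  have hrD' := hR.1 r' hr'
  have hf := fun χ : IrrCharacter G => Characters.isClassFunction_of_isIrr χ.2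
  obtain ⟨a, haB, ha⟩ := exists_F_ne_zero hM hB hmax 𝒞 hrD' hC'
  obtain ⟨b, hbB, hb⟩ := exists_F_ne_zero hM hB hmax 𝒞 hrD hC
  have h := sum_sval_mul hM hB hmax hR haB hbB hr' hr
  simp only [sval_eq_F hM hmax 𝒞 (hf _) (hf _) hrD' hC',
    sval_eq_F hM hmax 𝒞 (hf _) (hf _) hrD hC] at h
  set N := (Nat.card ↥(D ⊓ Subgroup.centralizer ({r} : Set G)) : ℂ) with hN
  set N' := (Nat.card ↥(D ⊓ Subgroup.centralizer ({r'} : Set G)) : ℂ) with hN'
  have hN0 : N ≠ 0 := Nat.cast_ne_zero.2 Nat.card_pos.ne'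
  have hN0' : N' ≠ 0 := Nat.cast_ne_zero.2 Nat.card_pos.ne'
  have hcb : conj (F 𝒞 (b : G → ℂ) r) ≠ 0 := (map_ne_zero _).2 hb
  rw [Finset.sum_congr rfl (g := fun χ : IrrCharacter G =>
    F 𝒞 (a : G → ℂ) r' * conj (F 𝒞 (b : G → ℂ) r) / (N' * N) *
      if χ ∈ B then F 𝒞 (χ : G → ℂ) r * conj (F 𝒞 (χ : G → ℂ) r') else 0)
    (fun χ _ => by split_ifs <;> ring), ← Finset.mul_sum] at h
  set T := ∑ χ : IrrCharacter G,
    if χ ∈ B then F 𝒞 (χ : G → ℂ) r * conj (F 𝒞 (χ : G → ℂ) r') else 0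
  refine mul_left_cancel₀ (mul_ne_zero ha hcb) (?_ : _ * T = _ * _)
  split_ifs with e
  · subst e
    rw [if_pos rfl] at h
    rw [show N' = N from rfl] at h
    field_simp at h
    rw [h]
  · rw [if_neg (fun he => e he.symm), div_mul_eq_mul_div, div_eq_zero_iff] at h
    rw [h.resolve_right (mul_ne_zero hN0' hN0), mul_zero]

include 𝒞 in
/-- The block below has rank one. -/
theorem trace_loc {r : G} (hr : r ∈ R) (hC : Subgroup.centralizer ({r} : Set G) ≤ K) :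
    ∑ χ : IrrCharacter G, (if χ ∈ B then sval 2 D eP r (χ : G → ℂ) χ else 0) = 1 := by
  haveI : Fact (Nat.Prime 2) := ⟨Nat.prime_two⟩
  have h := sum_F_mul_conj hM hB hmax 𝒞 hR hr hC hr hC
  rw [if_pos rfl] at h
  rw [Finset.sum_congr rfl (g := fun χ : IrrCharacter G =>
    (Nat.card ↥(D ⊓ Subgroup.centralizer ({r} : Set G)) : ℂ)⁻¹ *
      if χ ∈ B then F 𝒞 (χ : G → ℂ) r * conj (F 𝒞 (χ : G → ℂ) r) else 0) (fun χ _ => by
        split_ifs
        · rw [sval_eq_F hM hmax 𝒞 (Characters.isClassFunction_of_isIrr χ.2)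
            (Characters.isClassFunction_of_isIrr χ.2) (hR.1 r hr) hC]
          ring
        · rw [mul_zero]), ← Finset.mul_sum, h,
    inv_mul_cancel₀ (Nat.cast_ne_zero.2 Nat.card_pos.ne')]

/-- The columns are orthogonal to the contributions at the other representatives. -/
theorem sum_sval_mul_F {r r' : G} (hr : r ∈ R) (hC : Subgroup.centralizer ({r} : Set G) ≤ K)
    (hr' : r' ∈ R) (hne : r' ≠ r) {χ : IrrCharacter G} (hχ : χ ∈ B) :
    ∑ ψ : IrrCharacter G, (if ψ ∈ B then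
      sval 2 D eP r' (χ : G → ℂ) ψ * F 𝒞 (ψ : G → ℂ) r else 0) = 0 := by
  haveI : Fact (Nat.Prime 2) := ⟨Nat.prime_two⟩
  have hf := fun χ : IrrCharacter G => Characters.isClassFunction_of_isIrr χ.2
  obtain ⟨b, hbB, hb⟩ := exists_F_ne_zero hM hB hmax 𝒞 (hR.1 r hr) hC
  have h := sum_sval_mul hM hB hmax hR hχ hbB hr' hr
  rw [if_neg hne, Finset.sum_congr rfl (g := fun ψ : IrrCharacter G =>
    conj (F 𝒞 (b : G → ℂ) r) / (Nat.card ↥(D ⊓ Subgroup.centralizer ({r} : Set G)) : ℂ) *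
      if ψ ∈ B then sval 2 D eP r' (χ : G → ℂ) ψ * F 𝒞 (ψ : G → ℂ) r else 0) (fun ψ _ => by
        split_ifs
        · rw [sval_eq_F hM hmax 𝒞 (hf _) (hf _) (hR.1 r hr) hC]
          ring
        · rw [mul_zero]), ← Finset.mul_sum, mul_eq_zero] at h
  refine h.resolve_left (div_ne_zero ?_ (Nat.cast_ne_zero.2 Nat.card_pos.ne'))
  exact (map_ne_zero _).2 hb

end CfsgLib.TameSQ
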