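import Cfsg.Agent.TameSQ.Generic
import Cfsg.Agent.Star.Height
import Cfsg.Agent.HomocyclicBlock.Nilpotent

/-!
# Single subsections

The contribution at a central element is a multiple of the regular inner product; a member with
vanishing contributions at all elements conjugate to `u` vanishes on the section of `u`; at an
element whose centralizer in the maximal pair's group is its own cyclic group, and which is fully
centralized, the block below has one Brauer character and, if the element is rational in that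
group, the norms are at least `1 / |C(r)|` in height zero.
-/

set_option autoImplicit false
set_option linter.unusedSectionVars false
set_option linter.style.haveILetI false

namespace CfsgLib.TameSQ

open Cfsg MonoidAlgebra CfsgLib.BlockPairs CfsgLib.Star Polynomial
open CfsgLib.Blocks (localRing Res)
open CfsgLib.BlockPairing (regInner)
open CfsgLib.TameBlocks (Fused IsReps sval sval_conj)
open CfsgLib.GaloisAverage (totatives mem_totatives card_totatives)
open scoped ComplexConjugate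

universe u

variable {G : Type u} [Group G] [Fintype G] {M : Ideal AlgInt} [M.IsPrime]
  [CharP (Res M) 2] [IsAlgClosed (Res M)] (hM : Cfsg.IsPModular 2 M)
  {B : Set (IrrCharacter G)} (hB : Cfsg.IsPBlock M B)
  {D : Subgroup G} {eP : GA (Res M) G} (hmax : IsMaxPair 2 (⊤ : Subgroup G) (gblk M B) D eP)

omit [CharP (Res M) 2] [IsAlgClosed (Res M)] in
/-- The contribution at equal arguments is a nonnegative real number, zero exactly when all the
traces vanish. -/
theorem exists_sval_self (r : G) (χ : G → ℂ) :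
    ∃ t : ℝ, 0 ≤ t ∧ sval 2 D eP r χ χ = (t : ℂ) ∧ (t = 0 → ∀ s, Commute s r → ¬ 2 ∣ orderOf s →
      T M χ (r * s) (below 2 D eP (Subgroup.zpowers r)) = 0) := by
  classical
  haveI : Fact (Nat.Prime 2) := ⟨Nat.prime_two⟩
  set C := cent ⊤ (Subgroup.zpowers r) with hC
  set S := Finset.univ.filter fun s => s ∈ C ∧ ¬ 2 ∣ orderOf s
  set e := below 2 D eP (Subgroup.zpowers r)
  set N := ∑ s ∈ S, Complex.normSq (T M χ (r * s) e)
  have hN : 0 ≤ N := Finset.sum_nonneg fun s _ => Complex.normSq_nonneg _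
  refine ⟨N / (Nat.card C : ℝ), div_nonneg hN (Nat.cast_nonneg _), ?_, fun h0 s hs hs2 => ?_⟩
  · rw [sval, nsum]
    push_cast [N]
    congr 1
    exact Finset.sum_congr (by congr 1) fun s _ => Complex.mul_conj _
  · have h1 := (div_eq_zero_iff.1 h0).resolve_right (Nat.cast_ne_zero.2 Nat.card_pos.ne')
    refine Complex.normSq_eq_zero.1 ((Finset.sum_eq_zero_iff_of_nonneg fun s _ =>
      Complex.normSq_nonneg _).1 h1 s (Finset.mem_filter.2 ⟨Finset.mem_univ _, ?_, hs2⟩))
    exact Star.cent_zpowers_mem.2 hs.eq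

omit [CharP (Res M) 2] [IsAlgClosed (Res M)] in
/-- A row with vanishing diagonal is zero. -/
theorem sval_eq_zero_of_self {r : G} {χ : G → ℂ} (h : sval 2 D eP r χ χ = 0) (ψ : G → ℂ) :
    sval 2 D eP r χ ψ = 0 := by
  classical
  obtain ⟨t, -, ht, hT⟩ := exists_sval_self (D := D) (eP := eP) r χ
  have h0 : t = 0 := by rw [h] at ht; exact_mod_cast ht.symm
  rw [sval, nsum, Finset.sum_eq_zero, zero_div]
  intro s hs
  obtain ⟨hs1, hs2⟩ := (Finset.mem_filter.1 hs).2
  rw [hT h0 s (Star.cent_zpowers_mem.1 hs1) hs2, zero_mul]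

include hM hB hmax

/-- The contribution at the identity. -/
theorem card_mul_sval_one {χ ψ : IrrCharacter G} (hχ : χ ∈ B) (hψ : ψ ∈ B) :
    (Nat.card D : ℂ) * sval 2 D eP 1 (χ : G → ℂ) ψ = (Contributions.contrib 2 B χ ψ : ℂ) := by
  haveI : Fact (Nat.Prime 2) := ⟨Nat.prime_two⟩
  rw [TameBlocks.sval_one hM hB hmax hχ hψ, Contributions.cast_contrib hχ,
    CfsgLib.Blocks.card_defectGroup hM hB
      ((isDefectGroup_gblk_iff hB D).2 (hmax.isDefectGrp (isBlock_gblk hB)).1)]

/-- The contribution at a central element of the whole group. -/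
theorem sval_central {z : G} (hzD : z ∈ D) (hz : ∀ g : G, Commute g z) {χ ψ : IrrCharacter G}
    (hχ : χ ∈ B) (hψ : ψ ∈ B) :
    sval 2 D eP z (χ : G → ℂ) ψ = (χ : G → ℂ) z / (χ : G → ℂ) 1 *
      conj ((ψ : G → ℂ) z / (ψ : G → ℂ) 1) * regInner 2 (χ : G → ℂ) ψ := by
  classical
  haveI : Fact (Nat.Prime 2) := ⟨Nat.prime_two⟩
  obtain ⟨i, hi⟩ := exists_orderOf hmax.1.1.2.1 hzD
  have hcent : cent ⊤ (Subgroup.zpowers z) = ⊤ :=
    eq_top_iff.2 fun g _ => Star.cent_zpowers_mem.2 (hz g).eq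
  have hT : ∀ θ : IrrCharacter G, θ ∈ B → ∀ s : G, ¬ 2 ∣ orderOf s →
      T M (θ : G → ℂ) (z * s) (below 2 D eP (Subgroup.zpowers z)) =
        (θ : G → ℂ) z / (θ : G → ℂ) 1 * (θ : G → ℂ) s := by
    intro θ hθ s hs
    have h1 : pPart 2 (z * s) = z :=
      pPart_eq ⟨s, rfl, (hz s).symm, ⟨i, hi⟩, hs⟩
    refine Eq.trans (Eq.trans ?_
      (sum_T_blocks (p := 2) (M := M) (Characters.isClassFunction_of_isIrr θ.2) (z * s))) ?_
    · rw [h1, Finset.sum_eq_single (below 2 D eP (Subgroup.zpowers z))]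
      · intro e he hne
        by_contra hT
        obtain ⟨x, hx⟩ := exists_conj_of_T_ne_zero hM hB hmax hθ (by rw [h1]; exact he) hT
        rw [h1, Star.cj_zpowers, (hz x).eq, mul_inv_cancel_right] at hx
        have hfix := (mem_blocks.1 (below_mem_blocks hmax hzD)).fixed x⁻¹
          (by rw [hcent]; exact Subgroup.mem_top _)
        rw [below_eq hmax hx, conjA_inv] at hfix
        rw [below_eq hmax hx] at hne
        exact hne hfix
      · intro hn
        exact absurd (below_mem_blocks hmax hzD) hn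
    · have h2 := BlocksCharsC.irr_central_mul θ.2
        (Subgroup.mem_center_iff.2 fun g => (hz g).eq : z ∈ Subgroup.center G) s
      have h3 := Characters.irr_one_ne_zero θ.2
      rw [div_mul_eq_mul_div, eq_div_iff h3]
      exact h2
  rw [sval, nsum_eq_sum, regInner, div_eq_inv_mul, hcent, Subgroup.card_top, Finset.mul_sum,
    Finset.mul_sum, Finset.mul_sum]
  refine Fintype.sum_equiv Subgroup.topEquiv.toEquiv _ _ fun s => ?_
  show _ = _ * ((Nat.card G : ℂ)⁻¹ *
    if 2 ∣ orderOf (s : G) then 0 else (χ : G → ℂ) (s : G) * conj ((ψ : G → ℂ) (s : G)))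
  rw [Subgroup.orderOf_coe]
  split_ifs with hs
  · simp
  · rw [hT χ hχ _ (by rwa [Subgroup.orderOf_coe]), hT ψ hψ _ (by rwa [Subgroup.orderOf_coe]),
      map_mul]
    ring

/-- A member vanishes on a section where all its contributions vanish. -/
theorem char_eq_zero_of_sval {R : Finset G} (hR : IsReps 2 D eP R) {χ : IrrCharacter G}
    (hχ : χ ∈ B) {u s : G} (hu : ∃ k, orderOf u = 2 ^ k) (hus : Commute u s)
    (hs : ¬ 2 ∣ orderOf s)
    (h : ∀ r ∈ R, IsConj u r → sval 2 D eP r (χ : G → ℂ) χ = 0) :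
    (χ : G → ℂ) (u * s) = 0 := by
  classical
  haveI : Fact (Nat.Prime 2) := ⟨Nat.prime_two⟩
  have hf := Characters.isClassFunction_of_isIrr χ.2
  have h1 : pPart 2 (u * s) = u := pPart_eq ⟨s, rfl, hus, hu, hs⟩
  rw [← sum_T_blocks (p := 2) (M := M) hf (u * s)]
  refine Finset.sum_eq_zero fun e he => ?_
  by_contra hT
  obtain ⟨x, hx⟩ := exists_conj_of_T_ne_zero hM hB hmax hχ he hT
  rw [h1] at he hx
  rw [Star.cj_zpowers] at hx
  set v := x * u * x⁻¹ with hv
  have hvD : v ∈ D := hx.subgroup_le (Subgroup.mem_zpowers _)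
  obtain ⟨r, ⟨hrR, g, hg, hgv⟩, -⟩ := hR.2 v hvD
  set t := g * x with ht
  have htu : t * u * t⁻¹ = r := by rw [← hgv, ht, hv]; group
  have hte : below 2 D eP (Subgroup.zpowers r) = conjA (Res M) t e := by
    refine below_eq hmax ?_
    have h2 := (mor_iff hx).1 hg
    rwa [Star.cj_zpowers, hgv, conjA_conjA] at h2
  obtain ⟨a, -, ha, hT0⟩ := exists_sval_self (D := D) (eP := eP) r (χ : G → ℂ)
  have ha0 : a = 0 := by
    rw [h r hrR (isConj_iff.2 ⟨t, htu⟩)] at ha
    exact_mod_cast ha.symm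
  have hT0' := hT0 ha0 (t * s * t⁻¹) (by
      rw [← htu]
      show t * s * t⁻¹ * (t * u * t⁻¹) = t * u * t⁻¹ * (t * s * t⁻¹)
      rw [show t * s * t⁻¹ * (t * u * t⁻¹) = t * (s * u) * t⁻¹ by group, ← hus.eq]
      group)
    (by rwa [show t * s * t⁻¹ = MulAut.conj t s from rfl, MulEquiv.orderOf_eq])
  have hb := mem_blocks.1 he
  have hfix := hb.fixed (u * s) (Star.cent_zpowers_mem.2 (by
    rw [mul_assoc, ← hus.eq]))
  rw [hte, ← htu, show t * u * t⁻¹ * (t * s * t⁻¹) = t * (u * s) * t⁻¹ by group,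
    T_conj hf (t := t) hb.idem hfix] at hT0'
  exact hT hT0'

omit hM hB hmax

/-- The weight times the contribution. -/
theorem cval_eq (r : G) (χ ψ : G → ℂ) :
    cval 2 D eP χ ψ r =
      (Nat.card ↥(D ⊓ Subgroup.centralizer ({r} : Set G)) : ℂ) * sval 2 D eP r χ ψ := by
  rw [cval, wt, sval, Star.cent_zpowers]
  ring

include hM hB hmax

variable {r : G} (hr : r ∈ D)
  (hd : IsDefectGrp 2 (Subgroup.centralizer ({r} : Set G)) (below 2 D eP (Subgroup.zpowers r))
    (D ⊓ Subgroup.centralizer ({r} : Set G)))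

include hr hd

/-- In height zero the contribution is a unit. -/
theorem not_memLocalIdeal_cval {χ ψ : IrrCharacter G} (hχ : χ ∈ B) (hψ : ψ ∈ B)
    (hχ0 : Cfsg.blockHeight 2 B (χ : G → ℂ) = 0) (hψ0 : Cfsg.blockHeight 2 B (ψ : G → ℂ) = 0) :
    ¬ Cfsg.MemLocalIdeal M (cval 2 D eP (χ : G → ℂ) (ψ : G → ℂ) r) := by
  haveI : Fact (Nat.Prime 2) := ⟨Nat.prime_two⟩
  haveI := Fintype.ofFinite ↥(Subgroup.centralizer ({r} : Set G))
  obtain ⟨hk, f, hf, hind, hle⟩ := exists_sub hM hB hmax hr
  rw [cval_eq_subContrib hM hB hmax hf hle (card_inf_eq hB hmax hM hd hf hle)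
    (Characters.isClassFunction_of_isIrr χ.2) (Characters.isClassFunction_of_isIrr ψ.2)]
  exact BlocksCharsC.subContrib_unit hM hk hB hind hχ hψ hχ0 hψ0

/-- A rational element: the norm is at least one in height zero. -/
theorem one_le_aval {χ : IrrCharacter G} (hχ : χ ∈ B)
    (h0 : Cfsg.blockHeight 2 B (χ : G → ℂ) = 0)
    (hrat : ∀ k : ℕ, k.Coprime (Nat.card D) →
      cval 2 D eP (χ : G → ℂ) (χ : G → ℂ) (r ^ k) = cval 2 D eP (χ : G → ℂ) (χ : G → ℂ) r) :
    1 ≤ ‖cval 2 D eP (χ : G → ℂ) (χ : G → ℂ) r‖ := by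
  haveI : Fact (Nat.Prime 2) := ⟨Nat.prime_two⟩
  set N := Nat.card D with hN
  have hζ₀ := Complex.isPrimitiveRoot_exp N Nat.card_pos.ne'
  obtain ⟨Q, hQ⟩ := exists_poly hM hB hmax hr
    (fun f hf hle => card_inf_eq hB hmax hM hd hf hle) χ χ hζ₀
  have h1 := hQ 1 (Nat.coprime_one_left _)
  rw [pow_one, pow_one] at h1
  have hne : aeval (Complex.exp (2 * Real.pi * Complex.I / N)) Q ≠ 0 := fun e => by
    refine not_memLocalIdeal_cval hM hB hmax hr hd hχ hχ h0 h0 ?_
    rw [h1, e]
    exact CfsgLib.Blocks.memLocalIdeal_zero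
  have h2 := one_le_prod_totatives Nat.card_pos hζ₀ Q hne
  rw [Finset.prod_congr rfl fun k hk => by
    rw [← hQ k (mem_totatives.1 hk).2, hrat k (mem_totatives.1 hk).2], Finset.prod_const] at h2
  by_contra hc
  push Not at hc
  refine absurd h2 (not_le.2 (pow_lt_one₀ (norm_nonneg _) hc ?_))
  rw [card_totatives]
  exact (Nat.totient_pos.2 Nat.card_pos).ne'

omit hr hd

open Classical in
/-- A fully centralized element with cyclic centralizer in the group of the pair has one Brauer
character below. -/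
theorem trace_small (hr : r ∈ D)
    (hC : D ⊓ Subgroup.centralizer ({r} : Set G) = Subgroup.zpowers r)
    (hd : IsDefectGrp 2 (Subgroup.centralizer ({r} : Set G)) (below 2 D eP (Subgroup.zpowers r))
      (D ⊓ Subgroup.centralizer ({r} : Set G))) :
    ∑ χ : IrrCharacter G, (if χ ∈ B then sval 2 D eP r (χ : G → ℂ) χ else 0) = 1 := by
  haveI : Fact (Nat.Prime 2) := ⟨Nat.prime_two⟩
  haveI := Fintype.ofFinite ↥(Subgroup.centralizer ({r} : Set G))
  set C := Subgroup.centralizer ({r} : Set G) with hCdef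
  set Q := Subgroup.zpowers r with hQdef
  set f := below 2 D eP Q with hfdef
  have hblk : IsBlock C f := by
    have := mem_blocks.1 (below_mem_blocks hmax hr)
    rwa [Star.cent_zpowers] at this
  have hcQ : Subgroup.centralizer (Q : Set G) = C := by
    rw [hCdef, ← Star.cent_zpowers, cent, top_inf_eq]
  rw [hC] at hd
  have hQC : Q ≤ C := Subgroup.zpowers_le.2 (Subgroup.mem_centralizer_singleton_iff.2 rfl)
  have hpair : IsPair 2 C Q f :=
    IsPair.of_top hQC hcQ.le (le_pair hmax.1.1 (le_below hmax hr))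
  have hmaxC : IsMaxPair 2 C f Q f := isMaxPair_of_defect hd ⟨hpair, hpair.blockHas_self⟩
  have hcomm : ∀ c ∈ C, ∀ q ∈ Q, c * q = q * c := fun c hc q hq => by
    rw [← hcQ] at hc
    exact (Subgroup.mem_centralizer_iff.1 hc q hq).symm
  have hn : Nilp 2 C f := by
    intro R g hR x hx _
    obtain ⟨k, hk, hle⟩ := exists_conj_le hblk hmaxC hR
    refine mem_centralizer_cj (z := k) (Subgroup.mem_centralizer_iff.2 fun q hq => ?_)
    exact (hcomm _ (mul_mem (mul_mem hk (stab_le hx)) (inv_mem hk)) q (hle.subgroup_le hq)).symm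
  obtain ⟨b, e', hb, hsb, -, hm, hnb⟩ := TameBlocks.exists_local_nilp hblk hmaxC hn
  have hab : Q.subgroupOf C ≤
      Subgroup.centralizer ((Q.subgroupOf C : Subgroup ↥C) : Set ↥C) := fun a _ =>
    Subgroup.mem_centralizer_iff.2 fun c hc => Subtype.ext
      (hcomm (a : G) a.2 (c : G) (Subgroup.mem_subgroupOf.1 hc)).symm
  obtain ⟨-, ψ, hψ⟩ := HomocyclicBlock.exists_oneBrauer hM hb hm hab hnb
  rw [TameBlocks.sum_sval_self hM hB hmax hr hb hsb.symm, hψ.blockRank_eq, Nat.cast_one]

end CfsgLib.TameSQ
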