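import Cfsg.Agent.TameSQ.QShape
import Cfsg.Agent.TameSQ.Subsections
import Cfsg.Agent.TameSQ.Local
import Cfsg.Agent.TameBlocks.DihedralFusion

/-!
# The fusion of a maximal pair with quaternion group

Two rotations fused below the maximal pair are equal or inverse; `reps S` holds `σ ^ a`, `a ≤ h`,
and one member of each remaining class; those have cyclic centralizers of order four and are fully
centralized.  The stabilizer `KT` of the pair at `w` has a nilpotent block with the same maximal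
pair and contains the centralizers of the rotations of order at least four.
-/

set_option autoImplicit false
set_option linter.unusedSectionVars false
set_option linter.style.haveILetI false

namespace CfsgLib.TameSQ

open Cfsg CfsgLib.BlockPairs CfsgLib.Star
open CfsgLib.Blocks (Res)
open CfsgLib.TameBlocks (Fused IsReps sval)

universe u

variable {G : Type u} [Group G] [Fintype G] {M : Ideal AlgInt} [M.IsPrime]
  [CharP (Res M) 2] [IsAlgClosed (Res M)] {B : Set (IrrCharacter G)} (hB : Cfsg.IsPBlock M B)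
  {D : Subgroup G} {eP : GA (Res M) G} (hmax : IsMaxPair 2 (⊤ : Subgroup G) (gblk M B) D eP)
  {h : ℕ} (S : QShape D h)

/-- The rotations `σ ^ a`, `a ≤ h`. -/
noncomputable def rots : Finset G :=
  letI := Classical.decEq G
  (Finset.range (h + 1)).image fun a => S.σ ^ a

open Classical in
/-- The elements whose class holds none of the rotations. -/
noncomputable def others (eP : GA (Res M) G) : Finset G :=
  Finset.univ.filter fun w => w ∈ D ∧ ∀ r ∈ rots S, ¬ Fused 2 D eP w r

/-- The representatives. -/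
noncomputable def reps (eP : GA (Res M) G) : Finset G :=
  letI := Classical.decEq G
  rots S ∪ (others S eP).image fun w =>
    letI := Classical.propDecidable
    if hh : ({x : G | Fused 2 D eP w x}).Nonempty then hh.some else 1

theorem mem_rots {r : G} : r ∈ rots S ↔ ∃ a, a ≤ h ∧ r = S.σ ^ a := by
  classical
  simp [rots, eq_comm]

theorem mem_zpowers_of_mem_rots {r : G} (hr : r ∈ rots S) : r ∈ Subgroup.zpowers S.σ := by
  obtain ⟨a, -, rfl⟩ := (mem_rots S).1 hr
  exact S.pow_mem_zpowers a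

theorem one_mem_rots : (1 : G) ∈ rots S := (mem_rots S).2 ⟨0, Nat.zero_le _, (pow_zero _).symm⟩

theorem z_mem_rots : S.z ∈ rots S := (mem_rots S).2 ⟨h, le_rfl, rfl⟩

theorem rot_mem_rots {a : ℕ} (ha : a ≤ h) : S.σ ^ a ∈ rots S := (mem_rots S).2 ⟨a, ha, rfl⟩

theorem card_rots : (rots S).card = h + 1 := by
  classical
  rw [rots, Finset.card_image_of_injOn, Finset.card_range]
  intro a ha b hb he
  simp only [Finset.coe_range, Set.mem_Iio] at ha hb
  have := S.h_two_le
  exact S.sigma_pow_inj (by omega) (by omega) he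

theorem normalizer_rot {u : G} (hu : u ∈ Subgroup.zpowers S.σ) :
    D ≤ Subgroup.normalizer (Subgroup.zpowers u : Set G) := fun y hy => by
  refine mem_normalizer_of_cj_eq ?_
  rw [Star.cj_zpowers]
  rcases S.conj_rot hy hu with e | e <;> simp [e]

theorem exists_rot_eq_or_inv {u : G} (hu : u ∈ Subgroup.zpowers S.σ) :
    ∃ r ∈ rots S, u = r ∨ u = r⁻¹ := by
  obtain ⟨k, hk⟩ := (mem_powers_iff_mem_zpowers (x := S.σ)).2 hu
  replace hk : u = S.σ ^ k := hk.symm
  obtain ⟨k, hk2, rfl⟩ : ∃ j : ℕ, j < 2 * h ∧ u = S.σ ^ j :=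
    ⟨k % (2 * h), Nat.mod_lt _ (by have := S.h_two_le; omega),
      by rw [hk, ← S.order, pow_mod_orderOf]⟩
  by_cases hkh : k ≤ h
  · exact ⟨_, rot_mem_rots S hkh, Or.inl rfl⟩
  · refine ⟨_, rot_mem_rots S (a := 2 * h - k) (by omega), Or.inr ?_⟩
    refine eq_inv_of_mul_eq_one_left ?_
    rw [← pow_add, show k + (2 * h - k) = orderOf S.σ by rw [S.order]; omega, pow_orderOf_eq_one]

include hmax

theorem fused_inv {u : G} (hu : u ∈ Subgroup.zpowers S.σ) : Fused 2 D eP u u⁻¹ := by
  haveI : Fact (Nat.Prime 2) := ⟨Nat.prime_two⟩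
  have := Fused.of_mem (p := 2) hmax.1.1 (S.zpowers_le hu) S.τ_mem
  rwa [S.refl_conj S.τ_mem S.τ_not_mem hu] at this

theorem z_eq_of_fused {v : G} (hf : Fused 2 D eP S.z v) : v = S.z := by
  obtain ⟨g, hg, rfl⟩ := hf
  have hvD : g * S.z * g⁻¹ ∈ D :=
    hg.target_le (mem_cj.2 (by simp [mul_assoc]))
  rcases S.eq_one_or_z_of_mem hvD (by
    rw [show g * S.z * g⁻¹ * (g * S.z * g⁻¹) = g * (S.z * S.z) * g⁻¹ by group, S.z_mul_z,
      mul_one, mul_inv_cancel]) with e | e
  · exact absurd (conj_eq_one_iff.1 e) S.z_ne_one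
  · exact e

include hB

/-- Fused rotations are equal or inverse. -/
theorem rot_fused {u v : G} (hu : u ∈ Subgroup.zpowers S.σ) (hv : v ∈ Subgroup.zpowers S.σ)
    (hf : Fused 2 D eP u v) : v = u ∨ v = u⁻¹ := by
  have hvu : v ∈ Subgroup.zpowers u := by
    have := TameBlocks.eq_of_le_cyclic (P := Subgroup.zpowers S.σ) (Subgroup.zpowers_le.2 hu)
      (Subgroup.zpowers_le.2 hv) (by rw [Nat.card_zpowers, Nat.card_zpowers, hf.orderOf_eq])
    exact this ▸ Subgroup.mem_zpowers v
  obtain ⟨y, hy, rfl⟩ := fused_cyclic hB hmax (S.zpowers_le hu) (normalizer_rot S hu) hf hvu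
  exact S.conj_rot hy hu

/-- The representatives hold one member of each class. -/
theorem isReps_reps : IsReps 2 D eP (reps S eP) := by
  classical
  haveI : Fact (Nat.Prime 2) := ⟨Nat.prime_two⟩
  have hPe := hmax.1.1
  let c : G → G := fun w =>
    if hh : ({x : G | Fused 2 D eP w x}).Nonempty then hh.some else 1
  have hne : ∀ w ∈ D, ({x : G | Fused 2 D eP w x}).Nonempty := fun w hw => ⟨w, Fused.refl hPe hw⟩
  have hrep : ∀ w ∈ D, Fused 2 D eP w (c w) := fun w hw => by
    simp only [c, dif_pos (hne w hw)]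
    exact (hne w hw).some_mem
  have hcong : ∀ w w', Fused 2 D eP w w' → c w = c w' := fun w w' hf => by
    have e : {x : G | Fused 2 D eP w x} = {x : G | Fused 2 D eP w' x} := by
      ext x
      exact ⟨fun hx => hf.symm.trans hPe hx, fun hx => hf.trans hPe hx⟩
    simp only [c, e]
  have hoth : ∀ {w}, w ∈ others S eP ↔ w ∈ D ∧ ∀ r ∈ rots S, ¬ Fused 2 D eP w r :=
    fun {w} => by simp [others]
  have hreps : reps S eP = rots S ∪ (others S eP).image c := by
    rw [reps]
  rw [hreps]
  constructor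
  · intro r hr
    simp only [Finset.mem_union, Finset.mem_image] at hr
    rcases hr with hr | ⟨w, hw, rfl⟩
    · exact S.zpowers_le (mem_zpowers_of_mem_rots S hr)
    · exact (hrep w (hoth.1 hw).1).mem_right
  intro w hw
  by_cases hrot : ∃ r ∈ rots S, Fused 2 D eP w r
  · obtain ⟨r, hr, hf⟩ := hrot
    refine ⟨r, ⟨Finset.mem_union_left _ hr, hf⟩, fun x hx => ?_⟩
    obtain ⟨hx1, hx2⟩ := hx
    simp only [Finset.mem_union, Finset.mem_image] at hx1
    rcases hx1 with hx1 | ⟨v, hv, rfl⟩
    · have hrx := hf.symm.trans hPe hx2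
      obtain ⟨a, ha, rfl⟩ := (mem_rots S).1 hr
      obtain ⟨b, hb, rfl⟩ := (mem_rots S).1 hx1
      have := S.h_two_le
      rcases rot_fused hB hmax S (S.pow_mem_zpowers a) (S.pow_mem_zpowers b) hrx with e | e
      · exact e
      · rcases Nat.eq_zero_or_pos a with ha0 | ha0
        · simpa [ha0] using e
        · have e' : S.σ ^ b = S.σ ^ (2 * h - a) := by
            rw [e, inv_eq_iff_mul_eq_one, ← pow_add,
              show a + (2 * h - a) = orderOf S.σ by rw [S.order]; omega, pow_orderOf_eq_one]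
          have := S.sigma_pow_inj (a := b) (b := 2 * h - a) (by omega) (by omega) e'
          rw [show b = a by omega]
    · exact absurd ((hrep v (hoth.1 hv).1).trans hPe (hx2.symm.trans hPe hf))
        ((hoth.1 hv).2 r hr)
  · push Not at hrot
    have hwo : w ∈ others S eP := hoth.2 ⟨hw, hrot⟩
    refine ⟨c w, ⟨Finset.mem_union_right _ (Finset.mem_image.2 ⟨w, hwo, rfl⟩),
      hrep w hw⟩, fun x hx => ?_⟩
    obtain ⟨hx1, hx2⟩ := hx
    simp only [Finset.mem_union, Finset.mem_image] at hx1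
    rcases hx1 with hx1 | ⟨v, hv, rfl⟩
    · exact absurd hx2 (hrot x hx1)
    · exact (hcong _ _ (hx2.trans hPe (hrep v (hoth.1 hv).1).symm)).symm

theorem rots_subset_reps : rots S ⊆ reps S eP := by
  classical
  exact Finset.subset_union_left

/-- A representative outside the rotations is fused to no rotation. -/
theorem not_fused_of_reps {r v : G} (hr : r ∈ reps S eP) (hn : r ∉ rots S)
    (hv : v ∈ Subgroup.zpowers S.σ) : ¬ Fused 2 D eP r v := fun hf => by
  haveI : Fact (Nat.Prime 2) := ⟨Nat.prime_two⟩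
  obtain ⟨s, hs, e⟩ := exists_rot_eq_or_inv S hv
  have hsr : Fused 2 D eP r s := by
    rcases e with e | e
    · exact e ▸ hf
    · exact hf.trans hmax.1.1 (e ▸ (fused_inv hmax S (mem_zpowers_of_mem_rots S hs)).symm)
  exact hn ((isReps_reps hB hmax S).eq_of_fused hmax.1.1 hr (rots_subset_reps hB hmax S hs) hsr ▸ hs)

theorem not_mem_zpowers_of_reps {r : G} (hr : r ∈ reps S eP) (hn : r ∉ rots S) :
    r ∉ Subgroup.zpowers S.σ := fun hσ => by
  haveI : Fact (Nat.Prime 2) := ⟨Nat.prime_two⟩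
  exact not_fused_of_reps hB hmax S hr hn hσ
    (Fused.refl hmax.1.1 ((isReps_reps hB hmax S).1 r hr))

theorem isFullyCentralized_other {r : G} (hr : r ∈ reps S eP) (hn : r ∉ rots S) :
    (blockSystem hmax.1.1).IsFullyCentralized (Subgroup.zpowers r) := by
  haveI : Fact (Nat.Prime 2) := ⟨Nat.prime_two⟩
  have hrD := (isReps_reps hB hmax S).1 r hr
  have hrσ := not_mem_zpowers_of_reps hB hmax S hr hn
  refine ⟨Subgroup.zpowers_le.2 hrD, fun R hR => ?_⟩
  obtain ⟨g, hg, rfl⟩ := isConj_iff_mor.1 hR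
  set r' := g * r * g⁻¹ with hr'
  have hf : Fused 2 D eP r r' := ⟨g, hg, rfl⟩
  have hr'D : r' ∈ D := hf.mem_right
  have hr'σ : r' ∉ Subgroup.zpowers S.σ := fun h' => not_fused_of_reps hB hmax S hr hn h' hf
  rw [Star.cj_zpowers]
  have hcen : ∀ x : G, Cfsg.FusionSystem.centralizerIn D (Subgroup.zpowers x) =
      D ⊓ Subgroup.centralizer ({x} : Set G) := fun x => by
    rw [← Star.cent_zpowers, cent, top_inf_eq]
    rfl
  rw [hcen, hcen, S.inf_centralizer_refl hrD hrσ, S.inf_centralizer_refl hr'D hr'σ,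
    Nat.card_zpowers, Nat.card_zpowers, S.orderOf_refl hrD hrσ, S.orderOf_refl hr'D hr'σ]

theorem defect_other {r : G} (hr : r ∈ reps S eP) (hn : r ∉ rots S) :
    IsDefectGrp 2 (Subgroup.centralizer ({r} : Set G)) (below 2 D eP (Subgroup.zpowers r))
      (D ⊓ Subgroup.centralizer ({r} : Set G)) :=
  defect_below hB hmax ((isReps_reps hB hmax S).1 r hr) (isFullyCentralized_other hB hmax S hr hn)

theorem defect_rot {r : G} (hr : r ∈ Subgroup.zpowers S.σ) :
    IsDefectGrp 2 (Subgroup.centralizer ({r} : Set G)) (below 2 D eP (Subgroup.zpowers r))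
      (D ⊓ Subgroup.centralizer ({r} : Set G)) := by
  haveI : Fact (Nat.Prime 2) := ⟨Nat.prime_two⟩
  exact defect_below hB hmax (S.zpowers_le hr)
    (fullyCentralized_of_fullyNormalized (isBlock_gblk hB) hmax
      (isFullyNormalized_of_normal hmax (Subgroup.zpowers_le.2 (S.zpowers_le hr))
        (normalizer_rot S hr)))

omit hB hmax

/-- The stabilizer of the pair at `w`. -/
noncomputable abbrev KT (eP : GA (Res M) G) : Subgroup G :=
  stab ⊤ (Subgroup.zpowers S.w) (below 2 D eP (Subgroup.zpowers S.w))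

include hB hmax

theorem D_le_KT : D ≤ KT S eP := by
  haveI : Fact (Nat.Prime 2) := ⟨Nat.prime_two⟩
  have h := (le_normalizer_part hmax (le_below hmax S.w_mem)).1
  rwa [inf_eq_left.2 (normalizer_rot S S.w_mem_zpowers)] at h

theorem centralizer_rot_le_KT {r : G} (hr : r ∈ Subgroup.zpowers S.σ) (h1 : r ≠ 1)
    (hz : r ≠ S.z) : Subgroup.centralizer ({r} : Set G) ≤ KT S eP := by
  haveI : Fact (Nat.Prime 2) := ⟨Nat.prime_two⟩
  refine (S.centralizer_rot_le hr h1 hz).trans ?_
  have h := (le_pair hmax.1.1 (le_below hmax S.w_mem)).cent_le_stab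
  rwa [Star.cent_zpowers] at h

/-- An element of odd order normalizing `⟨w⟩` centralizes it. -/
theorem commute_w_of_normalizer {x : G}
    (hx : x ∈ Subgroup.normalizer (Subgroup.zpowers S.w : Set G)) (hreg : Cfsg.IsPRegular 2 x) :
    Commute x S.w := by
  haveI : Fact (Nat.Prime 2) := ⟨Nat.prime_two⟩
  obtain ⟨m, hm⟩ := (isPGroup_mulAut hmax.1.1.2.1 S.w_mem)
    ((Subgroup.zpowers S.w).normalizerMonoidHom ⟨x, hx⟩)
  have h2 : orderOf ((Subgroup.zpowers S.w).normalizerMonoidHom ⟨x, hx⟩) ∣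
      Nat.gcd (2 ^ m) (orderOf x) := by
    refine Nat.dvd_gcd (orderOf_dvd_of_pow_eq_one hm) (orderOf_dvd_of_pow_eq_one ?_)
    rw [← map_pow, show (⟨x, hx⟩ : Subgroup.normalizer (Subgroup.zpowers S.w : Set G)) ^ orderOf x = 1
      from Subtype.ext (pow_orderOf_eq_one x), map_one]
  rw [((Nat.prime_two.coprime_iff_not_dvd.2 hreg).pow_left m).gcd_eq_one, Nat.dvd_one,
    orderOf_eq_one_iff, ← MonoidHom.mem_ker, Subgroup.normalizerMonoidHom_ker] at h2
  exact (Subgroup.mem_centralizer_iff.1 h2 S.w (Subgroup.mem_zpowers _)).symm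

/-- The block of the stabilizer is nilpotent with maximal pair `(D, eP)`. -/
theorem exists_locData_KT (hM : Cfsg.IsPModular 2 M) :
    Nonempty (LocData M eP (KT S eP) (D_le_KT hB hmax S)) := by
  haveI : Fact (Nat.Prime 2) := ⟨Nat.prime_two⟩
  set Q := Subgroup.zpowers S.w with hQdef
  set f := below 2 D eP Q with hfdef
  have hle := le_below hmax S.w_mem
  have hQf := le_pair hmax.1.1 hle
  have hDK := D_le_KT hB hmax S
  have hblk : IsBlock (KT S eP) f :=
    block_of_le_stab hQf (hQf.le_stab) hQf.cent_le_stab le_rfl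
  have hnor : D ≤ Subgroup.normalizer (Q : Set G) := normalizer_rot S S.w_mem_zpowers
  obtain ⟨g, hs, hg⟩ := step_of_le hle hmax.1.1 (Subgroup.zpowers_le.2 S.w_mem) le_rfl hnor
  rw [le_unique hg Le.refl'] at hs
  have hd : IsDefectGrp 2 (KT S eP) f D := by
    refine isDefectGrp_of_card hblk hDK hmax.1.1.2.1 hs.br_ne_zero fun T hT hTp hne => ?_
    obtain ⟨z, -, hzT⟩ := exists_conj_into (isBlock_gblk hB) hmax hle hQf hT hTp hne
    exact (card_cj z T).symm.le.trans (Subgroup.card_le_of_le hzT)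
  have hC : Subgroup.centralizer (D : Set G) ≤ KT S eP := by
    refine le_trans ?_ hQf.cent_le_stab
    rw [cent, top_inf_eq]
    exact Subgroup.centralizer_le (SetLike.coe_subset_coe.2 (Subgroup.zpowers_le.2 S.w_mem))
  have hmK : IsMaxPair 2 (KT S eP) f D eP :=
    isMaxPair_of_defect hd ⟨hmax.1.1.of_top hDK hC, hs.2.2.2.2.2⟩
  refine exists_locData hM hblk hmK fun R g' hR x hx hreg => ?_
  obtain ⟨k, hk, hle'⟩ := exists_conj_le hblk hmK hR
  refine mem_centralizer_cj (z := k) ?_
  have hxN : k * x * k⁻¹ ∈ Subgroup.normalizer ((cj k R : Subgroup G) : Set G) := by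
    refine mem_normalizer_of_cj_eq ?_
    rw [cj_cj, inv_mul_cancel_right, ← cj_cj, cj_eq_self (stab_le_normalizer hx)]
  have hkx : k * x * k⁻¹ ∈ Subgroup.normalizer (Q : Set G) :=
    stab_le_normalizer (mul_mem (mul_mem hk (stab_le hx)) (inv_mem hk))
  exact S.centralizes hle'.subgroup_le hxN
    (commute_w_of_normalizer hB hmax S hkx (isPRegular_conj.2 hreg)) (isPRegular_conj.2 hreg)

end CfsgLib.TameSQ
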