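import Cfsg.Agent.BlockPairs.Nilpotent
import Mathlib.GroupTheory.SpecificGroups.Quaternion

/-!
# Generalized quaternion subgroups and their automorphisms of odd order

`QShape D h`: `D` is generalized quaternion of order `4 * h`, `h = 2 ^ e`, `1 ≤ e`, on the rotation
`σ`, with the involution `z = σ ^ h` and the element `w = σ ^ (h / 2)` of order four.  An element of
odd order normalizing a subgroup `Q` of `D` and fixing `w`, where `w ∈ Q`, centralizes `Q`.
-/

set_option autoImplicit false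
set_option linter.unusedSectionVars false
set_option linter.style.haveILetI false

namespace CfsgLib.TameSQ

universe u

variable {G : Type u} [Group G]

/-- A generalized quaternion subgroup of order `4 * h`, `h` a power of two greater than one. -/
structure QShape (D : Subgroup G) (h : ℕ) where
  σ : G
  τ : G
  σ_mem : σ ∈ D
  τ_mem : τ ∈ D
  τ_not_mem : τ ∉ Subgroup.zpowers σ
  order : orderOf σ = 2 * h
  conj : τ * σ * τ⁻¹ = σ⁻¹
  τ_sq : τ * τ = σ ^ h
  gen : ∀ x ∈ D, x ∈ Subgroup.zpowers σ ∨ ∃ k : ℤ, x = τ * σ ^ k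
  card : Nat.card D = 4 * h
  two_pow : ∃ e, 1 ≤ e ∧ h = 2 ^ e

theorem exists_qshape (D : Subgroup G) (n : ℕ) (hn : 3 ≤ n)
    (hq : Nonempty (D ≃* QuaternionGroup (2 ^ (n - 2)))) : Nonempty (QShape D (2 ^ (n - 2))) := by
  obtain ⟨f⟩ := hq
  set m := 2 ^ (n - 2)
  haveI : NeZero m := ⟨pow_ne_zero _ two_ne_zero⟩
  set s : D := f.symm (QuaternionGroup.a 1) with hs
  set t : D := f.symm (QuaternionGroup.xa 0) with ht
  have hnat : ∀ k : ℕ, f (s ^ k) = QuaternionGroup.a (k : ZMod (2 * m)) := fun k => by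
    rw [map_pow, hs, f.apply_symm_apply, QuaternionGroup.a_one_pow]
  have hz : ∀ k : ℤ, f (s ^ k) = QuaternionGroup.a (k : ZMod (2 * m)) := fun k => by
    obtain ⟨k, rfl | rfl⟩ := k.eq_nat_or_neg
    · rw [zpow_natCast, hnat, Int.cast_natCast]
    · rw [zpow_neg, zpow_natCast, map_inv, hnat, Int.cast_neg, Int.cast_natCast]
      rfl
  have hmem : ∀ x : D, ((x : G) ∈ Subgroup.zpowers (s : G) ↔ ∃ k : ℤ, x = s ^ k) := fun x => by
    constructor
    · rintro ⟨k, hk⟩
      exact ⟨k, Subtype.ext (by simpa using hk.symm)⟩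
    · rintro ⟨k, rfl⟩
      exact ⟨k, by simp⟩
  refine ⟨⟨(s : G), (t : G), s.2, t.2, fun h => ?_, ?_, ?_, ?_, fun x hx => ?_, ?_,
    n - 2, by omega, rfl⟩⟩
  · obtain ⟨k, hk⟩ := (hmem t).1 h
    have := congrArg f hk
    rw [hz, ht, f.apply_symm_apply] at this
    simp at this
  · rw [Subgroup.orderOf_coe, ← MulEquiv.orderOf_eq f, hs, f.apply_symm_apply,
      QuaternionGroup.orderOf_a_one]
  · have h1 : t * s = s⁻¹ * t := f.injective (by
      simp [hs, ht, show (QuaternionGroup.a (1 : ZMod (2 * m)))⁻¹ =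
        QuaternionGroup.a (-1) from rfl])
    have h2 : t * s * t⁻¹ = s⁻¹ := by rw [h1, mul_inv_cancel_right]
    simpa using congrArg Subtype.val h2
  · have : t * t = s ^ m := f.injective (by
      rw [map_mul, hnat, ht, f.apply_symm_apply, QuaternionGroup.xa_mul_xa]
      simp)
    simpa using congrArg Subtype.val this
  · rcases hv : f ⟨x, hx⟩ with a | a
    · obtain ⟨k, rfl⟩ := ZMod.intCast_surjective a
      refine Or.inl ((hmem ⟨x, hx⟩).2 ⟨k, f.injective ?_⟩)
      rw [hv, hz]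
    · obtain ⟨k, rfl⟩ := ZMod.intCast_surjective a
      refine Or.inr ⟨k, ?_⟩
      have : (⟨x, hx⟩ : D) = t * s ^ k := f.injective (by
        rw [hv, map_mul, hz, ht, f.apply_symm_apply, QuaternionGroup.xa_mul_a, zero_add])
      simpa using congrArg Subtype.val this
  · rw [Nat.card_congr f.toEquiv, Nat.card_eq_fintype_card, QuaternionGroup.card]

namespace QShape

variable {D : Subgroup G} {h : ℕ} (S : QShape D h)

include S

/-- The involution. -/
def z : G := S.σ ^ h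

/-- The rotation of order four. -/
def w : G := S.σ ^ (h / 2)

theorem h_two_le : 2 ≤ h := by
  obtain ⟨e, he, rfl⟩ := S.two_pow
  calc 2 = 2 ^ 1 := (pow_one 2).symm
    _ ≤ 2 ^ e := Nat.pow_le_pow_right (by norm_num) he

theorem h_pos : 0 < h := lt_of_lt_of_le two_pos S.h_two_le

theorem half_add : h / 2 + h / 2 = h := by
  obtain ⟨e, he, rfl⟩ := S.two_pow
  have : 2 ∣ 2 ^ e := dvd_pow_self 2 (by omega)
  omega

theorem zpowers_le : Subgroup.zpowers S.σ ≤ D := Subgroup.zpowers_le.2 S.σ_mem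

theorem pow_mem_zpowers (a : ℕ) : S.σ ^ a ∈ Subgroup.zpowers S.σ :=
  pow_mem (Subgroup.mem_zpowers _) a

theorem z_mem_zpowers : S.z ∈ Subgroup.zpowers S.σ := S.pow_mem_zpowers h

theorem w_mem_zpowers : S.w ∈ Subgroup.zpowers S.σ := S.pow_mem_zpowers _

theorem z_mem : S.z ∈ D := S.zpowers_le S.z_mem_zpowers

theorem w_mem : S.w ∈ D := S.zpowers_le S.w_mem_zpowers

theorem w_mul_w : S.w * S.w = S.z := by rw [w, ← pow_add, S.half_add, z]

theorem sigma_pow_inj {a b : ℕ} (ha : a < 2 * h) (hb : b < 2 * h) (he : S.σ ^ a = S.σ ^ b) :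
    a = b :=
  pow_injOn_Iio_orderOf (by rw [Set.mem_Iio, S.order]; exact ha)
    (by rw [Set.mem_Iio, S.order]; exact hb) he

theorem pow_two_h : S.σ ^ (2 * h) = 1 := by rw [← S.order, pow_orderOf_eq_one]

theorem z_mul_z : S.z * S.z = 1 := by rw [z, ← pow_add, ← two_mul, S.pow_two_h]

theorem z_inv : S.z⁻¹ = S.z := inv_eq_of_mul_eq_one_right S.z_mul_z

theorem z_ne_one : S.z ≠ 1 := fun h1 => by
  have := S.h_pos
  have h2 := S.sigma_pow_inj (a := h) (b := 0) (by omega) (by omega) (by rw [pow_zero]; exact h1)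
  omega

theorem w_ne_one : S.w ≠ 1 := fun h1 => S.z_ne_one (by rw [← S.w_mul_w, h1, one_mul])

theorem orderOf_w : orderOf S.w = 4 := by
  refine orderOf_eq_prime_pow (p := 2) (n := 1) ?_ ?_
  · rw [pow_one, pow_two, S.w_mul_w]; exact S.z_ne_one
  · rw [show 2 ^ (1 + 1) = 2 + 2 by norm_num, pow_add, pow_two, S.w_mul_w, S.z_mul_z]

theorem tau_conj_zpow (k : ℤ) : S.τ * S.σ ^ k * S.τ⁻¹ = S.σ ^ (-k) := by
  rw [← _root_.conj_zpow, S.conj, inv_zpow']

theorem zpow_tau (k : ℤ) : S.σ ^ k * S.τ = S.τ * S.σ ^ (-k) := by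
  have h1 := S.tau_conj_zpow (-k)
  rw [neg_neg, mul_inv_eq_iff_eq_mul] at h1
  exact h1.symm

theorem eq_tau_mul {x : G} (hx : x ∈ D) (hn : x ∉ Subgroup.zpowers S.σ) :
    ∃ k : ℤ, x = S.τ * S.σ ^ k :=
  (S.gen x hx).resolve_left hn

theorem refl_sq {x : G} (hx : x ∈ D) (hn : x ∉ Subgroup.zpowers S.σ) : x * x = S.z := by
  obtain ⟨k, rfl⟩ := S.eq_tau_mul hx hn
  calc S.τ * S.σ ^ k * (S.τ * S.σ ^ k) = S.τ * (S.σ ^ k * S.τ) * S.σ ^ k := by group
    _ = S.τ * S.τ * (S.σ ^ (-k) * S.σ ^ k) := by rw [S.zpow_tau]; group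
    _ = S.z := by rw [S.τ_sq, ← zpow_add, neg_add_cancel, zpow_zero, mul_one, z]

theorem refl_conj {x : G} (hx : x ∈ D) (hn : x ∉ Subgroup.zpowers S.σ) {v : G}
    (hv : v ∈ Subgroup.zpowers S.σ) : x * v * x⁻¹ = v⁻¹ := by
  obtain ⟨k, rfl⟩ := S.eq_tau_mul hx hn
  obtain ⟨m, rfl⟩ := hv
  calc S.τ * S.σ ^ k * S.σ ^ m * (S.τ * S.σ ^ k)⁻¹
      = S.τ * S.σ ^ m * S.τ⁻¹ := by group
    _ = (S.σ ^ m)⁻¹ := by rw [S.tau_conj_zpow, zpow_neg]

theorem rot_comm {u v : G} (hu : u ∈ Subgroup.zpowers S.σ) (hv : v ∈ Subgroup.zpowers S.σ) :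
    Commute u v := by
  obtain ⟨a, rfl⟩ := hu
  obtain ⟨b, rfl⟩ := hv
  exact (Commute.refl S.σ).zpow_zpow a b

theorem conj_rot {y : G} (hy : y ∈ D) {v : G} (hv : v ∈ Subgroup.zpowers S.σ) :
    y * v * y⁻¹ = v ∨ y * v * y⁻¹ = v⁻¹ := by
  by_cases hn : y ∈ Subgroup.zpowers S.σ
  · exact Or.inl (by rw [(S.rot_comm hn hv).eq, mul_inv_cancel_right])
  · exact Or.inr (S.refl_conj hy hn hv)

theorem z_central {x : G} (hx : x ∈ D) : Commute x S.z := by
  show x * S.z = S.z * x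
  rcases S.conj_rot hx S.z_mem_zpowers with h1 | h1
  · exact mul_inv_eq_iff_eq_mul.1 h1
  · rw [S.z_inv] at h1
    exact mul_inv_eq_iff_eq_mul.1 h1

theorem D_le_centralizer : D ≤ Subgroup.centralizer ({S.z} : Set G) := fun _ hx =>
  Subgroup.mem_centralizer_singleton_iff.2 (S.z_central hx).eq

theorem z_mem_centralizer : S.z ∈ Subgroup.centralizer (D : Set G) :=
  Subgroup.mem_centralizer_iff.2 fun _ hx => (S.z_central hx).eq

/-- The rotations of square one. -/
theorem eq_one_or_z {v : G} (hv : v ∈ Subgroup.zpowers S.σ) (h2 : v * v = 1) :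
    v = 1 ∨ v = S.z := by
  obtain ⟨k, rfl⟩ := hv
  have hd : ((2 * h : ℕ) : ℤ) ∣ k + k := by
    rw [← S.order, orderOf_dvd_iff_zpow_eq_one, zpow_add]
    exact h2
  push_cast at hd
  obtain ⟨m, hm⟩ := hd
  have hk : k = (h : ℤ) * m := by linarith
  rcases Int.even_or_odd' m with ⟨j, rfl | rfl⟩
  · left
    show S.σ ^ k = 1
    rw [hk, show (h : ℤ) * (2 * j) = ((2 * h : ℕ) : ℤ) * j by push_cast; ring, zpow_mul,
      zpow_natCast, S.pow_two_h, one_zpow]
  · right
    show S.σ ^ k = S.z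
    rw [hk, show (h : ℤ) * (2 * j + 1) = ((2 * h : ℕ) : ℤ) * j + h by push_cast; ring, zpow_add,
      zpow_mul, zpow_natCast, zpow_natCast, S.pow_two_h, one_zpow, one_mul, z]

/-- The elements of square one in the quaternion group. -/
theorem eq_one_or_z_of_mem {v : G} (hv : v ∈ D) (h2 : v * v = 1) : v = 1 ∨ v = S.z := by
  by_cases hn : v ∈ Subgroup.zpowers S.σ
  · exact S.eq_one_or_z hn h2
  · exact absurd ((S.refl_sq hv hn).symm.trans h2) S.z_ne_one

theorem inv_ne_self {v : G} (hv : v ∈ Subgroup.zpowers S.σ) (h1 : v ≠ 1) (hz : v ≠ S.z) :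
    v⁻¹ ≠ v := fun he => by
  rcases S.eq_one_or_z hv (by nth_rewrite 1 [← he]; exact inv_mul_cancel v) with e | e
  · exact h1 e
  · exact hz e

/-- The centralizer in `D` of a rotation of order more than two. -/
theorem inf_centralizer {v : G} (hv : v ∈ Subgroup.zpowers S.σ) (h1 : v ≠ 1) (hz : v ≠ S.z) :
    D ⊓ Subgroup.centralizer ({v} : Set G) = Subgroup.zpowers S.σ := by
  refine le_antisymm (fun x hx => ?_) fun _ hx =>
    ⟨S.zpowers_le hx, Subgroup.mem_centralizer_singleton_iff.2 (S.rot_comm hx hv).eq⟩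
  by_contra hn
  have := S.refl_conj hx.1 hn hv
  rw [Subgroup.mem_centralizer_singleton_iff.1 hx.2, mul_inv_cancel_right] at this
  exact S.inv_ne_self hv h1 hz this.symm

theorem orderOf_refl {x : G} (hx : x ∈ D) (hn : x ∉ Subgroup.zpowers S.σ) : orderOf x = 4 := by
  refine orderOf_eq_prime_pow (p := 2) (n := 1) ?_ ?_
  · rw [pow_one, pow_two, S.refl_sq hx hn]; exact S.z_ne_one
  · rw [show 2 ^ (1 + 1) = 2 + 2 by norm_num, pow_add, pow_two, S.refl_sq hx hn, S.z_mul_z]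

/-- The centralizer in `D` of an element outside the rotations. -/
theorem inf_centralizer_refl {x : G} (hx : x ∈ D) (hn : x ∉ Subgroup.zpowers S.σ) :
    D ⊓ Subgroup.centralizer ({x} : Set G) = Subgroup.zpowers x := by
  refine le_antisymm (fun y hy => ?_) fun _ hy => ⟨Subgroup.zpowers_le.2 hx hy, ?_⟩
  · by_cases hyσ : y ∈ Subgroup.zpowers S.σ
    · have h1 := S.refl_conj hx hn hyσ
      rw [← Subgroup.mem_centralizer_singleton_iff.1 hy.2, mul_inv_cancel_right] at h1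
      rcases S.eq_one_or_z hyσ (by nth_rewrite 1 [h1]; exact inv_mul_cancel y) with e | e
      · exact e ▸ one_mem _
      · exact e ▸ S.refl_sq hx hn ▸ mul_mem (Subgroup.mem_zpowers x) (Subgroup.mem_zpowers x)
    · obtain ⟨a, ha⟩ := S.eq_tau_mul hy.1 hyσ
      obtain ⟨b, hb⟩ := S.eq_tau_mul hx hn
      have hd : x⁻¹ * y ∈ Subgroup.zpowers S.σ :=
        ⟨-b + a, show S.σ ^ (-b + a) = x⁻¹ * y by rw [ha, hb]; group⟩
      have h1 := S.refl_conj hx hn hd
      rw [show x * (x⁻¹ * y) * x⁻¹ = y * x⁻¹ by group, mul_inv_rev, inv_inv] at h1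
      have hc : Commute y x⁻¹ := Commute.inv_right
        (show Commute y x from Subgroup.mem_centralizer_singleton_iff.1 hy.2)
      rcases S.eq_one_or_z hd (by
        calc x⁻¹ * y * (x⁻¹ * y) = x⁻¹ * y * (y * x⁻¹) := by rw [hc.eq]
          _ = x⁻¹ * y * (y⁻¹ * x) := by rw [h1]
          _ = 1 := by group) with e | e
      · rw [inv_mul_eq_one] at e
        exact e ▸ Subgroup.mem_zpowers x
      · rw [inv_mul_eq_iff_eq_mul] at e
        rw [e, ← S.refl_sq hx hn]
        exact mul_mem (Subgroup.mem_zpowers x) (mul_mem (Subgroup.mem_zpowers x) (Subgroup.mem_zpowers x))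
  · obtain ⟨k, rfl⟩ := hy
    exact Subgroup.mem_centralizer_singleton_iff.2 ((Commute.refl x).zpow_left k).eq

theorem card_zpowers_sigma : Nat.card (Subgroup.zpowers S.σ) = 2 * h := by
  rw [Nat.card_zpowers, S.order]

theorem isPGroup [Finite G] : IsPGroup 2 D := by
  obtain ⟨e, -, he⟩ := S.two_pow
  exact IsPGroup.of_card (n := e + 2) (by rw [S.card, he, pow_add]; ring)

theorem exists_orderOf [Finite G] {x : G} (hx : x ∈ D) : ∃ i, orderOf x = 2 ^ i := by
  obtain ⟨k, hk⟩ := S.isPGroup ⟨x, hx⟩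
  obtain ⟨i, -, hi⟩ := (Nat.dvd_prime_pow Nat.prime_two).1
    (orderOf_dvd_of_pow_eq_one (x := x) (n := 2 ^ k) (congrArg Subtype.val hk))
  exact ⟨i, hi⟩

/-- The rotation of order four lies in the group of every rotation of larger order. -/
theorem w_mem_zpowers_rot [Finite G] {u : G} (hu : u ∈ Subgroup.zpowers S.σ) (hu1 : u ≠ 1)
    (huz : u ≠ S.z) : S.w ∈ Subgroup.zpowers u := by
  obtain ⟨i, hi⟩ := S.exists_orderOf (S.zpowers_le hu)
  have hi2 : 2 ≤ i := by
    by_contra hc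
    have h1 : orderOf u ∣ 2 := by
      rw [hi]
      exact (pow_dvd_pow 2 (show i ≤ 1 by omega)).trans (by norm_num)
    rw [orderOf_dvd_iff_pow_eq_one, pow_two] at h1
    rcases S.eq_one_or_z hu h1 with e | e
    exacts [hu1 e, huz e]
  obtain ⟨j, rfl⟩ : ∃ j, i = j + 2 := ⟨i - 2, by omega⟩
  have hsplit : 2 ^ (j + 2) = 2 ^ j * 4 := by rw [pow_add]; norm_num
  have hv : orderOf (u ^ 2 ^ j) = 4 := by
    rw [orderOf_pow' u (pow_ne_zero j two_ne_zero), hi, hsplit,
      Nat.gcd_eq_right (Dvd.intro 4 rfl), Nat.mul_div_cancel_left _ (pow_pos two_pos j)]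
  set v := u ^ 2 ^ j
  have hvσ : v ∈ Subgroup.zpowers S.σ := pow_mem hu _
  have hv2 : v * v = S.z := by
    rcases S.eq_one_or_z (mul_mem hvσ hvσ) (by
      rw [← pow_two, ← pow_two, ← pow_mul]
      exact (show (2 * 2 : ℕ) = orderOf v by rw [hv]) ▸ pow_orderOf_eq_one v) with e | e
    · exfalso
      have h1 : orderOf v ∣ 2 := by rw [orderOf_dvd_iff_pow_eq_one, pow_two]; exact e
      rw [hv] at h1
      norm_num at h1
    · exact e
  rcases S.eq_one_or_z (mul_mem hvσ (inv_mem S.w_mem_zpowers)) (by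
    rw [(S.rot_comm hvσ (inv_mem S.w_mem_zpowers)).symm.mul_mul_mul_comm, hv2, ← mul_inv_rev,
      S.w_mul_w, mul_inv_cancel]) with e | e
  · rw [mul_inv_eq_one] at e
    exact e ▸ pow_mem (Subgroup.mem_zpowers u) _
  · rw [mul_inv_eq_iff_eq_mul, ← hv2] at e
    have : S.w = v⁻¹ := eq_inv_of_mul_eq_one_right (mul_left_cancel (a := v) (by
      rw [← mul_assoc, ← e, mul_one]))
    exact this ▸ inv_mem (pow_mem (Subgroup.mem_zpowers u) _)

/-- The centralizer of a rotation of order more than two centralizes `w`. -/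
theorem centralizer_rot_le [Finite G] {u : G} (hu : u ∈ Subgroup.zpowers S.σ) (hu1 : u ≠ 1)
    (huz : u ≠ S.z) :
    Subgroup.centralizer ({u} : Set G) ≤ Subgroup.centralizer ({S.w} : Set G) := fun g hg => by
  obtain ⟨k, hk⟩ := S.w_mem_zpowers_rot hu hu1 huz
  rw [Subgroup.mem_centralizer_singleton_iff] at hg ⊢
  rw [← hk]
  exact (Commute.zpow_right hg k).eq

section Aut

variable [Finite G] {Q : Subgroup G} {x : G}

omit S in
theorem conj_pow_right {q c : G} (h1 : x * q * x⁻¹ = q * c) (hc : x * c * x⁻¹ = c) (N : ℕ) :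
    x ^ N * q * (x ^ N)⁻¹ = q * c ^ N := by
  induction N with
  | zero => simp
  | succ N ih =>
    have hcN : x * c ^ N * x⁻¹ = c ^ N := by rw [← _root_.conj_pow, hc]
    calc x ^ (N + 1) * q * (x ^ (N + 1))⁻¹ = x * (x ^ N * q * (x ^ N)⁻¹) * x⁻¹ := by
          rw [pow_succ']; group
      _ = (x * q * x⁻¹) * (x * c ^ N * x⁻¹) := by rw [ih]; group
      _ = q * c ^ (N + 1) := by rw [h1, hcN, pow_succ', mul_assoc]

/-- A translation commuting with an element of odd order is trivial. -/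
theorem translation_eq_one {q c : G} (hx : Cfsg.IsPRegular 2 x) (hcD : c ∈ D)
    (h1 : x * q * x⁻¹ = q * c) (hc : x * c * x⁻¹ = c) : c = 1 := by
  refine BlockPairs.isPGroup_centralizes (hp := ⟨Nat.prime_two⟩) S.isPGroup hcD hx fun N hN => ?_
  have h2 := conj_pow_right h1 hc N
  rw [hN, one_mul, inv_one, mul_one] at h2
  exact mul_left_cancel (a := q) (by rw [mul_one]; exact h2.symm)

/-- The automorphism of odd order fixes the rotations. -/
theorem rot_fixed (hQ : Q ≤ D) (hN : ∀ q ∈ Q, x * q * x⁻¹ ∈ Q) (hxw : Commute x S.w)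
    (hx : Cfsg.IsPRegular 2 x) :
    ∀ m, ∀ u ∈ Q, u ∈ Subgroup.zpowers S.σ → orderOf u = m → x * u * x⁻¹ = u := by
  intro m
  induction m using Nat.strong_induction_on with
  | _ m ih =>
    intro u huQ huσ hm
    by_cases h2 : u * u * (u * u) = 1
    · -- `u` is a power of `w`
      by_cases hu1 : u = 1
      · simp [hu1]
      have hxz : Commute x S.z := S.w_mul_w ▸ hxw.mul_right hxw
      rcases S.eq_one_or_z (mul_mem huσ huσ) h2 with e | e
      · rcases S.eq_one_or_z huσ e with e' | e'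
        · exact absurd e' hu1
        · exact e' ▸ mul_inv_eq_iff_eq_mul.2 hxz.eq
      · have hd : u * S.w⁻¹ * (u * S.w⁻¹) = 1 := by
          rw [(S.rot_comm huσ (inv_mem S.w_mem_zpowers)).symm.mul_mul_mul_comm, e, ← mul_inv_rev,
            S.w_mul_w, mul_inv_cancel]
        rcases S.eq_one_or_z (mul_mem huσ (inv_mem S.w_mem_zpowers)) hd with e' | e'
        · rw [mul_inv_eq_one] at e'
          exact e' ▸ mul_inv_eq_iff_eq_mul.2 hxw.eq
        · rw [mul_inv_eq_iff_eq_mul] at e'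
          exact e' ▸ mul_inv_eq_iff_eq_mul.2 (hxz.mul_right hxw).eq
    have hu'σ : x * u * x⁻¹ ∈ Subgroup.zpowers S.σ := by
      by_contra hn
      have := S.refl_sq (hQ (hN u huQ)) hn
      apply h2
      have h3 : x * (u * u * (u * u)) * x⁻¹ = 1 := by
        rw [show x * (u * u * (u * u)) * x⁻¹ =
          x * u * x⁻¹ * (x * u * x⁻¹) * (x * u * x⁻¹ * (x * u * x⁻¹)) by group, this, S.z_mul_z]
      exact conj_eq_one_iff.1 h3
    have hlt : orderOf (u ^ 2) < m := by
      obtain ⟨i, hi⟩ := S.exists_orderOf (hQ huQ)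
      have hi0 : i ≠ 0 := fun h0 => h2 (by
        rw [h0, pow_zero, orderOf_eq_one_iff] at hi; simp [hi])
      rw [orderOf_pow' u two_ne_zero, ← hm, hi, Nat.gcd_eq_right (dvd_pow_self 2 hi0)]
      exact Nat.div_lt_self (pow_pos two_pos i) one_lt_two
    have hfix := ih _ hlt (u ^ 2) (pow_mem huQ 2) (pow_mem huσ 2) rfl
    set d := u⁻¹ * (x * u * x⁻¹) with hd
    have hdσ : d ∈ Subgroup.zpowers S.σ := mul_mem (inv_mem huσ) hu'σ
    have hd2 : d * d = 1 := by
      have hcm := S.rot_comm (inv_mem huσ) hu'σ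
      rw [hd, hcm.symm.mul_mul_mul_comm, show x * u * x⁻¹ * (x * u * x⁻¹) = x * u ^ 2 * x⁻¹ by
        rw [pow_two]; group, hfix]
      group
    have hdfix : x * d * x⁻¹ = d := by
      rcases S.eq_one_or_z hdσ hd2 with e | e <;> rw [e]
      · simp
      · exact mul_inv_eq_iff_eq_mul.2 (S.w_mul_w ▸ hxw.mul_right hxw).eq
    have h1 : x * u * x⁻¹ = u * d := by rw [hd, mul_inv_cancel_left]
    rw [h1, S.translation_eq_one hx (S.zpowers_le hdσ) h1 hdfix, mul_one]

/-- An element of odd order normalizing `Q` and fixing `w` centralizes `Q`. -/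
theorem centralizes (hQ : Q ≤ D) (hN : x ∈ Subgroup.normalizer (Q : Set G))
    (hxw : Commute x S.w) (hx : Cfsg.IsPRegular 2 x) :
    x ∈ Subgroup.centralizer (Q : Set G) := by
  have hN' : ∀ q ∈ Q, x * q * x⁻¹ ∈ Q := fun q hq => (Subgroup.mem_normalizer_iff.1 hN q).1 hq
  have hrot := fun u hu hu' => S.rot_fixed hQ hN' hxw hx _ u hu hu' rfl
  refine Subgroup.mem_centralizer_iff.2 fun q hq => ?_
  have key : x * q * x⁻¹ = q := by
    by_cases hqσ : q ∈ Subgroup.zpowers S.σ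
    · exact hrot q hq hqσ
    have hq'σ : x * q * x⁻¹ ∉ Subgroup.zpowers S.σ := fun hmem => by
      have h1 := hrot _ (hN' q hq) hmem
      rw [mul_inv_eq_iff_eq_mul] at h1
      have h2 : x * q * x⁻¹ = q := mul_left_cancel (a := x) (by
        calc x * (x * q * x⁻¹) = x * q * x⁻¹ * x := h1
          _ = x * q := by group)
      exact hqσ (h2 ▸ hmem)
    obtain ⟨a, ha⟩ := S.eq_tau_mul (hQ (hN' q hq)) hq'σ
    obtain ⟨b, hb⟩ := S.eq_tau_mul (hQ hq) hqσ
    set c := q⁻¹ * (x * q * x⁻¹) with hc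
    have hcσ : c ∈ Subgroup.zpowers S.σ := by
      refine ⟨-b + a, ?_⟩
      show S.σ ^ (-b + a) = c
      rw [hc, ha, hb]
      group
    have hcQ : c ∈ Q := mul_mem (inv_mem hq) (hN' q hq)
    have h1 : x * q * x⁻¹ = q * c := by rw [hc, mul_inv_cancel_left]
    rw [h1, S.translation_eq_one hx (hQ hcQ) h1 (hrot c hcQ hcσ), mul_one]
  exact (mul_inv_eq_iff_eq_mul.1 key).symm

end Aut

/-- A quaternion subgroup seen inside a larger subgroup. -/
def restrict {K : Subgroup G} (hDK : D ≤ K) : QShape (D.subgroupOf K) h where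
  σ := ⟨S.σ, hDK S.σ_mem⟩
  τ := ⟨S.τ, hDK S.τ_mem⟩
  σ_mem := S.σ_mem
  τ_mem := S.τ_mem
  τ_not_mem := fun ⟨k, hk⟩ => S.τ_not_mem ⟨k, by simpa using congrArg Subtype.val hk⟩
  order := by rw [Subgroup.orderOf_mk, S.order]
  «conj» := Subtype.ext (by simpa using S.conj)
  τ_sq := Subtype.ext (by simpa using S.τ_sq)
  gen := fun x hx => by
    rcases S.gen (x : G) hx with ⟨k, hk⟩ | ⟨k, hk⟩
    · exact Or.inl ⟨k, Subtype.ext (by simpa using hk)⟩
    · exact Or.inr ⟨k, Subtype.ext (by simpa using hk)⟩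
  card := by rw [Nat.card_congr (Subgroup.subgroupOfEquivOfLe hDK).toEquiv, S.card]
  two_pow := S.two_pow

end QShape

end CfsgLib.TameSQ
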