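import Cfsg.Agent.TameSQ.Central
import Cfsg.Agent.TameBlocks.DihedralMain
import Cfsg.Agent.BlockDegrees.Quotient
import Cfsg.Agent.BlocksCharsC.RegularSupport

/-!
# The quotient by a central involution

The members with trivial value of the central character at `z` form one block of the quotient,
with dihedral defect group of half the order; so exactly `h / 2 + 3` members have sign one and
`l + c = 3`.
-/

set_option autoImplicit false
set_option linter.unusedSectionVars false
set_option linter.style.haveILetI false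

namespace CfsgLib.TameSQ

open Cfsg CfsgLib.BlockPairs CfsgLib.Star
open CfsgLib.Blocks (Res)
open CfsgLib.TameBlocks (Shape)
open CfsgLib.Contributions (contrib)
open CfsgLib.BlockDegrees.Quotient (infl)
open scoped ComplexConjugate Classical

universe u

variable {G : Type u} [Group G] [Fintype G] {M : Ideal AlgInt} [M.IsPrime]
  [CharP (Res M) 2] [IsAlgClosed (Res M)] (hM : Cfsg.IsPModular 2 M)
  {B : Set (IrrCharacter G)} (hB : Cfsg.IsPBlock M B)
  {D : Subgroup G} {eP : GA (Res M) G} (hmax : IsMaxPair 2 (⊤ : Subgroup G) (gblk M B) D eP)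
  {h : ℕ} {S : QShape D h} {hDK : D ≤ KT S eP} (𝒞 : LocData M eP (KT S eP) hDK)
  {q : ℕ} (hq : h = 2 * (q + 1)) (hz : ∀ g : G, Commute g S.z)

theorem mem_zpowers_z_iff {x : G} : x ∈ Subgroup.zpowers S.z ↔ x = 1 ∨ x = S.z := by
  refine ⟨fun hx => ?_, fun hx => by rcases hx with rfl | rfl <;> simp⟩
  obtain ⟨k, rfl⟩ := hx
  rcases Int.even_or_odd' k with ⟨j, rfl | rfl⟩
  · refine Or.inl ?_
    show S.z ^ (2 * j) = 1
    rw [zpow_mul, zpow_two, S.z_mul_z, one_zpow]
  · refine Or.inr ?_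
    show S.z ^ (2 * j + 1) = S.z
    rw [zpow_add_one, zpow_mul, zpow_two, S.z_mul_z, one_zpow, one_mul]

theorem card_zpowers_z : Nat.card (Subgroup.zpowers S.z) = 2 := by
  rw [Nat.card_zpowers]
  exact orderOf_eq_prime (by rw [pow_two]; exact S.z_mul_z) S.z_ne_one

theorem isPGroup_zpowers_z : IsPGroup 2 (Subgroup.zpowers S.z) :=
  IsPGroup.of_card (n := 1) (by rw [card_zpowers_z, pow_one])

include hz

theorem normal_zpowers_z : (Subgroup.zpowers S.z).Normal := ⟨fun n hn g => by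
  have : Commute g n := by
    rcases mem_zpowers_z_iff.1 hn with rfl | rfl
    exacts [Commute.one_right g, hz g]
  rwa [this.eq, mul_inv_cancel_right]⟩

/-- Regular elements with one image are equal. -/
theorem regular_eq_of_mk {x y : G} (hx : ¬ 2 ∣ orderOf x) (hy : ¬ 2 ∣ orderOf y)
    (he : (x : G ⧸ Subgroup.zpowers S.z) = (y : G ⧸ Subgroup.zpowers S.z)) : x = y := by
  rcases mem_zpowers_z_iff.1 (QuotientGroup.eq.1 he) with e | e
  · exact inv_mul_eq_one.1 e
  · exfalso
    rw [inv_mul_eq_iff_eq_mul] at e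
    refine hy ?_
    have ho : orderOf S.z = 2 := orderOf_eq_prime (by rw [pow_two]; exact S.z_mul_z) S.z_ne_one
    have hco : Nat.Coprime (orderOf x) (orderOf S.z) := by
      rw [ho]
      exact (Nat.prime_two.coprime_iff_not_dvd.2 hx).symm
    rw [e, (hz x).orderOf_mul_eq_mul_orderOf_of_coprime hco, ho]
    exact dvd_mul_left _ _

/-- A regular element of the quotient has a regular lift. -/
theorem exists_regular_lift [(Subgroup.zpowers S.z).Normal] {c : G ⧸ Subgroup.zpowers S.z}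
    (hc : ¬ 2 ∣ orderOf c) : ∃ g : G, ¬ 2 ∣ orderOf g ∧ (g : G ⧸ Subgroup.zpowers S.z) = c := by
  obtain ⟨g, rfl⟩ := QuotientGroup.mk_surjective c
  set a := (orderOf g).factorization 2
  obtain ⟨r, hr⟩ := exists_pow_eq_self_of_coprime (x := (g : G ⧸ Subgroup.zpowers S.z)) (n := 2 ^ a)
    (Nat.Coprime.pow_left _ (Nat.prime_two.coprime_iff_not_dvd.2 hc))
  refine ⟨(g ^ 2 ^ a) ^ r, fun hd => ?_, by rw [QuotientGroup.mk_pow, QuotientGroup.mk_pow, hr]⟩
  have h := hd.trans (orderOf_pow_dvd r)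
  rw [orderOf_pow, Nat.gcd_eq_right (Nat.ordProj_dvd _ _)] at h
  exact Nat.not_dvd_ordCompl Nat.prime_two (orderOf_pos g).ne' h

/-- Central characters and inflation at regular elements. -/
theorem centralChar_infl [(Subgroup.zpowers S.z).Normal] [Fintype (G ⧸ Subgroup.zpowers S.z)]
    (θ : IrrCharacter (G ⧸ Subgroup.zpowers S.z)) {x : G} (hx : ¬ 2 ∣ orderOf x) :
    Cfsg.centralChar (infl (Subgroup.zpowers S.z) θ : G → ℂ) x =
      Cfsg.centralChar (θ : G ⧸ Subgroup.zpowers S.z → ℂ) (x : G ⧸ Subgroup.zpowers S.z) := by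
  have hidx : (Subgroup.centralizer
      ({(x : G ⧸ Subgroup.zpowers S.z)} : Set (G ⧸ Subgroup.zpowers S.z))).index =
        (Subgroup.centralizer ({x} : Set G)).index := by
    rw [← Subgroup.index_comap_of_surjective (Subgroup.centralizer _)
      (QuotientGroup.mk'_surjective (Subgroup.zpowers S.z))]
    congr 1
    ext c
    simp only [Subgroup.mem_comap, Subgroup.mem_centralizer_singleton_iff, QuotientGroup.mk'_apply,
      ← QuotientGroup.mk_mul]
    refine ⟨fun he => ?_, fun he => by rw [he]⟩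
    rw [← mul_inv_eq_iff_eq_mul]
    refine regular_eq_of_mk hz
      (by rwa [show c * x * c⁻¹ = MulAut.conj c x from rfl, MulEquiv.orderOf_eq]) hx ?_
    rw [QuotientGroup.mk_mul, he, QuotientGroup.mk_mul, QuotientGroup.mk_inv, mul_inv_cancel_right]
  rw [Cfsg.centralChar, Cfsg.centralChar, hidx]
  rfl

omit hz in
/-- The image of the quaternion group is dihedral of half the order. -/
theorem exists_shape_quotient [(Subgroup.zpowers S.z).Normal] (hq : h = 2 * (q + 1)) (hq1 : 1 ≤ q) :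
    Nonempty (Shape (D.map (QuotientGroup.mk' (Subgroup.zpowers S.z))) (q + 1)) := by
  set N := Subgroup.zpowers S.z
  set π := QuotientGroup.mk' N
  have hπ : ∀ x : G, π x = 1 ↔ x = 1 ∨ x = S.z := fun x => by
    rw [← MonoidHom.mem_ker, QuotientGroup.ker_mk', mem_zpowers_z_iff]
  have hord : orderOf (π S.σ) = h := by
    refine (orderOf_eq_iff S.h_pos).2 ⟨?_, fun m hm hm0 e => ?_⟩
    · rw [← map_pow]
      exact (hπ _).2 (Or.inr rfl)
    · rw [← map_pow] at e
      rcases (hπ _).1 e with e | e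
      · exact (ne_of_gt hm0) (S.sigma_pow_inj (a := m) (b := 0) (by omega) (by omega)
          (by rw [e, pow_zero]))
      · exact hm.ne (S.sigma_pow_inj (by omega) (by omega) e)
  obtain ⟨e, he, hpow⟩ := S.two_pow
  have he2 : 2 ≤ e := by
    by_contra hc
    interval_cases e
    all_goals omega
  refine ⟨⟨π S.σ, π S.τ, ⟨_, S.σ_mem, rfl⟩, ⟨_, S.τ_mem, rfl⟩, ?_, by rw [hord]; omega, ?_, ?_, ?_,
    ?_, e - 1, by omega, ?_⟩⟩
  · rintro ⟨k, hk⟩
    apply S.τ_not_mem
    have h1 : π ((S.σ ^ k)⁻¹ * S.τ) = 1 := by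
      rw [map_mul, map_inv, map_zpow]
      exact inv_mul_eq_one.2 hk
    rcases (hπ _).1 h1 with e1 | e1
    · rw [inv_mul_eq_one] at e1
      exact ⟨k, e1⟩
    · rw [inv_mul_eq_iff_eq_mul] at e1
      rw [e1]
      exact mul_mem (zpow_mem (Subgroup.mem_zpowers _) k) S.z_mem_zpowers
  · rw [← map_inv, ← map_mul, ← map_mul, S.conj, map_inv]
  · rw [← map_mul, S.τ_sq]
    exact (hπ _).2 (Or.inr rfl)
  · rintro _ ⟨x, hx, rfl⟩
    rcases S.gen x hx with hx' | ⟨k, rfl⟩
    · obtain ⟨k, rfl⟩ := hx'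
      exact Or.inl ⟨k, (map_zpow π S.σ k).symm⟩
    · refine Or.inr ⟨k, ?_⟩
      show π S.σ ^ k = π S.τ * π (S.τ * S.σ ^ k)
      rw [map_mul π S.τ (S.σ ^ k), ← mul_assoc (π S.τ), ← map_mul π S.τ S.τ, S.τ_sq,
        (hπ (S.σ ^ h)).2 (Or.inr rfl), one_mul, map_zpow]
  · have hN : N ≤ D := Subgroup.zpowers_le.2 S.z_mem
    have h2 : Nat.card (D.map π) * Nat.card N = Nat.card D := by
      let f : D →* D.map π := π.subgroupMap D
      rw [← Subgroup.card_mul_index f.ker, mul_comm]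
      congr 1
      · refine Nat.card_congr (Equiv.symm ?_)
        refine (MulEquiv.subgroupCongr ?_).toEquiv.trans (Subgroup.subgroupOfEquivOfLe hN).toEquiv
        ext x
        rw [MonoidHom.mem_ker, Subgroup.mem_subgroupOf, Subtype.ext_iff]
        show π (x : G) = 1 ↔ _
        rw [hπ, mem_zpowers_z_iff]
      · rw [Subgroup.index_ker, MonoidHom.range_eq_top.2 (π.subgroupMap_surjective D),
          Subgroup.card_top]
    rw [card_zpowers_z, S.card] at h2
    rw [hq] at h2
    linarith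
  · have : 2 ^ e = 2 * 2 ^ (e - 1) := by rw [← pow_succ']; congr 1; omega
    omega

include hM hB hmax hq

/-- The members of sign one. -/
theorem card_eps_one_eq : (B.toFinset.filter fun χ => eps 𝒞 χ = 1).card = q + 4 := by
  haveI : Fact (Nat.Prime 2) := ⟨Nat.prime_two⟩
  rcases Nat.eq_zero_or_pos q with hq0 | hq1
  · -- the members of sign one have height zero
    subst hq0
    rw [Nat.zero_add, ← card_height_zero hM hB hmax 𝒞 hq]
    refine congrArg Finset.card (Finset.ext fun χ => ?_)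
    simp only [Finset.mem_filter, Set.mem_toFinset, and_congr_right_iff]
    intro hχ
    refine ⟨fun he => ?_, eps_eq_one hM hB hmax 𝒞 hq hz hχ⟩
    by_contra h0
    have hcol : ∀ a ∈ rset h, col 𝒞 a χ = 0 := fun a ha =>
      eq_zero_of_const S.h_pos (zeta_spec S.h_pos) (fun a => col 𝒞 a χ) (mcoef 𝒞 χ) (col_eq 𝒞 χ)
        (fun j hj => coeff_const (q := 0) (mcoef_symm' 𝒞 hq χ) (Nv_eq_zero hM hB hmax 𝒞 hq hχ h0)
          (fun i => i.elim0) (fun i => i.elim0) (by omega)) ha
    obtain ⟨φ, hφ, hφ0⟩ := CfsgLib.Blocks.exists_height_zero hM (p := 2) hB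
    have hne : χ ≠ φ := fun e => h0 (e ▸ hφ0)
    have h1 := sum_sval_split hM hB hmax 𝒞 hχ hφ
    rw [if_neg hne, mul_zero, sval_z hM hB hmax 𝒞 hz χ φ hχ hφ, he,
      eps_eq_one hM hB hmax 𝒞 hq hz hφ hφ0, Finset.sum_eq_zero fun a ha => by rw [hcol a ha, zero_mul],
      Finset.sum_eq_zero fun r hr => sval_eq_zero_of_self (by
        obtain ⟨hr1, hr2⟩ := Finset.mem_sdiff.1 hr
        rw [sval_other hM hB hmax 𝒞 hq hr1 hr2 hχ, if_neg h0]) _] at h1
    simp only [one_mul, add_zero, mul_zero] at h1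
    refine Contributions.contrib_ne_zero_of_height_zero (p := 2) hM hB hχ hφ hφ0 ?_
    exact_mod_cast (show (contrib 2 B χ φ : ℂ) = 0 by linear_combination (-h1) / 2)
  set N := Subgroup.zpowers S.z with hN
  haveI := normal_zpowers_z hz
  haveI := Fintype.ofFinite (G ⧸ N)
  obtain ⟨Bb, hBb, hsub, hdef⟩ :=
    BlockDegrees.Quotient.exists_block_below N hM isPGroup_zpowers_z hB
  have hD : Cfsg.IsDefectGroup 2 M B D :=
    (isDefectGroup_gblk_iff hB D).2 (hmax.isDefectGrp (isBlock_gblk hB)).1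
  have hDb : Cfsg.IsDefectGroup 2 M Bb (D.map (QuotientGroup.mk' N)) := (hdef _).2 ⟨D, hD, rfl⟩
  obtain ⟨η, hη⟩ := CfsgLib.Blocks.isPBlock_nonempty hBb
  -- everything below is one block
  have hbelow : ∀ θ : IrrCharacter (G ⧸ N), infl N θ ∈ B → θ ∈ Bb := by
    intro θ hθ
    rw [CfsgLib.Blocks.eq_blockOf_of_mem hBb hη]
    refine CfsgLib.Blocks.mem_blockOf.2 (BlocksCharsC.sameBlock_of_regular hM fun c hc => ?_)
    obtain ⟨g, hg, rfl⟩ := exists_regular_lift hz hc
    rw [← centralChar_infl hz η hg, ← centralChar_infl hz θ hg]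
    have hηB : infl N η ∈ B := hsub hη
    rw [CfsgLib.Blocks.eq_blockOf_of_mem hB hηB] at hθ
    exact CfsgLib.Blocks.mem_blockOf.1 hθ g
  obtain ⟨S'⟩ := exists_shape_quotient (S := S) hq hq1
  obtain ⟨eP', hmax'⟩ := TameBlocks.exists_maxPair_on hM hBb hDb
  obtain ⟨hcard, -, -, -⟩ := TameBlocks.dihedral_block hM hBb hmax' S'
  -- the sign of the member of height zero
  obtain ⟨η₀, hη₀, hη₀0⟩ := CfsgLib.Blocks.exists_height_zero hM (p := 2) hBb
  have homega : ∀ θ : IrrCharacter (G ⧸ N), omega S (infl N θ) = 1 := fun θ => by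
    rw [omega, div_eq_one_iff_eq (Characters.irr_one_ne_zero (infl N θ).2)]
    show (θ : G ⧸ N → ℂ) (S.z : G ⧸ N) = (θ : G ⧸ N → ℂ) ((1 : G) : G ⧸ N)
    refine congrArg (θ : G ⧸ N → ℂ) ?_
    rw [QuotientGroup.eq]
    simp [hN]
  have hω₀ : omega₀ 𝒞 = 1 := by
    have hh0 : Cfsg.blockHeight 2 B (infl N η₀ : G → ℂ) = 0 := by
      have h1 := CfsgLib.Blocks.blockHeight_eq hM hB hD (hsub hη₀)
      have h2 := CfsgLib.Blocks.blockHeight_eq hM hBb hDb hη₀
      have h3 : Nat.card G = Nat.card (G ⧸ N) * Nat.card N := Subgroup.card_eq_card_quotient_mul_card_subgroup N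
      have h5 : Nat.card D = Nat.card (D.map (QuotientGroup.mk' N)) * 2 := by
        rw [S'.card, S.card, hq]; ring
      rw [h3, card_zpowers_z, Nat.factorization_mul Nat.card_pos.ne' two_ne_zero,
        Finsupp.add_apply, h5, Nat.factorization_mul Nat.card_pos.ne' two_ne_zero,
        Finsupp.add_apply] at h1
      have hdeg : Cfsg.charDegree (infl N η₀ : G → ℂ) = Cfsg.charDegree (η₀ : G ⧸ N → ℂ) := rfl
      rw [hdeg] at h1
      omega
    have := eps_eq_one hM hB hmax 𝒞 hq hz (hsub hη₀) hh0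
    rwa [eps, homega, one_mul] at this
  rw [show q + 4 = q + 1 + 3 by ring, ← hcard, Nat.card_eq_fintype_card]
  rw [← Set.toFinset_card]
  symm
  refine Finset.card_bij (fun θ _ => infl N θ) (fun θ hθ => ?_) (fun a _ b _ e => ?_) fun χ hχ => ?_
  · exact Finset.mem_filter.2 ⟨Set.mem_toFinset.2 (hsub (Set.mem_toFinset.1 hθ)),
      by rw [eps, homega, hω₀, one_mul]⟩
  · refine Subtype.ext (funext fun c => ?_)
    obtain ⟨g, rfl⟩ := QuotientGroup.mk_surjective c
    exact congrFun (congrArg Subtype.val e) g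
  · obtain ⟨hχB, he⟩ := Finset.mem_filter.1 hχ
    rw [eps, hω₀, mul_one, omega, div_eq_one_iff_eq (Characters.irr_one_ne_zero χ.2)] at he
    obtain ⟨ψ, hψ, hχψ⟩ := Characters.exists_irr_quotient N χ.2 fun n hn => by
      rcases mem_zpowers_z_iff.1 hn with rfl | rfl
      exacts [rfl, he]
    have heq : infl N ⟨ψ, hψ⟩ = χ := Subtype.ext (funext fun g => (hχψ g).symm)
    exact ⟨⟨ψ, hψ⟩, Set.mem_toFinset.2 (hbelow _ (heq ▸ Set.mem_toFinset.1 hχB)), heq⟩

include 𝒞 in
/-- With central involution `l + c = 3`. -/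
theorem rank_add_others : Cfsg.blockRank 2 B + (reps S eP \ rots S).card = 3 := by
  have h1 := card_eps_one hM hB hmax 𝒞 hq hz
  have h2 := card_eps_one_eq hM hB hmax 𝒞 hq hz
  omega

end CfsgLib.TameSQ
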