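import Cfsg.Agent.TameSQ.SDShape
import Cfsg.Agent.TameSQ.Counts

/-!
# The twist of the rotations of a semidihedral group

With `om` a fourth root of unity, `tp a * f a + tm a * f (a + h)` multiplies the odd coefficients of
`f` by `om ^ a`: it turns a family invariant under `iota` into one invariant under inversion.
-/

set_option autoImplicit false
set_option linter.unusedSectionVars false
set_option linter.style.haveILetI false

namespace CfsgLib.TameSD

open Finset
open CfsgLib.TameSQ (rset mem_rset zeta zeta_spec expo expo_h)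
open scoped ComplexConjugate

/-- A fourth root of unity. -/
noncomputable def om (h : ℕ) : ℂ := zeta h ^ (h / 2)

/-- The weight of the point. -/
noncomputable def tp (h a : ℕ) : ℂ := (1 + om h ^ a) / 2

/-- The weight of its translate. -/
noncomputable def tm (h a : ℕ) : ℂ := (1 - om h ^ a) / 2

/-- The translate by `h`. -/
def sh (h a : ℕ) : ℕ := if a < h then a + h else a - h

theorem sh_mem {h a : ℕ} (ha : a ∈ rset h) : sh h a ∈ rset h := by
  have := mem_rset.1 ha
  rw [mem_rset, sh]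
  split_ifs <;> omega

theorem sh_sh {h a : ℕ} (ha : a < 2 * h) : sh h (sh h a) = a := by
  unfold sh
  split_ifs <;> omega

variable {h : ℕ} (h4 : 4 ∣ h) (hh : 0 < h)

include h4 hh

theorem om_sq : om h ^ 2 = -1 := by
  obtain ⟨k, hk⟩ := h4
  have h1 := expo_h hh (zeta_spec hh) 1
  rw [expo, zpow_one, if_neg (by norm_num)] at h1
  rw [om, ← pow_mul, show h / 2 * 2 = h by omega, h1]

theorem om_pow_four : om h ^ 4 = 1 := by
  rw [show 4 = 2 * 2 by rfl, pow_mul, om_sq h4 hh]
  norm_num

theorem om_mod (n : ℕ) : om h ^ n = om h ^ (n % 4) := pow_eq_pow_mod n (om_pow_four h4 hh)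

theorem om_one {n : ℕ} (hn : n % 4 = 0) : om h ^ n = 1 := by rw [om_mod h4 hh, hn, pow_zero]

theorem om_neg_one {n : ℕ} (hn : n % 4 = 2) : om h ^ n = -1 := by
  rw [om_mod h4 hh, hn, om_sq h4 hh]

theorem neg_om : -om h = om h ^ 3 := by
  rw [pow_succ, om_sq h4 hh]
  ring

theorem conj_om : conj (om h) = -om h := by
  have h1 : (om h - Complex.I) * (om h + Complex.I) = 0 := by
    linear_combination om_sq h4 hh - Complex.I_mul_I
  rcases mul_eq_zero.1 h1 with e | e
  · rw [sub_eq_zero.1 e, Complex.conj_I]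
  · rw [eq_neg_of_add_eq_zero_left e, map_neg, Complex.conj_I]

theorem conj_om_pow (n : ℕ) : conj (om h ^ n) = om h ^ (3 * n) := by
  rw [map_pow, conj_om h4 hh, neg_om h4 hh, ← pow_mul]

theorem sh_even {a : ℕ} (ha : a < 2 * h) : sh h a % 4 = a % 4 := by
  obtain ⟨k, hk⟩ := h4
  unfold sh
  split_ifs <;> omega

theorem tp_sh {a : ℕ} (ha : a < 2 * h) : tp h (sh h a) = tp h a := by
  rw [tp, tp, om_mod h4 hh, sh_even h4 hh ha, ← om_mod h4 hh]

theorem tm_sh {a : ℕ} (ha : a < 2 * h) : tm h (sh h a) = tm h a := by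
  rw [tm, tm, om_mod h4 hh, sh_even h4 hh ha, ← om_mod h4 hh]

omit hh in
theorem iota_sh (hh : 0 < h) {a : ℕ} (ha : a < 2 * h) : iota h (sh h a) = sh h (iota h a) := by
  have hsa : sh h a < 2 * h := by
    unfold sh
    split_ifs <;> omega
  have h1 := iota_spec h4 hh ha
  have h2 := iota_spec h4 hh hsa
  obtain ⟨k, hk⟩ := h4
  unfold sh at *
  split_ifs at * <;> omega

set_option maxHeartbeats 1600000 in
/-- The value of the twisted orthogonality. -/
theorem twist_gram {a b : ℕ} (ha : a ∈ rset h) (hb : b ∈ rset h) :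
    tp h a * conj (tp h b) * ((if a = b then (1 : ℂ) else 0) + if b = iota h a then 1 else 0) +
      tp h a * conj (tm h b) *
        ((if a = sh h b then 1 else 0) + if sh h b = iota h a then 1 else 0) +
      tm h a * conj (tp h b) *
        ((if sh h a = b then 1 else 0) + if b = iota h (sh h a) then 1 else 0) +
      tm h a * conj (tm h b) *
        ((if sh h a = sh h b then 1 else 0) + if sh h b = iota h (sh h a) then 1 else 0) =
      (if a = b then 1 else 0) + if a + b = 2 * h then 1 else 0 := by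
  obtain ⟨ha1, ha0, hah⟩ := mem_rset.1 ha
  obtain ⟨hb1, hb0, hbh⟩ := mem_rset.1 hb
  have hia := iota_spec h4 hh ha1
  have hi1 := iota_lt hh a
  have hp2 : (a + b = 2 * h) ↔
      (a % 2 = 0 ∧ b = iota h a) ∨ (a % 2 ≠ 0 ∧ b = sh h (iota h a)) := by
    obtain ⟨k, hk⟩ := h4
    unfold sh
    rcases hia with ⟨hp, hi⟩ | ⟨hp, hi⟩ <;> rcases hi with ⟨e1, e2⟩ | ⟨e1, e2⟩ <;>
      simp only [e2] <;> split_ifs <;> omega
  have hiff : ∀ {x : ℕ}, x < 2 * h → (b = sh h x ↔ sh h b = x) := fun {x} hx =>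
    ⟨fun e => by rw [e, sh_sh hx], fun e => by rw [← e, sh_sh hb1]⟩
  rw [iota_sh h4 hh ha1]
  simp only [show (a = sh h b) ↔ b = sh h a from eq_comm.trans (hiff ha1).symm,
    show (sh h b = iota h a) ↔ b = sh h (iota h a) from (hiff hi1).symm,
    show (sh h a = b) ↔ b = sh h a from eq_comm,
    show (sh h a = sh h b) ↔ a = b from
      ⟨fun e => by rw [← sh_sh ha1, e, sh_sh hb1], fun e => by rw [e]⟩,
    show (sh h b = sh h (iota h a)) ↔ b = iota h a from
      ⟨fun e => by rw [← sh_sh hb1, e, sh_sh hi1], fun e => by rw [e]⟩]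
  set Ω := om h ^ (a + 3 * b) with hΩ
  have hΩ' : om h ^ a * om h ^ (3 * b) = Ω := (pow_add _ _ _).symm
  simp only [tp, tm, map_div₀, map_add, map_sub, map_one, map_ofNat, conj_om_pow h4 hh]
  have hsum : ∀ x y z w : ℂ, (1 + om h ^ a) / 2 * ((1 + om h ^ (3 * b)) / 2) * (x + y) +
      (1 + om h ^ a) / 2 * ((1 - om h ^ (3 * b)) / 2) * (z + w) +
      (1 - om h ^ a) / 2 * ((1 + om h ^ (3 * b)) / 2) * (z + w) +
      (1 - om h ^ a) / 2 * ((1 - om h ^ (3 * b)) / 2) * (x + y) =
      (1 + Ω) / 2 * x + (1 - Ω) / 2 * z + ((1 + Ω) / 2 * y + (1 - Ω) / 2 * w) := fun x y z w => by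
    rw [← hΩ']
    ring
  rw [hsum]
  obtain ⟨k, hk⟩ := h4
  have e1 : a = b → (1 + Ω) / 2 = 1 := fun e => by
    rw [hΩ, om_one ⟨k, hk⟩ hh (by omega)]; norm_num
  have e2 : b = sh h a → (1 - Ω) / 2 = 0 := fun e => by
    have := sh_even ⟨k, hk⟩ hh ha1
    rw [← e] at this
    rw [hΩ, om_one ⟨k, hk⟩ hh (by omega)]; norm_num
  have e3 : b = iota h a → (1 + Ω) / 2 = if a % 2 = 0 then 1 else 0 := fun e => by
    split_ifs with hp
    · rw [hΩ, om_one ⟨k, hk⟩ hh (by omega)]; norm_num
    · rw [hΩ, om_neg_one ⟨k, hk⟩ hh (by omega)]; norm_num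
  have e4 : b = sh h (iota h a) → (1 - Ω) / 2 = if a % 2 = 0 then 0 else 1 := fun e => by
    have := sh_even ⟨k, hk⟩ hh hi1
    rw [← e] at this
    split_ifs with hp
    · rw [hΩ, om_one ⟨k, hk⟩ hh (by omega)]; norm_num
    · rw [hΩ, om_neg_one ⟨k, hk⟩ hh (by omega)]; norm_num
  have hx : (1 + Ω) / 2 * (if a = b then (1 : ℂ) else 0) = if a = b then 1 else 0 := by
    split_ifs with e
    · rw [e1 e, mul_one]
    · rw [mul_zero]
  have hz : (1 - Ω) / 2 * (if b = sh h a then (1 : ℂ) else 0) = 0 := by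
    split_ifs with e
    · rw [e2 e, zero_mul]
    · rw [mul_zero]
  rw [hx, hz, add_zero]
  congr 1
  simp only [hp2]
  rcases Nat.mod_two_eq_zero_or_one a with hp | hp
  · have hnot : (1 - Ω) / 2 * (if b = sh h (iota h a) then (1 : ℂ) else 0) = 0 := by
      split_ifs with e
      · rw [e4 e, if_pos hp, zero_mul]
      · rw [mul_zero]
    rw [hnot, add_zero]
    by_cases e : b = iota h a
    · simp [e, e3 e, hp]
    · simp [e, hp]
  · have hnot : (1 + Ω) / 2 * (if b = iota h a then (1 : ℂ) else 0) = 0 := by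
      split_ifs with e
      · rw [e3 e, if_neg (by omega), zero_mul]
      · rw [mul_zero]
    rw [hnot, zero_add]
    by_cases e : b = sh h (iota h a)
    · simp [e, e4 e, hp]
    · simp [e, hp]

omit h4 hh

/-- The twist of the coefficients. -/
def untw (h i : ℕ) : ℕ := if i % 2 = 0 then i else if i < h / 2 then i + 2 * h - h / 2 else i - h / 2

/-- Where the coefficients go. -/
def tw (h j : ℕ) : ℕ :=
  if j % 2 = 0 then j else if j + h / 2 < 2 * h then j + h / 2 else j + h / 2 - 2 * h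

theorem coeff_twist (h4 : 4 ∣ h) (hh : 0 < h) (f : ℕ → ℂ) (m : ℕ → ℤ)
    (hf : ∀ a, f a = ∑ j ∈ range (2 * h), (m j : ℂ) * expo (zeta h) (j : ℤ) a) (a : ℕ) :
    tp h a * f a + tm h a * f (a + h) =
      ∑ i ∈ range (2 * h), (m (untw h i) : ℂ) * expo (zeta h) (i : ℤ) a := by
  obtain ⟨k, hk⟩ := id h4
  have hζ := zeta_spec hh
  rw [hf, hf, mul_sum, mul_sum, ← sum_add_distrib]
  refine Finset.sum_nbij' (tw h) (untw h) (fun j hj => ?_) (fun i hi => ?_) (fun j hj => ?_)
    (fun i hi => ?_) fun j hj => ?_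
  · simp only [mem_range] at hj ⊢
    unfold tw
    split_ifs <;> omega
  · simp only [mem_range] at hi ⊢
    unfold untw
    split_ifs <;> omega
  · simp only [mem_range] at hj
    unfold tw untw
    split_ifs <;> omega
  · simp only [mem_range] at hi
    unfold tw untw
    split_ifs <;> omega
  · have hj' := mem_range.1 hj
    have hback : untw h (tw h j) = j := by
      unfold tw untw
      split_ifs <;> omega
    rw [hback]
    have hsplit : expo (zeta h) (j : ℤ) (a + h) =
        expo (zeta h) (j : ℤ) a * if (2 : ℤ) ∣ (j : ℤ) then 1 else -1 := by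
      rw [← expo_h hh hζ, expo, expo, expo, pow_add]
    rw [hsplit]
    by_cases hp : j % 2 = 0
    · rw [if_pos (by omega), tw, if_pos hp, tp, tm]
      ring
    · rw [if_neg (by omega)]
      have he : expo (zeta h) (tw h j : ℕ) a = om h ^ a * expo (zeta h) (j : ℤ) a := by
        rw [expo, expo, zpow_natCast, zpow_natCast, ← mul_pow, om, ← pow_add]
        congr 1
        rw [tw, if_neg hp]
        split_ifs with hlt
        · rw [add_comm]
        · conv_rhs => rw [show h / 2 + j = j + h / 2 - 2 * h + 2 * h by omega, pow_add,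
            hζ.pow_eq_one, mul_one]
      rw [he, tp, tm]
      ring

end CfsgLib.TameSD
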