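import Cfsg.Agent.TameSQ.SDFusion
import Cfsg.Agent.TameSQ.SDTwist

/-!
# The columns of a block with semidihedral defect group

`raw a χ := F χ (σ ^ a)` is invariant under `iota`; its twist `col a χ` is real, invariant under
inversion of `a`, has the sum of squares of `raw` over `rset h` and is orthogonal in the pattern of
a quaternion defect group.  The identity of the contributions becomes an identity of the diagonals.
-/

set_option autoImplicit false
set_option linter.unusedSectionVars false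
set_option linter.style.haveILetI false

namespace CfsgLib.TameSD

open Cfsg CfsgLib.BlockPairs CfsgLib.Star
open CfsgLib.Blocks (Res)
open CfsgLib.TameBlocks (Fused IsReps sval sum_sval)
open CfsgLib.Contributions (contrib)
open CfsgLib.TameSQ (rset mem_rset LocData F F_conj conj_F F_sub_mem F_isIntegral isGen_F sval_eq_F
  sum_F_mul_conj sum_sval_mul_F trace_loc card_mul_sval_one cval_eq not_memLocalIdeal_cval)
open scoped ComplexConjugate Classical

universe u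

theorem iota_mem_rset {h a : ℕ} (h4 : 4 ∣ h) (ha : a ∈ rset h) : iota h a ∈ rset h := by
  obtain ⟨h1, h2, h3⟩ := mem_rset.1 ha
  have hi := iota_spec h4 (by omega) h1
  obtain ⟨k, hk⟩ := h4
  rw [mem_rset]
  omega

/-- Half of the rotations of order at least four. -/
def lo (h : ℕ) : Finset ℕ := (rset h).filter fun a => a < iota h a

theorem mem_lo {h a : ℕ} : a ∈ lo h ↔ a ∈ rset h ∧ a < iota h a := Finset.mem_filter

/-- A symmetric sum is twice the sum over one half. -/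
theorem sum_rset_half {A : Type*} [AddCommMonoid A] {h : ℕ} (h4 : 4 ∣ h) (g : ℕ → A)
    (hg : ∀ a ∈ rset h, g (iota h a) = g a) :
    ∑ a ∈ rset h, g a = 2 • ∑ a ∈ lo h, g a := by
  have hne : ∀ a ∈ rset h, iota h a ≠ a ∧ iota h (iota h a) = a := fun a ha => by
    obtain ⟨h1, h2, h3⟩ := mem_rset.1 ha
    have hi := iota_spec h4 (by omega) h1
    have hi' := iota_spec h4 (by omega) (iota_lt (by omega) a)
    obtain ⟨k, hk⟩ := h4
    omega
  rw [← Finset.sum_filter_add_sum_filter_not (rset h) (fun a => a < iota h a), two_nsmul]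
  congr 1
  refine Finset.sum_nbij' (iota h) (iota h) (fun a ha => ?_) (fun a ha => ?_) (fun a ha => ?_)
    (fun a ha => ?_) fun a ha => ?_
  · obtain ⟨ha, hlt⟩ := Finset.mem_filter.1 ha
    refine mem_lo.2 ⟨iota_mem_rset h4 ha, ?_⟩
    rw [(hne a ha).2]
    have := (hne a ha).1
    omega
  · obtain ⟨ha, hlt⟩ := mem_lo.1 ha
    refine Finset.mem_filter.2 ⟨iota_mem_rset h4 ha, ?_⟩
    rw [(hne a ha).2]
    omega
  · exact (hne a (Finset.mem_filter.1 ha).1).2
  · exact (hne a (mem_lo.1 ha).1).2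
  · exact (hg a (Finset.mem_filter.1 ha).1).symm

theorem card_lo {h : ℕ} (h4 : 4 ∣ h) (hh : 0 < h) : (lo h).card = h - 1 := by
  have h1 := sum_rset_half h4 (fun _ => 1) fun _ _ => rfl
  have h2 := CfsgLib.TameSQ.sum_rset (fun _ => 1) hh
  simp only [← Finset.card_eq_sum_ones, Finset.card_range, smul_eq_mul] at h1 h2
  omega

variable {G : Type u} [Group G] [Fintype G] {M : Ideal AlgInt} [M.IsPrime]
  [CharP (Res M) 2] [IsAlgClosed (Res M)] (hM : Cfsg.IsPModular 2 M)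
  {B : Set (IrrCharacter G)} (hB : Cfsg.IsPBlock M B)
  {D : Subgroup G} {eP : GA (Res M) G} (hmax : IsMaxPair 2 (⊤ : Subgroup G) (gblk M B) D eP)
  {h : ℕ} {S : SDShape D h} {hDK : D ≤ KT S eP} (𝒞 : LocData M eP (KT S eP) hDK)

/-- The value of the generalized character at `σ ^ a`. -/
noncomputable def raw (a : ℕ) (χ : IrrCharacter G) : ℂ := F 𝒞 (χ : G → ℂ) (S.σ ^ a)

/-- The twisted value. -/
noncomputable def col (a : ℕ) (χ : IrrCharacter G) : ℂ :=
  tp h a * raw 𝒞 a χ + tm h a * raw 𝒞 (a + h) χ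

theorem raw_iota (a : ℕ) (χ : IrrCharacter G) : raw 𝒞 (iota h a) χ = raw 𝒞 a χ := by
  rw [raw, ← S.tau_conj_pow, F_conj 𝒞 χ (S.zpowers_le (S.pow_mem_zpowers a)) S.τ_mem]
  rfl

theorem raw_add (a : ℕ) (χ : IrrCharacter G) : raw 𝒞 (a + 2 * h) χ = raw 𝒞 a χ := by
  rw [raw, pow_add, S.pow_two_h, mul_one]
  rfl

theorem raw_add_h {a : ℕ} (ha : a < 2 * h) (χ : IrrCharacter G) :
    raw 𝒞 (a + h) χ = raw 𝒞 (sh h a) χ := by
  unfold sh
  split_ifs with hlt
  · rfl
  · conv_lhs => rw [show a + h = a - h + 2 * h by omega]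
    exact raw_add 𝒞 _ χ

theorem conj_raw {a : ℕ} (ha : a ≤ 2 * h) (χ : IrrCharacter G) :
    conj (raw 𝒞 a χ) = raw 𝒞 (2 * h - a) χ := by
  have e : (S.σ ^ a)⁻¹ = S.σ ^ (2 * h - a) := by
    refine inv_eq_of_mul_eq_one_right ?_
    rw [← pow_add, show a + (2 * h - a) = 2 * h by omega, S.pow_two_h]
  rw [raw, conj_F 𝒞 χ (S.zpowers_le (S.pow_mem_zpowers a)), e]
  rfl

theorem sh_lt {a : ℕ} (ha : a < 2 * h) : sh h a < 2 * h := by
  unfold sh
  split_ifs <;> omega

theorem col_zero (χ : IrrCharacter G) : col 𝒞 0 χ = raw 𝒞 0 χ := by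
  simp [col, tp, tm]

theorem col_reflect {a : ℕ} (ha : a ≤ 2 * h) (χ : IrrCharacter G) :
    col 𝒞 (2 * h - a) χ = col 𝒞 a χ := by
  have h4 := S.four_dvd
  have hh := S.h_pos
  obtain ⟨k, hk⟩ := S.four_dvd
  have hper : col 𝒞 (2 * h) χ = col 𝒞 0 χ := by
    rw [col, col, tp, tm, tp, tm, om_one h4 hh (n := 2 * h) (by omega), pow_zero,
      ← Nat.zero_add (2 * h), raw_add]
    simp
  rcases Nat.eq_or_lt_of_le ha with rfl | hlt
  · rw [Nat.sub_self, hper]
  rcases Nat.eq_zero_or_pos a with rfl | h0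
  · rw [Nat.sub_zero, hper]
  have hi := S.iota_spec hlt
  have hi' := S.iota_spec (sh_lt (h := h) (a := a) hlt)
  have hb : 2 * h - a < 2 * h := by omega
  rcases Nat.mod_two_eq_zero_or_one a with hp | hp
  · have e : om h ^ (2 * h - a) = om h ^ a := by
      rw [om_mod h4 hh, show (2 * h - a) % 4 = a % 4 by omega, ← om_mod h4 hh]
    have e1 : iota h a = 2 * h - a := by omega
    have e2 : iota h (sh h a) = sh h (2 * h - a) := by rw [iota_sh h4 hh hlt, e1]
    simp only [col, tp, tm, e]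
    rw [raw_add_h 𝒞 hb, raw_add_h 𝒞 hlt, ← e2, raw_iota, ← e1, raw_iota]
  · have e : om h ^ (2 * h - a) = -om h ^ a := by
      rw [om_mod h4 hh, show (2 * h - a) % 4 = (a + 2) % 4 by omega, ← om_mod h4 hh, pow_add,
        om_sq h4 hh]
      ring
    have e1 : iota h (sh h a) = 2 * h - a := by
      unfold sh at *
      split_ifs at * <;> omega
    have e2 : sh h (2 * h - a) = iota h a := by
      unfold sh
      split_ifs <;> omega
    simp only [col, tp, tm, e]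
    rw [raw_add_h 𝒞 hb, raw_add_h 𝒞 hlt, e2, raw_iota, ← e1, raw_iota]
    ring

theorem conj_col {a : ℕ} (ha : a < 2 * h) (χ : IrrCharacter G) :
    conj (col 𝒞 a χ) = col 𝒞 a χ := by
  have h4 := S.four_dvd
  have hh := S.h_pos
  obtain ⟨k, hk⟩ := S.four_dvd
  have hs := sh_lt (h := h) (a := a) ha
  conv_rhs => rw [← col_reflect 𝒞 ha.le χ]
  have hω : conj (om h ^ a) = om h ^ (2 * h - a) := by
    rw [conj_om_pow h4 hh, om_mod h4 hh, show (3 * a) % 4 = (2 * h - a) % 4 by omega,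
      ← om_mod h4 hh]
  have hraw : raw 𝒞 (2 * h - sh h a) χ = raw 𝒞 (2 * h - a + h) χ := by
    unfold sh
    split_ifs with hlt
    · rw [show 2 * h - a + h = 2 * h - (a + h) + 2 * h by omega, raw_add]
    · congr 1
      omega
  rw [col, col, map_add, map_mul, map_mul, raw_add_h 𝒞 ha, conj_raw 𝒞 ha.le, conj_raw 𝒞 hs.le,
    hraw]
  simp only [tp, tm, map_div₀, map_add, map_sub, map_one, map_ofNat, hω]

include 𝒞 in
theorem rset_ne {a : ℕ} (ha : a ∈ rset h) : S.σ ^ a ≠ 1 ∧ S.σ ^ a ≠ S.z := by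
  obtain ⟨h1, h2, h3⟩ := mem_rset.1 ha
  exact ⟨fun e => h2 (S.sigma_pow_inj h1 (by omega) (by rw [e, pow_zero])),
    fun e => h3 (S.sigma_pow_inj h1 (by omega) e)⟩

/-- The representative of `σ ^ a`. -/
def fold (h a : ℕ) : ℕ := if a ≤ iota h a then a else iota h a

include S in
omit 𝒞 in
theorem fold_mem {a : ℕ} (ha : a ∈ rset h) : fold h a ∈ rset h ∧ fold h a ∈ half h := by
  have h1 := (mem_rset.1 ha).1
  rw [fold]
  split_ifs with hle
  · exact ⟨ha, mem_half.2 ⟨h1, hle⟩⟩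
  · exact ⟨iota_mem_rset S.four_dvd ha,
      mem_half.2 ⟨iota_lt S.h_pos a, by rw [S.iota_iota h1]; omega⟩⟩

theorem raw_fold (a : ℕ) (χ : IrrCharacter G) : raw 𝒞 (fold h a) χ = raw 𝒞 a χ := by
  rw [fold]
  split_ifs
  exacts [rfl, raw_iota 𝒞 a χ]

include hM hB hmax

theorem sval_raw {a : ℕ} (ha : a ∈ rset h) (χ ψ : IrrCharacter G) :
    sval 2 D eP (S.σ ^ a) (χ : G → ℂ) ψ = raw 𝒞 a χ * conj (raw 𝒞 a ψ) / (2 * h : ℂ) := by
  obtain ⟨h1, hz⟩ := rset_ne 𝒞 ha
  have hσ := S.pow_mem_zpowers a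
  rw [sval_eq_F hM hmax 𝒞 (Characters.isClassFunction_of_isIrr χ.2)
    (Characters.isClassFunction_of_isIrr ψ.2) (S.zpowers_le hσ)
    (centralizer_rot_le_KT hB hmax S hσ h1 hz), S.inf_centralizer hσ h1 hz, S.card_zpowers_sigma]
  push_cast
  rfl

/-- The values are orthogonal. -/
theorem sum_raw_mul {a b : ℕ} (ha : a ∈ rset h) (hb : b ∈ rset h) :
    ∑ χ ∈ B.toFinset, raw 𝒞 a χ * conj (raw 𝒞 b χ) =
      (2 * h : ℂ) * ((if a = b then 1 else 0) + if b = iota h a then 1 else 0) := by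
  obtain ⟨ha', hal⟩ := fold_mem (S := S) ha
  obtain ⟨hb', hbl⟩ := fold_mem (S := S) hb
  obtain ⟨h1, hz⟩ := rset_ne 𝒞 ha'
  obtain ⟨h1', hz'⟩ := rset_ne 𝒞 hb'
  have hσ := S.pow_mem_zpowers (fold h a)
  have hσ' := S.pow_mem_zpowers (fold h b)
  have hR := isReps_reps hB hmax S
  have hsum := sum_F_mul_conj hM hB hmax 𝒞 hR
    (rots_subset_reps S ((mem_rots S).2 ⟨_, hal, rfl⟩)) (centralizer_rot_le_KT hB hmax S hσ h1 hz)
    (rots_subset_reps S ((mem_rots S).2 ⟨_, hbl, rfl⟩))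
    (centralizer_rot_le_KT hB hmax S hσ' h1' hz')
  rw [← Finset.sum_filter, S.inf_centralizer hσ h1 hz, S.card_zpowers_sigma] at hsum
  rw [Finset.sum_congr (s₂ := Finset.univ.filter fun χ => χ ∈ B) (g := fun χ : IrrCharacter G =>
    F 𝒞 (χ : G → ℂ) (S.σ ^ fold h a) * conj (F 𝒞 (χ : G → ℂ) (S.σ ^ fold h b)))
    (by ext; simp) (fun χ _ => by rw [← raw_fold 𝒞 a χ, ← raw_fold 𝒞 b χ]; rfl), hsum]
  have hia := S.iota_spec (mem_rset.1 ha).1
  have hne := S.iota_ne (mem_rset.1 ha).1 (mem_rset.1 ha).2.1 (mem_rset.1 ha).2.2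
  have hiff : S.σ ^ fold h a = S.σ ^ fold h b ↔ a = b ∨ b = iota h a := by
    refine ⟨fun e => ?_, fun e => ?_⟩
    · have := S.sigma_pow_inj (mem_rset.1 ha').1 (mem_rset.1 hb').1 e
      simp only [fold] at this
      split_ifs at this
      · exact Or.inl this
      · exact Or.inr (by rw [this, S.iota_iota (mem_rset.1 hb).1])
      · exact Or.inr this.symm
      · exact Or.inl (by rw [← S.iota_iota (mem_rset.1 ha).1, this, S.iota_iota (mem_rset.1 hb).1])
    · congr 1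
      rcases e with rfl | rfl
      · rfl
      · simp only [fold, S.iota_iota (mem_rset.1 ha).1]
        split_ifs <;> omega
  simp only [hiff]
  push_cast
  by_cases e1 : a = b <;> by_cases e2 : b = iota h a
  · exact absurd (e2.symm.trans e1.symm) hne
  all_goals simp_all

/-- The twisted columns are orthogonal. -/
theorem sum_col_mul {a b : ℕ} (ha : a ∈ rset h) (hb : b ∈ rset h) :
    ∑ χ ∈ B.toFinset, col 𝒞 a χ * col 𝒞 b χ =
      (2 * h : ℂ) * ((if a = b then 1 else 0) + if a + b = 2 * h then 1 else 0) := by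
  have ha' := (mem_rset.1 ha).1
  have hb' := (mem_rset.1 hb).1
  rw [← twist_gram S.four_dvd S.h_pos ha hb, Finset.sum_congr rfl (g := fun χ =>
    tp h a * conj (tp h b) * (raw 𝒞 a χ * conj (raw 𝒞 b χ)) +
      tp h a * conj (tm h b) * (raw 𝒞 a χ * conj (raw 𝒞 (sh h b) χ)) +
      tm h a * conj (tp h b) * (raw 𝒞 (sh h a) χ * conj (raw 𝒞 b χ)) +
      tm h a * conj (tm h b) * (raw 𝒞 (sh h a) χ * conj (raw 𝒞 (sh h b) χ))) fun χ _ => by
    rw [← conj_col 𝒞 hb' χ, col, col, map_add, map_mul, map_mul, raw_add_h 𝒞 ha',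
      raw_add_h 𝒞 hb']
    ring]
  simp only [Finset.sum_add_distrib, ← Finset.mul_sum]
  rw [sum_raw_mul hM hB hmax 𝒞 ha hb, sum_raw_mul hM hB hmax 𝒞 ha (sh_mem hb),
    sum_raw_mul hM hB hmax 𝒞 (sh_mem ha) hb, sum_raw_mul hM hB hmax 𝒞 (sh_mem ha) (sh_mem hb)]
  ring

include 𝒞 in
theorem trace_rot {a : ℕ} (ha : a ∈ rset h) (hal : a ∈ half h) :
    ∑ χ : IrrCharacter G,
      (if χ ∈ B then sval 2 D eP (S.σ ^ a) (χ : G → ℂ) χ else 0) = 1 := by
  obtain ⟨h1, hz⟩ := rset_ne 𝒞 ha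
  exact trace_loc hM hB hmax 𝒞 (isReps_reps hB hmax S)
    (rots_subset_reps S ((mem_rots S).2 ⟨a, hal, rfl⟩))
    (centralizer_rot_le_KT hB hmax S (S.pow_mem_zpowers a) h1 hz)

/-- The forms of the identity are orthogonal to the values. -/
theorem sum_contrib_mul_raw {a : ℕ} (ha : a ∈ rset h) {χ : IrrCharacter G} (hχ : χ ∈ B) :
    ∑ ψ ∈ B.toFinset, (contrib 2 B χ ψ : ℂ) * raw 𝒞 a ψ = 0 := by
  haveI : Fact (Nat.Prime 2) := ⟨Nat.prime_two⟩
  obtain ⟨ha', hal⟩ := fold_mem (S := S) ha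
  obtain ⟨h1, hz⟩ := rset_ne 𝒞 ha'
  have hσ := S.pow_mem_zpowers (fold h a)
  have hs := sum_sval_mul_F hM hB hmax 𝒞 (isReps_reps hB hmax S)
    (rots_subset_reps S ((mem_rots S).2 ⟨_, hal, rfl⟩)) (centralizer_rot_le_KT hB hmax S hσ h1 hz)
    (rots_subset_reps S (one_mem_rots S)) (Ne.symm h1) hχ
  rw [← Finset.sum_filter] at hs
  rw [← mul_zero (Nat.card D : ℂ), ← hs, Finset.mul_sum]
  refine Finset.sum_congr (by ext; simp) fun ψ hψ => ?_
  rw [← card_mul_sval_one hM hB hmax hχ (Finset.mem_filter.1 hψ).2, ← raw_fold 𝒞 a ψ, mul_assoc]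
  rfl

theorem sum_contrib_mul_col {a : ℕ} (ha : a ∈ rset h) {χ : IrrCharacter G} (hχ : χ ∈ B) :
    ∑ ψ ∈ B.toFinset, (contrib 2 B χ ψ : ℂ) * col 𝒞 a ψ = 0 := by
  rw [Finset.sum_congr rfl (g := fun ψ => tp h a * ((contrib 2 B χ ψ : ℂ) * raw 𝒞 a ψ) +
      tm h a * ((contrib 2 B χ ψ : ℂ) * raw 𝒞 (sh h a) ψ)) fun ψ _ => by
    rw [col, raw_add_h 𝒞 (mem_rset.1 ha).1]; ring]
  rw [Finset.sum_add_distrib, ← Finset.mul_sum, ← Finset.mul_sum,
    sum_contrib_mul_raw hM hB hmax 𝒞 ha hχ, sum_contrib_mul_raw hM hB hmax 𝒞 (sh_mem ha) hχ]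
  ring

omit hM hB hmax in
/-- The twist keeps the sum of the squares. -/
theorem sum_raw_sq (χ : IrrCharacter G) :
    ∑ a ∈ rset h, raw 𝒞 a χ * conj (raw 𝒞 a χ) = ∑ a ∈ rset h, col 𝒞 a χ * col 𝒞 a χ := by
  have h4 := S.four_dvd
  have hh := S.h_pos
  have hre : ∀ g : ℕ → ℂ, ∑ a ∈ rset h, g (sh h a) = ∑ a ∈ rset h, g a := fun g =>
    Finset.sum_nbij' (sh h) (sh h) (fun _ => sh_mem) (fun _ => sh_mem)
      (fun _ ha => sh_sh (mem_rset.1 ha).1) (fun _ ha => sh_sh (mem_rset.1 ha).1) fun _ _ => rfl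
  set r := fun a => raw 𝒞 a χ
  have hexp : ∀ a ∈ rset h, col 𝒞 a χ * col 𝒞 a χ =
      tp h a * conj (tp h a) * (r a * conj (r a)) +
        tm h a * conj (tm h a) * (r (sh h a) * conj (r (sh h a))) +
        (tp h a * conj (tm h a) * (r a * conj (r (sh h a))) +
          tm h a * conj (tp h a) * (r (sh h a) * conj (r a))) := fun a ha => by
    have ha' := (mem_rset.1 ha).1
    nth_rw 2 [← conj_col 𝒞 ha' χ]
    rw [col, map_add, map_mul, map_mul, raw_add_h 𝒞 ha']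
    ring
  have hw : ∀ a, tp h a * conj (tp h a) + tm h a * conj (tm h a) = 1 ∧
      tm h a * conj (tp h a) = -(tp h a * conj (tm h a)) := fun a => by
    have h1 : om h ^ a * om h ^ (3 * a) = 1 := by
      rw [← pow_add, om_one h4 hh (by omega)]
    simp only [tp, tm, map_div₀, map_add, map_sub, map_one, map_ofNat, conj_om_pow h4 hh]
    constructor
    · linear_combination (1 / 2 : ℂ) * h1
    · linear_combination (-1 / 2 : ℂ) * h1
  rw [Finset.sum_congr rfl hexp, Finset.sum_add_distrib, Finset.sum_add_distrib,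
    Finset.sum_add_distrib]
  have h1 : ∑ a ∈ rset h, tm h a * conj (tm h a) * (r (sh h a) * conj (r (sh h a))) =
      ∑ a ∈ rset h, tm h a * conj (tm h a) * (r a * conj (r a)) := by
    rw [← hre fun a => tm h a * conj (tm h a) * (r a * conj (r a))]
    exact Finset.sum_congr rfl fun a ha => by rw [tm_sh h4 hh (mem_rset.1 ha).1]
  have h2 : ∑ a ∈ rset h, tm h a * conj (tp h a) * (r (sh h a) * conj (r a)) =
      -∑ a ∈ rset h, tp h a * conj (tm h a) * (r a * conj (r (sh h a))) := by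
    rw [← hre fun a => tp h a * conj (tm h a) * (r a * conj (r (sh h a))), ← Finset.sum_neg_distrib]
    exact Finset.sum_congr rfl fun a ha => by
      rw [tp_sh h4 hh (mem_rset.1 ha).1, tm_sh h4 hh (mem_rset.1 ha).1, sh_sh (mem_rset.1 ha).1,
        (hw a).2]
      ring
  rw [h1, h2, add_neg_cancel, add_zero, ← Finset.sum_add_distrib]
  exact Finset.sum_congr rfl fun a _ => by rw [← add_mul, (hw a).1, one_mul]

omit hM hB hmax in
/-- The values are recovered from the twisted ones. -/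
theorem raw_eq_zero {χ : IrrCharacter G} (hcol : ∀ a ∈ rset h, col 𝒞 a χ = 0) {a : ℕ}
    (ha : a ∈ rset h) : raw 𝒞 a χ = 0 := by
  have h4 := S.four_dvd
  have hh := S.h_pos
  have ha' := (mem_rset.1 ha).1
  have h1 := hcol a ha
  have h2 := hcol _ (sh_mem ha)
  rw [col, raw_add_h 𝒞 ha'] at h1
  rw [col, raw_add_h 𝒞 (mem_rset.1 (sh_mem ha)).1, sh_sh ha', tp_sh h4 hh ha', tm_sh h4 hh ha']
    at h2
  have hne : om h ^ a ≠ 0 := pow_ne_zero _ fun e => by
    have := om_pow_four h4 hh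
    simp [e] at this
  refine mul_left_cancel₀ hne ?_
  simp only [tp, tm] at h1 h2
  rw [mul_zero]
  linear_combination (1 + om h ^ a) / 2 * h1 - (1 - om h ^ a) / 2 * h2

/-- The identity of the contributions on the diagonal, by representatives. -/
theorem sum_sval_split {χ : IrrCharacter G} (hχ : χ ∈ B) :
    (4 * h : ℂ) = (contrib 2 B χ χ : ℂ) + (4 * h : ℂ) * sval 2 D eP S.z (χ : G → ℂ) χ +
      ∑ a ∈ rset h, col 𝒞 a χ * col 𝒞 a χ +
      (4 * h : ℂ) * ∑ r ∈ reps S eP \ rots S, sval 2 D eP r (χ : G → ℂ) χ := by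
  haveI : Fact (Nat.Prime 2) := ⟨Nat.prime_two⟩
  have hh := S.h_pos
  have h4 := S.four_dvd
  have hs := sum_sval hM hB hmax (isReps_reps hB hmax S) hχ hχ
  rw [if_pos rfl] at hs
  conv_lhs => rw [← mul_one (4 * h : ℂ), ← hs, ← Finset.sum_sdiff (rots_subset_reps S), mul_add,
    add_comm]
  congr 1
  have hlo0 : ∀ a ∈ lo h, a ≠ 0 ∧ a ≠ h := fun a ha => (mem_rset.1 (mem_lo.1 ha).1).2
  have hhalf : half h = insert 0 (insert h (lo h)) := by
    ext a
    simp only [mem_half, Finset.mem_insert, mem_lo, mem_rset]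
    constructor
    · rintro ⟨h1, h2⟩
      by_cases h0 : a = 0
      · exact Or.inl h0
      by_cases ha : a = h
      · exact Or.inr (Or.inl ha)
      · exact Or.inr (Or.inr ⟨⟨h1, h0, ha⟩, lt_of_le_of_ne h2 (S.iota_ne h1 h0 ha).symm⟩)
    · rintro (rfl | rfl | ⟨⟨h1, -⟩, h2⟩)
      · exact ⟨by omega, Nat.zero_le _⟩
      · exact ⟨by omega, S.iota_h.ge⟩
      · exact ⟨h1, h2.le⟩
  rw [rots, Finset.sum_image fun a ha b hb e =>
      S.sigma_pow_inj (mem_half.1 ha).1 (mem_half.1 hb).1 e,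
    hhalf, Finset.sum_insert (by
      rw [Finset.mem_insert, not_or]
      exact ⟨hh.ne, fun hm => (hlo0 0 hm).1 rfl⟩),
    Finset.sum_insert fun hm => (hlo0 h hm).2 rfl, mul_add, mul_add, ← add_assoc]
  congr 1
  · congr 1
    rw [pow_zero, ← card_mul_sval_one hM hB hmax hχ hχ, S.card]
    push_cast
    rfl
  rw [← sum_raw_sq 𝒞 χ, sum_rset_half h4 _ fun a _ => by rw [raw_iota], Finset.mul_sum, two_nsmul,
    ← Finset.sum_add_distrib]
  refine Finset.sum_congr rfl fun a ha => ?_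
  rw [sval_raw hM hB hmax 𝒞 (mem_lo.1 ha).1]
  have : (h : ℂ) ≠ 0 := Nat.cast_ne_zero.2 hh.ne'
  field_simp
  ring

/-- At a height zero member the value at the identity is odd. -/
theorem not_memLocalIdeal_col_zero {χ : IrrCharacter G} (hχ : χ ∈ B)
    (h0 : Cfsg.blockHeight 2 B (χ : G → ℂ) = 0) :
    ¬ Cfsg.MemLocalIdeal M (col 𝒞 0 χ) := by
  rw [col_zero]
  intro hI
  have hh := S.h_four_le
  have h1m : (1 : ℕ) ∈ rset h := mem_rset.2 ⟨by omega, by omega, by omega⟩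
  have hsub := F_sub_mem hM hmax 𝒞 χ (S.zpowers_le (S.pow_mem_zpowers 1))
  have hI1 : Cfsg.MemLocalIdeal M (raw 𝒞 1 χ) := by
    have := CfsgLib.Blocks.memLocalIdeal_add hsub hI
    rw [raw, pow_zero] at this
    rwa [sub_add_cancel] at this
  refine not_memLocalIdeal_cval hM hB hmax (S.zpowers_le (S.pow_mem_zpowers 1))
    (defect_rot hB hmax S (S.pow_mem_zpowers 1)) hχ hχ h0 h0 ?_
  rw [cval_eq, sval_raw hM hB hmax 𝒞 h1m, S.inf_centralizer (S.pow_mem_zpowers 1) (rset_ne 𝒞 h1m).1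
    (rset_ne 𝒞 h1m).2, S.card_zpowers_sigma]
  have : (h : ℂ) ≠ 0 := Nat.cast_ne_zero.2 (by omega)
  push_cast
  rw [mul_div_cancel₀ _ (by simpa using this), conj_raw 𝒞 (by omega)]
  exact CfsgLib.Blocks.memLocalIdeal_mul_right hI1 (CfsgLib.Blocks.memLocalRing_of_isIntegral
    (F_isIntegral 𝒞 χ (S.zpowers_le (S.pow_mem_zpowers _))))

end CfsgLib.TameSD
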