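import Cfsg.Agent.TameSQ.SDShape
import Cfsg.Agent.TameSQ.Subsections
import Cfsg.Agent.TameSQ.Local
import Cfsg.Agent.TameBlocks.DihedralFusion

/-!
# The fusion of a maximal pair with semidihedral group

Two rotations fused below the maximal pair are equal or conjugate by `τ`; `reps S eP` holds
`σ ^ a` for `a` in `half h`, `τ` unless fused to `z` and `τ * σ` unless fused to `w`.  The latter
have centralizers of order four and are fully centralized.  The stabilizer `KT` of the pair at `w`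
has a nilpotent block with the same maximal pair and contains the centralizers of the rotations of
order at least four.
-/

set_option autoImplicit false
set_option linter.unusedSectionVars false
set_option linter.style.haveILetI false

namespace CfsgLib.TameSD

open Cfsg CfsgLib.BlockPairs CfsgLib.Star
open CfsgLib.Blocks (Res)
open CfsgLib.TameBlocks (Fused IsReps sval)
open CfsgLib.TameSQ (fused_cyclic defect_below isFullyNormalized_of_normal isPGroup_mulAut LocData
  exists_locData)

universe u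

/-- Exponents of one rotation of each class. -/
def half (h : ℕ) : Finset ℕ := (Finset.range (2 * h)).filter fun a => a ≤ iota h a

theorem mem_half {h a : ℕ} : a ∈ half h ↔ a < 2 * h ∧ a ≤ iota h a := by simp [half]

variable {G : Type u} [Group G] [Fintype G] {M : Ideal AlgInt} [M.IsPrime]
  [CharP (Res M) 2] [IsAlgClosed (Res M)] {B : Set (IrrCharacter G)} (hB : Cfsg.IsPBlock M B)
  {D : Subgroup G} {eP : GA (Res M) G} (hmax : IsMaxPair 2 (⊤ : Subgroup G) (gblk M B) D eP)
  {h : ℕ} (S : SDShape D h)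

/-- The representatives among the rotations. -/
noncomputable def rots : Finset G :=
  letI := Classical.decEq G
  (half h).image fun a => S.σ ^ a

open Classical in
/-- `τ` unless it is fused to the central involution. -/
noncomputable def two (eP : GA (Res M) G) : Finset G :=
  if Fused 2 D eP S.τ S.z then ∅ else {S.τ}

open Classical in
/-- The element of order four unless it is fused to the rotations. -/
noncomputable def four (eP : GA (Res M) G) : Finset G :=
  if Fused 2 D eP S.f S.w then ∅ else {S.f}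

/-- The representatives. -/
noncomputable def reps (eP : GA (Res M) G) : Finset G :=
  letI := Classical.decEq G
  rots S ∪ (two S eP ∪ four S eP)

theorem mem_rots {r : G} : r ∈ rots S ↔ ∃ a ∈ half h, r = S.σ ^ a := by
  classical
  simp [rots, eq_comm]

theorem mem_zpowers_of_mem_rots {r : G} (hr : r ∈ rots S) : r ∈ Subgroup.zpowers S.σ := by
  obtain ⟨a, -, rfl⟩ := (mem_rots S).1 hr
  exact S.pow_mem_zpowers a

include S in
theorem zero_mem_half : 0 ∈ half h := mem_half.2 ⟨by have := S.h_pos; omega, Nat.zero_le _⟩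

include S in
theorem h_mem_half : h ∈ half h := mem_half.2 ⟨by have := S.h_pos; omega, S.iota_h.ge⟩

include S in
theorem half_h_mem_half : h / 2 ∈ half h := by
  have h1 := S.iota_spec (a := h / 2) (by have := S.h_pos; omega)
  obtain ⟨k, hk⟩ := S.four_dvd
  exact mem_half.2 ⟨by have := S.h_pos; omega, by omega⟩

theorem one_mem_rots : (1 : G) ∈ rots S :=
  (mem_rots S).2 ⟨0, zero_mem_half S, (pow_zero _).symm⟩

theorem z_mem_rots : S.z ∈ rots S := (mem_rots S).2 ⟨h, h_mem_half S, rfl⟩

theorem w_mem_rots : S.w ∈ rots S := (mem_rots S).2 ⟨h / 2, half_h_mem_half S, rfl⟩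

open Classical in
theorem mem_two {r : G} : r ∈ two S eP ↔ r = S.τ ∧ ¬ Fused 2 D eP S.τ S.z := by
  rw [two]
  split_ifs with h1 <;> simp [h1]

open Classical in
theorem mem_four {r : G} : r ∈ four S eP ↔ r = S.f ∧ ¬ Fused 2 D eP S.f S.w := by
  rw [four]
  split_ifs with h1 <;> simp [h1]

theorem card_two_le : (two S eP).card ≤ 1 := by
  classical
  rw [two]
  split_ifs <;> simp

theorem card_four_le : (four S eP).card ≤ 1 := by
  classical
  rw [four]
  split_ifs <;> simp

theorem mem_reps {r : G} : r ∈ reps S eP ↔ r ∈ rots S ∨ r ∈ two S eP ∨ r ∈ four S eP := by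
  classical
  simp [reps]

theorem rots_subset_reps : rots S ⊆ reps S eP := fun _ hr => (mem_reps S).2 (Or.inl hr)

theorem not_mem_zpowers_other {r : G} (hr : r ∈ two S eP ∨ r ∈ four S eP) :
    r ∈ D ∧ r ∉ Subgroup.zpowers S.σ := by
  rcases hr with hr | hr
  · obtain ⟨rfl, -⟩ := (mem_two S).1 hr
    exact ⟨S.τ_mem, S.τ_not_mem⟩
  · obtain ⟨rfl, -⟩ := (mem_four S).1 hr
    exact ⟨S.f_mem, S.f_not_mem⟩

theorem not_mem_rots_other {r : G} (hr : r ∈ two S eP ∨ r ∈ four S eP) : r ∉ rots S := fun h' =>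
  (not_mem_zpowers_other S hr).2 (mem_zpowers_of_mem_rots S h')

theorem normalizer_rot (a : ℕ) :
    D ≤ Subgroup.normalizer (Subgroup.zpowers (S.σ ^ a) : Set G) := fun y hy => by
  refine mem_normalizer_of_cj_eq ?_
  rw [Star.cj_zpowers]
  refine Subgroup.eq_of_le_of_card_ge (Subgroup.zpowers_le.2 ?_) (le_of_eq ?_)
  · rcases S.conj_rot hy a with e | e <;> rw [e]
    · exact Subgroup.mem_zpowers _
    · rw [iota, S.pow_mod, pow_mul]
      exact pow_mem (Subgroup.mem_zpowers _) _
  · rw [Nat.card_zpowers, Nat.card_zpowers]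
    exact ((MulAut.conj y).orderOf_eq _).symm

include hmax

theorem fused_iota (a : ℕ) : Fused 2 D eP (S.σ ^ a) (S.σ ^ iota h a) := by
  haveI : Fact (Nat.Prime 2) := ⟨Nat.prime_two⟩
  have := Fused.of_mem (p := 2) hmax.1.1 (S.zpowers_le (S.pow_mem_zpowers a)) S.τ_mem
  rwa [S.tau_conj_pow] at this

theorem fused_w_inv : Fused 2 D eP S.w S.w⁻¹ := by
  haveI : Fact (Nat.Prime 2) := ⟨Nat.prime_two⟩
  have := Fused.of_mem (p := 2) hmax.1.1 S.w_mem S.τ_mem
  rwa [S.w_conj S.τ_mem S.τ_not_mem] at this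

/-- An element outside the rotations is conjugate in `D` to `τ` or to `τ * σ`. -/
theorem fused_tau_or_f {x : G} (hx : x ∈ D) (hn : x ∉ Subgroup.zpowers S.σ) :
    (x * x = 1 ∧ Fused 2 D eP x S.τ) ∨ (x * x = S.z ∧ Fused 2 D eP x S.f) := by
  haveI : Fact (Nat.Prime 2) := ⟨Nat.prime_two⟩
  obtain ⟨a, ha, rfl⟩ := S.eq_tau_mul hx hn
  obtain ⟨g, hg, he⟩ := S.exists_conj_refl a
  have := Fused.of_mem (p := 2) hmax.1.1 hx hg
  rw [he] at this
  rw [S.refl_sq_eq ha]
  rcases Nat.mod_two_eq_zero_or_one a with e | e <;> rw [e] at this ⊢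
  · rw [pow_zero, mul_one] at this
    exact Or.inl ⟨rfl, this⟩
  · rw [pow_one] at this
    exact Or.inr ⟨rfl, this⟩

include hB

/-- Fused rotations are equal or conjugate by `τ`. -/
theorem rot_fused {a : ℕ} {v : G} (hv : v ∈ Subgroup.zpowers S.σ)
    (hf : Fused 2 D eP (S.σ ^ a) v) : v = S.σ ^ a ∨ v = S.σ ^ iota h a := by
  have hu := S.pow_mem_zpowers a
  have hvu : v ∈ Subgroup.zpowers (S.σ ^ a) := by
    have := TameBlocks.eq_of_le_cyclic (P := Subgroup.zpowers S.σ) (Subgroup.zpowers_le.2 hu)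
      (Subgroup.zpowers_le.2 hv) (by rw [Nat.card_zpowers, Nat.card_zpowers, hf.orderOf_eq])
    exact this ▸ Subgroup.mem_zpowers v
  obtain ⟨y, hy, rfl⟩ := fused_cyclic hB hmax (S.zpowers_le hu) (normalizer_rot S a) hf hvu
  exact S.conj_rot hy a

theorem not_fused_rot {r v : G} (hr : r ∈ two S eP ∨ r ∈ four S eP)
    (hv : v ∈ Subgroup.zpowers S.σ) : ¬ Fused 2 D eP r v := fun hf => by
  haveI : Fact (Nat.Prime 2) := ⟨Nat.prime_two⟩
  have hord := hf.orderOf_eq
  rcases hr with hr | hr
  · obtain ⟨rfl, hn⟩ := (mem_two S).1 hr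
    have h2 : v * v = 1 := by
      have h3 : orderOf S.τ = 2 := orderOf_eq_prime (by rw [pow_two]; exact S.τ_sq)
        fun e => S.τ_not_mem (e ▸ one_mem _)
      rw [← pow_two, ← orderOf_dvd_iff_pow_eq_one, hord, h3]
    rcases S.eq_one_or_z hv h2 with rfl | rfl
    · rw [orderOf_one, eq_comm, orderOf_eq_one_iff] at hord
      exact S.τ_not_mem (hord ▸ one_mem _)
    · exact hn hf
  · obtain ⟨rfl, hn⟩ := (mem_four S).1 hr
    have h4 : orderOf S.f = 4 := by
      refine orderOf_eq_prime_pow (p := 2) (n := 1) ?_ ?_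
      · rw [pow_one, pow_two, S.f_sq]; exact S.z_ne_one
      · rw [show 2 ^ (1 + 1) = 2 + 2 by norm_num, pow_add, pow_two, S.f_sq, S.z_mul_z]
    rw [h4] at hord
    have hv2 : v * v = S.z := by
      rcases S.eq_one_or_z (mul_mem hv hv) (by
        rw [← pow_two, ← pow_two, ← pow_mul]
        exact (show (2 * 2 : ℕ) = orderOf v by rw [hord]) ▸ pow_orderOf_eq_one v) with e | e
      · exfalso
        have h1 : orderOf v ∣ 2 := by rw [orderOf_dvd_iff_pow_eq_one, pow_two]; exact e
        rw [hord] at h1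
        norm_num at h1
      · exact e
    rcases S.eq_one_or_z (mul_mem hv (inv_mem S.w_mem_zpowers)) (by
      rw [(S.rot_comm hv (inv_mem S.w_mem_zpowers)).symm.mul_mul_mul_comm, hv2, ← mul_inv_rev,
        S.w_mul_w, mul_inv_cancel]) with e | e
    · rw [mul_inv_eq_one] at e
      exact hn (e ▸ hf)
    · rw [mul_inv_eq_iff_eq_mul] at e
      have e' : v = S.w⁻¹ := by
        rw [e, ← S.z_inv, ← S.w_mul_w, mul_inv_rev, mul_assoc, inv_mul_cancel, mul_one]
      exact hn (hf.trans hmax.1.1 (e' ▸ (fused_w_inv hmax S).symm))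

/-- The representatives hold one member of each class. -/
theorem isReps_reps : IsReps 2 D eP (reps S eP) := by
  haveI : Fact (Nat.Prime 2) := ⟨Nat.prime_two⟩
  have hPe := hmax.1.1
  have hD : ∀ r ∈ reps S eP, r ∈ D := fun r hr => by
    rcases (mem_reps S).1 hr with hr | hr
    · exact S.zpowers_le (mem_zpowers_of_mem_rots S hr)
    · exact (not_mem_zpowers_other S hr).1
  have huniq : ∀ r ∈ reps S eP, ∀ r' ∈ reps S eP, Fused 2 D eP r r' → r' = r := by
    intro r hr r' hr' hf
    rcases (mem_reps S).1 hr with hr | hr <;> rcases (mem_reps S).1 hr' with hr' | hr'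
    · obtain ⟨a, ha, rfl⟩ := (mem_rots S).1 hr
      obtain ⟨b, hb, rfl⟩ := (mem_rots S).1 hr'
      rw [mem_half] at ha hb
      rcases rot_fused hB hmax S (S.pow_mem_zpowers b) hf with e | e
      · exact e
      · have e' := S.sigma_pow_inj hb.1 (iota_lt S.h_pos a) e
        subst e'
        rw [S.iota_iota ha.1] at hb
        rw [le_antisymm hb.2 ha.2]
    · exact absurd hf.symm (not_fused_rot hB hmax S hr' (mem_zpowers_of_mem_rots S hr))
    · exact absurd hf (not_fused_rot hB hmax S hr (mem_zpowers_of_mem_rots S hr'))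
    · have hord := hf.orderOf_eq
      have hne : orderOf S.f ≠ orderOf S.τ := by
        intro e
        have h1 : S.f ^ 2 = 1 := by
          rw [← orderOf_dvd_iff_pow_eq_one, e, orderOf_dvd_iff_pow_eq_one, pow_two]
          exact S.τ_sq
        rw [pow_two, S.f_sq] at h1
        exact S.z_ne_one h1
      rcases hr with hr | hr <;> rcases hr' with hr' | hr'
      · rw [((mem_two S).1 hr).1, ((mem_two S).1 hr').1]
      · rw [((mem_two S).1 hr).1, ((mem_four S).1 hr').1] at hord
        exact absurd hord hne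
      · rw [((mem_four S).1 hr).1, ((mem_two S).1 hr').1] at hord
        exact absurd hord.symm hne
      · rw [((mem_four S).1 hr).1, ((mem_four S).1 hr').1]
  refine ⟨hD, fun v hv => ?_⟩
  have hex : ∃ r ∈ reps S eP, Fused 2 D eP v r := by
    by_cases hvσ : v ∈ Subgroup.zpowers S.σ
    · obtain ⟨a, ha, rfl⟩ := S.exists_pow hvσ
      by_cases hle : a ≤ iota h a
      · exact ⟨_, rots_subset_reps S ((mem_rots S).2 ⟨a, mem_half.2 ⟨ha, hle⟩, rfl⟩),
          Fused.refl hPe hv⟩
      · exact ⟨_, rots_subset_reps S ((mem_rots S).2 ⟨iota h a,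
          mem_half.2 ⟨iota_lt S.h_pos a, by rw [S.iota_iota ha]; omega⟩, rfl⟩),
          fused_iota hmax S a⟩
    · rcases fused_tau_or_f hmax S hv hvσ with ⟨-, hf⟩ | ⟨-, hf⟩
      · by_cases h2 : Fused 2 D eP S.τ S.z
        · exact ⟨_, rots_subset_reps S (z_mem_rots S), hf.trans hPe h2⟩
        · exact ⟨_, (mem_reps S).2 (Or.inr (Or.inl ((mem_two S).2 ⟨rfl, h2⟩))), hf⟩
      · by_cases h4 : Fused 2 D eP S.f S.w
        · exact ⟨_, rots_subset_reps S (w_mem_rots S), hf.trans hPe h4⟩
        · exact ⟨_, (mem_reps S).2 (Or.inr (Or.inr ((mem_four S).2 ⟨rfl, h4⟩))), hf⟩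
  obtain ⟨r, hr, hf⟩ := hex
  exact ⟨r, ⟨hr, hf⟩, fun x hx => huniq r hr x hx.1 (hf.symm.trans hPe hx.2)⟩

theorem isFullyCentralized_other {r : G} (hr : r ∈ two S eP ∨ r ∈ four S eP) :
    (blockSystem hmax.1.1).IsFullyCentralized (Subgroup.zpowers r) := by
  haveI : Fact (Nat.Prime 2) := ⟨Nat.prime_two⟩
  obtain ⟨hrD, hrσ⟩ := not_mem_zpowers_other S hr
  refine ⟨Subgroup.zpowers_le.2 hrD, fun R hR => ?_⟩
  obtain ⟨g, hg, rfl⟩ := isConj_iff_mor.1 hR
  set r' := g * r * g⁻¹ with hr'
  have hf : Fused 2 D eP r r' := ⟨g, hg, rfl⟩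
  have hr'D : r' ∈ D := hf.mem_right
  have hr'σ : r' ∉ Subgroup.zpowers S.σ := fun h' => not_fused_rot hB hmax S hr h' hf
  rw [Star.cj_zpowers]
  have hcen : ∀ x : G, Cfsg.FusionSystem.centralizerIn D (Subgroup.zpowers x) =
      D ⊓ Subgroup.centralizer ({x} : Set G) := fun x => by
    rw [← Star.cent_zpowers, cent, top_inf_eq]
    rfl
  rw [hcen, hcen, S.card_inf_centralizer_refl hrD hrσ, S.card_inf_centralizer_refl hr'D hr'σ]

theorem defect_other {r : G} (hr : r ∈ two S eP ∨ r ∈ four S eP) :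
    IsDefectGrp 2 (Subgroup.centralizer ({r} : Set G)) (below 2 D eP (Subgroup.zpowers r))
      (D ⊓ Subgroup.centralizer ({r} : Set G)) :=
  defect_below hB hmax (not_mem_zpowers_other S hr).1 (isFullyCentralized_other hB hmax S hr)

theorem defect_rot {r : G} (hr : r ∈ Subgroup.zpowers S.σ) :
    IsDefectGrp 2 (Subgroup.centralizer ({r} : Set G)) (below 2 D eP (Subgroup.zpowers r))
      (D ⊓ Subgroup.centralizer ({r} : Set G)) := by
  haveI : Fact (Nat.Prime 2) := ⟨Nat.prime_two⟩
  obtain ⟨a, -, rfl⟩ := S.exists_pow hr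
  exact defect_below hB hmax (S.zpowers_le hr)
    (fullyCentralized_of_fullyNormalized (isBlock_gblk hB) hmax
      (isFullyNormalized_of_normal hmax (Subgroup.zpowers_le.2 (S.zpowers_le hr))
        (normalizer_rot S a)))

omit hB hmax

/-- The stabilizer of the pair at `w`. -/
noncomputable abbrev KT (eP : GA (Res M) G) : Subgroup G :=
  stab ⊤ (Subgroup.zpowers S.w) (below 2 D eP (Subgroup.zpowers S.w))

include hB hmax

theorem D_le_KT : D ≤ KT S eP := by
  haveI : Fact (Nat.Prime 2) := ⟨Nat.prime_two⟩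
  have h := (le_normalizer_part hmax (le_below hmax S.w_mem)).1
  rwa [inf_eq_left.2 (show D ≤ Subgroup.normalizer (Subgroup.zpowers S.w : Set G) from
    normalizer_rot S _)] at h

theorem centralizer_rot_le_KT {r : G} (hr : r ∈ Subgroup.zpowers S.σ) (h1 : r ≠ 1)
    (hz : r ≠ S.z) : Subgroup.centralizer ({r} : Set G) ≤ KT S eP := by
  haveI : Fact (Nat.Prime 2) := ⟨Nat.prime_two⟩
  refine (S.centralizer_rot_le hr h1 hz).trans ?_
  have h := (le_pair hmax.1.1 (le_below hmax S.w_mem)).cent_le_stab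
  rwa [Star.cent_zpowers] at h

/-- An element of odd order normalizing `⟨w⟩` centralizes it. -/
theorem commute_w_of_normalizer {x : G}
    (hx : x ∈ Subgroup.normalizer (Subgroup.zpowers S.w : Set G)) (hreg : Cfsg.IsPRegular 2 x) :
    Commute x S.w := by
  haveI : Fact (Nat.Prime 2) := ⟨Nat.prime_two⟩
  obtain ⟨m, hm⟩ := (isPGroup_mulAut hmax.1.1.2.1 S.w_mem)
    ((Subgroup.zpowers S.w).normalizerMonoidHom ⟨x, hx⟩)
  have h2 : orderOf ((Subgroup.zpowers S.w).normalizerMonoidHom ⟨x, hx⟩) ∣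
      Nat.gcd (2 ^ m) (orderOf x) := by
    refine Nat.dvd_gcd (orderOf_dvd_of_pow_eq_one hm) (orderOf_dvd_of_pow_eq_one ?_)
    rw [← map_pow, show (⟨x, hx⟩ : Subgroup.normalizer (Subgroup.zpowers S.w : Set G)) ^ orderOf x = 1
      from Subtype.ext (pow_orderOf_eq_one x), map_one]
  rw [((Nat.prime_two.coprime_iff_not_dvd.2 hreg).pow_left m).gcd_eq_one, Nat.dvd_one,
    orderOf_eq_one_iff, ← MonoidHom.mem_ker, Subgroup.normalizerMonoidHom_ker] at h2
  exact (Subgroup.mem_centralizer_iff.1 h2 S.w (Subgroup.mem_zpowers _)).symm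

/-- The block of the stabilizer is nilpotent with maximal pair `(D, eP)`. -/
theorem exists_locData_KT (hM : Cfsg.IsPModular 2 M) :
    Nonempty (LocData M eP (KT S eP) (D_le_KT hB hmax S)) := by
  haveI : Fact (Nat.Prime 2) := ⟨Nat.prime_two⟩
  set Q := Subgroup.zpowers S.w with hQdef
  set f := below 2 D eP Q with hfdef
  have hle := le_below hmax S.w_mem
  have hQf := le_pair hmax.1.1 hle
  have hDK := D_le_KT hB hmax S
  have hblk : IsBlock (KT S eP) f :=
    block_of_le_stab hQf (hQf.le_stab) hQf.cent_le_stab le_rfl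
  have hnor : D ≤ Subgroup.normalizer (Q : Set G) := normalizer_rot S _
  obtain ⟨g, hs, hg⟩ := step_of_le hle hmax.1.1 (Subgroup.zpowers_le.2 S.w_mem) le_rfl hnor
  rw [le_unique hg Le.refl'] at hs
  have hd : IsDefectGrp 2 (KT S eP) f D := by
    refine isDefectGrp_of_card hblk hDK hmax.1.1.2.1 hs.br_ne_zero fun T hT hTp hne => ?_
    obtain ⟨z, -, hzT⟩ := exists_conj_into (isBlock_gblk hB) hmax hle hQf hT hTp hne
    exact (card_cj z T).symm.le.trans (Subgroup.card_le_of_le hzT)
  have hC : Subgroup.centralizer (D : Set G) ≤ KT S eP := by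
    refine le_trans ?_ hQf.cent_le_stab
    rw [cent, top_inf_eq]
    exact Subgroup.centralizer_le (SetLike.coe_subset_coe.2 (Subgroup.zpowers_le.2 S.w_mem))
  have hmK : IsMaxPair 2 (KT S eP) f D eP :=
    isMaxPair_of_defect hd ⟨hmax.1.1.of_top hDK hC, hs.2.2.2.2.2⟩
  refine exists_locData hM hblk hmK fun R g' hR x hx hreg => ?_
  obtain ⟨k, hk, hle'⟩ := exists_conj_le hblk hmK hR
  refine mem_centralizer_cj (z := k) ?_
  have hxN : k * x * k⁻¹ ∈ Subgroup.normalizer ((cj k R : Subgroup G) : Set G) := by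
    refine mem_normalizer_of_cj_eq ?_
    rw [cj_cj, inv_mul_cancel_right, ← cj_cj, cj_eq_self (stab_le_normalizer hx)]
  have hkx : k * x * k⁻¹ ∈ Subgroup.normalizer (Q : Set G) :=
    stab_le_normalizer (mul_mem (mul_mem hk (stab_le hx)) (inv_mem hk))
  exact S.centralizes hle'.subgroup_le hxN
    (commute_w_of_normalizer hB hmax S hkx (isPRegular_conj.2 hreg)) (isPRegular_conj.2 hreg)

/-- A representative outside the rotations has one Brauer character below. -/
theorem trace_other (hM : Cfsg.IsPModular 2 M) {r : G} (hr : r ∈ two S eP ∨ r ∈ four S eP) :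
    haveI : Fact (Nat.Prime 2) := ⟨Nat.prime_two⟩
    letI := Classical.propDecidable
    ∑ χ : IrrCharacter G, (if χ ∈ B then sval 2 D eP r (χ : G → ℂ) χ else 0) = 1 := by
  haveI : Fact (Nat.Prime 2) := ⟨Nat.prime_two⟩
  haveI := Fintype.ofFinite ↥(Subgroup.centralizer ({r} : Set G))
  obtain ⟨hrD, hrσ⟩ := not_mem_zpowers_other S hr
  have hd := defect_other hB hmax S hr
  set C := Subgroup.centralizer ({r} : Set G) with hCdef
  set f := below 2 D eP (Subgroup.zpowers r) with hfdef
  set V := D ⊓ C with hVdef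
  have hblk : IsBlock C f := by
    have := mem_blocks.1 (below_mem_blocks hmax hrD)
    rwa [Star.cent_zpowers] at this
  obtain ⟨eV, heV⟩ := exists_blockHas hblk hd.1 hd.2.1 hd.2.2.1
  have hmaxC : IsMaxPair 2 C f V eV := isMaxPair_of_defect hd heV
  have hmemV : ∀ {y : G}, y ∈ V ↔ y = 1 ∨ y = S.z ∨ y = r ∨ y = r * S.z :=
    fun {y} => S.mem_inf_centralizer_refl hrD hrσ
  have hzr : Commute r S.z := S.z_central hrD
  have hr2 : r * r ∈ ({1, S.z} : Set G) := by
    rcases S.refl_sq hrD hrσ with e | e <;> simp [e]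
  have hn : Nilp 2 C f := by
    intro R g hR x hx hreg
    obtain ⟨k, hk, hle⟩ := exists_conj_le hblk hmaxC hR
    refine mem_centralizer_cj (z := k) ?_
    set c := k * x * k⁻¹ with hc
    have hcC : c ∈ C := mul_mem (mul_mem hk (stab_le hx)) (inv_mem hk)
    have hcr : c * r * c⁻¹ = r :=
      mul_inv_eq_iff_eq_mul.2 (Subgroup.mem_centralizer_singleton_iff.1 hcC)
    have hxN : c ∈ Subgroup.normalizer ((cj k R : Subgroup G) : Set G) := by
      refine mem_normalizer_of_cj_eq ?_
      rw [hc, cj_cj, inv_mul_cancel_right, ← cj_cj, cj_eq_self (stab_le_normalizer hx)]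
    have hcreg : Cfsg.IsPRegular 2 c := isPRegular_conj.2 hreg
    refine Subgroup.mem_centralizer_iff.2 fun v hv => ?_
    suffices hfix : c * v * c⁻¹ = v from (mul_inv_eq_iff_eq_mul.1 hfix).symm
    have hvV := hle.subgroup_le hv
    have hv'V := hle.subgroup_le ((Subgroup.mem_normalizer_iff.1 hxN v).1 hv)
    -- `v` or its image is a power of `r`, or they differ by one
    have hfixr : ∀ y, y ∈ Subgroup.zpowers r → c * y * c⁻¹ = y := fun y hy => by
      obtain ⟨i, rfl⟩ := hy
      show c * r ^ i * c⁻¹ = r ^ i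
      rw [← _root_.conj_zpow, hcr]
    by_cases hvr : v ∈ Subgroup.zpowers r
    · exact hfixr v hvr
    by_cases hvr' : c * v * c⁻¹ ∈ Subgroup.zpowers r
    · have h1 := hfixr _ hvr'
      rw [mul_left_inj, mul_right_inj] at h1
      exact h1
    have h1 : c * v * c⁻¹ = v * (v⁻¹ * (c * v * c⁻¹)) := by rw [mul_inv_cancel_left]
    have hd' : v⁻¹ * (c * v * c⁻¹) ∈ Subgroup.zpowers r := by
      have hcases : ∀ y ∈ V, y ∉ Subgroup.zpowers r → y = S.z ∨ y = r * S.z := fun y hy hyn => by
        rcases hmemV.1 hy with e | e | e | e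
        · exact absurd (e ▸ one_mem _) hyn
        · exact Or.inl e
        · exact absurd (e ▸ Subgroup.mem_zpowers r) hyn
        · exact Or.inr e
      rcases hcases v hvV hvr with e | e <;> rcases hcases _ hv'V hvr' with e' | e' <;>
        rw [e'] <;> rw [e]
      · rw [inv_mul_cancel]; exact one_mem _
      · rw [hzr.eq, inv_mul_cancel_left]; exact Subgroup.mem_zpowers r
      · rw [mul_inv_rev, mul_assoc, hzr.inv_left.eq, inv_mul_cancel_left]
        exact inv_mem (Subgroup.mem_zpowers r)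
      · rw [inv_mul_cancel]; exact one_mem _
    rw [h1, S.translation_eq_one hcreg (Subgroup.zpowers_le.2 hrD hd') h1 (hfixr _ hd'), mul_one]
  obtain ⟨b, e', hb, hsb, -, hm, hnb⟩ := TameBlocks.exists_local_nilp hblk hmaxC hn
  have hcomm : ∀ a ∈ V, ∀ c ∈ V, a * c = c * a := fun a ha c hc => by
    have h1 : ∀ y ∈ V, Commute r y ∧ Commute S.z y := fun y hy => by
      rcases hmemV.1 hy with e | e | e | e <;> rw [e]
      exacts [⟨Commute.one_right _, Commute.one_right _⟩, ⟨hzr, Commute.refl _⟩,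
        ⟨Commute.refl _, hzr.symm⟩,
        ⟨(Commute.refl r).mul_right hzr, hzr.symm.mul_right (Commute.refl _)⟩]
    rcases hmemV.1 ha with e | e | e | e <;> rw [e]
    exacts [(Commute.one_left c).eq, (h1 c hc).2.eq, (h1 c hc).1.eq,
      ((h1 c hc).1.mul_left (h1 c hc).2).eq]
  have hab : V.subgroupOf C ≤
      Subgroup.centralizer ((V.subgroupOf C : Subgroup ↥C) : Set ↥C) := fun a ha =>
    Subgroup.mem_centralizer_iff.2 fun c hc => Subtype.ext
      (hcomm (c : G) (Subgroup.mem_subgroupOf.1 hc) (a : G) (Subgroup.mem_subgroupOf.1 ha))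
  obtain ⟨-, ψ, hψ⟩ := HomocyclicBlock.exists_oneBrauer hM hb hm hab hnb
  rw [TameBlocks.sum_sval_self hM hB hmax hrD hb hsb.symm, hψ.blockRank_eq, Nat.cast_one]

end CfsgLib.TameSD
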