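import Cfsg.Agent.TameSQ.SDCounts
import Cfsg.Agent.TameSQ.High

/-!
# The members vanishing on the rotations of order at least four, semidihedral defect group

Such a member of positive height vanishes on the sections of those rotations; on the defect class
its value is then a multiple of `h`, so `h` divides `2 ^ ht`.
-/

set_option autoImplicit false
set_option linter.unusedSectionVars false
set_option linter.style.haveILetI false

namespace CfsgLib.TameSD

open Cfsg CfsgLib.BlockPairs CfsgLib.Star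
open CfsgLib.Blocks (Res localRing)
open CfsgLib.TameBlocks (Fused IsReps sval)
open CfsgLib.Contributions (contrib)
open CfsgLib.TameSQ (LocData F exists_orderOf char_eq_zero_of_sval sum_twisted sum_rset rset mem_rset
  eq_zero_of_const coeff_const zeta zeta_spec expo expo_h)
open scoped ComplexConjugate Classical

universe u

variable {G : Type u} [Group G] [Fintype G]

variable {M : Ideal AlgInt} [M.IsPrime]
  [CharP (Res M) 2] [IsAlgClosed (Res M)] (hM : Cfsg.IsPModular 2 M)
  {B : Set (IrrCharacter G)} (hB : Cfsg.IsPBlock M B)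
  {D : Subgroup G} {eP : GA (Res M) G} (hmax : IsMaxPair 2 (⊤ : Subgroup G) (gblk M B) D eP)
  {h : ℕ} {S : SDShape D h} {hDK : D ≤ KT S eP} (𝒞 : LocData M eP (KT S eP) hDK)
  {q : ℕ} (hq : h = 2 * (q + 1))

include hM hB hmax hq

/-- A member of positive height vanishing on the rotations is of height at least `log h`. -/
theorem h_dvd_pow {χ : IrrCharacter G} (hχ : χ ∈ B)
    (h0 : Cfsg.blockHeight 2 B (χ : G → ℂ) ≠ 0) (hx : ∀ i : Fin q, xv 𝒞 χ i = 0)
    (hd : ∀ i : Fin q, dv 𝒞 χ i = 0) :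
    h ∣ 2 ^ Cfsg.blockHeight 2 B (χ : G → ℂ) := by
  haveI : Fact (Nat.Prime 2) := ⟨Nat.prime_two⟩
  have hh := S.h_pos
  have hcol : ∀ a ∈ rset h, col 𝒞 a χ = 0 := fun a ha =>
    eq_zero_of_const hh (zeta_spec hh) (fun a => col 𝒞 a χ) (mcoef 𝒞 χ) (col_eq 𝒞 χ)
      (fun j hj => coeff_const (q := q) (mcoef_symm' 𝒞 hq χ)
        (Nv_eq_zero hM hB hmax 𝒞 hq hχ h0) hx hd (by omega)) ha
  have hR := isReps_reps hB hmax S
  have hD : Cfsg.IsDefectGroup 2 M B D :=
    (isDefectGroup_gblk_iff hB D).2 (hmax.isDefectGrp (isBlock_gblk hB)).1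
  obtain ⟨y, hy, hSy⟩ := CfsgLib.Blocks.isDefectGroup_iff.1 hD
  have hyreg := CfsgLib.Blocks.regular_of_isDefectClass hM hB hy
  have hσy : Commute S.σ y := Subgroup.mem_centralizer_singleton_iff.1 (hSy.1 S.σ_mem)
  have hvan : ∀ a ∈ rset h, (χ : G → ℂ) (S.σ ^ a * y) = 0 := by
    intro a ha
    obtain ⟨h1, hz⟩ := rset_ne 𝒞 ha
    obtain ⟨i, hi⟩ := exists_orderOf hmax.1.1.2.1 (S.zpowers_le (S.pow_mem_zpowers a))
    refine char_eq_zero_of_sval hM hB hmax hR hχ ⟨i, hi⟩ (hσy.pow_left a) hyreg fun r hr hc => ?_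
    have hord : orderOf r = orderOf (S.σ ^ a) := by
      obtain ⟨g, rfl⟩ := isConj_iff.1 hc
      exact (MulAut.conj g).orderOf_eq _
    rcases (mem_reps S).1 hr with hrot | hrot
    · obtain ⟨b, hb, rfl⟩ := (mem_rots S).1 hrot
      have hbr : b ∈ rset h := by
        refine mem_rset.2 ⟨(mem_half.1 hb).1, fun e => h1 ?_, fun e => ?_⟩
        · rw [e, pow_zero, orderOf_one] at hord
          exact orderOf_eq_one_iff.1 hord.symm
        · rw [e] at hord
          have h2 : (S.σ ^ a) * (S.σ ^ a) = 1 := by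
            rw [← pow_two, ← orderOf_dvd_iff_pow_eq_one, ← hord, orderOf_dvd_iff_pow_eq_one,
              pow_two]
            exact S.z_mul_z
          rcases S.eq_one_or_z (S.pow_mem_zpowers a) h2 with e' | e'
          exacts [h1 e', hz e']
      rw [sval_raw hM hB hmax 𝒞 hbr, raw_eq_zero 𝒞 hcol hbr, zero_mul, zero_div]
    · rw [sval_other hM hB hmax 𝒞 hq hrot hχ, if_neg h0]
  have hco : (2 * h).Coprime (orderOf y) := by
    obtain ⟨e, -, he⟩ := S.two_pow
    rw [he, ← pow_succ']
    exact (Nat.prime_two.coprime_iff_not_dvd.2 hyreg).pow_left _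
  have key : ∀ ω : ℂ, ω ^ (2 * h) = 1 → ∃ c : ℂ, IsIntegral ℤ c ∧
      (χ : G → ℂ) y + (χ : G → ℂ) (S.σ ^ h * y) * ω ^ h = (2 * h : ℂ) * c := by
    intro ω hω
    obtain ⟨c, hc, hce⟩ := sum_twisted χ hσy S.order hco hω
    rw [sum_rset _ hh, Finset.sum_eq_zero fun a ha => by rw [hvan a ha, zero_mul]] at hce
    refine ⟨c, hc, ?_⟩
    simpa using hce
  obtain ⟨c₀, hc₀, he₀⟩ := key 1 (one_pow _)
  obtain ⟨c₁, hc₁, he₁⟩ := key (zeta h) (zeta_spec hh).pow_eq_one
  have hzh : zeta h ^ h = -1 := by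
    have := expo_h hh (zeta_spec hh) 1
    rw [expo, zpow_one] at this
    rw [this, if_neg (by norm_num)]
  rw [hzh] at he₁
  rw [one_pow, mul_one] at he₀
  have hval : (χ : G → ℂ) y = (h : ℂ) * (c₀ + c₁) := by linear_combination (he₀ + he₁) / 2
  -- the central character at the defect class is a unit
  obtain ⟨e, -, he⟩ := S.two_pow
  rw [he]
  refine pow_dvd_pow 2 ?_
  by_contra hlt
  set t := Cfsg.blockHeight 2 B (χ : G → ℂ)
  have hlt' : t < e := not_le.1 hlt
  refine hy.2.2 χ hχ ?_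
  have hheight := CfsgLib.Blocks.blockHeight_eq hM hB hD hχ
  have hidx := CfsgLib.Blocks.index_centralizer_factorization hSy
  have hdeg := CfsgLib.Blocks.charDegree_factorization_le (p := 2) χ
  set w := ((Subgroup.centralizer ({y} : Set G)).index).factorization 2
  set v := (Cfsg.charDegree (χ : G → ℂ)).factorization 2
  have hidx0 : (Subgroup.centralizer ({y} : Set G)).index ≠ 0 := Subgroup.index_ne_zero_of_finite
  have hq' : Cfsg.MemLocalIdeal M
      ((((Subgroup.centralizer ({y} : Set G)).index * 2 ^ e : ℕ) : ℂ) /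
        ((Cfsg.charDegree (χ : G → ℂ) : ℕ) : ℂ)) := by
    have := CfsgLib.Blocks.memLocalIdeal_mul_div_of_lt (n := (Subgroup.centralizer ({y} : Set G)).index * 2 ^ e)
      (m := Cfsg.charDegree (χ : G → ℂ)) hM (CfsgLib.Blocks.charDegree_ne_zero χ) (by
        rw [Nat.factorization_mul hidx0 (pow_ne_zero _ two_ne_zero), Finsupp.add_apply,
          Nat.Prime.factorization_pow Nat.prime_two, Finsupp.single_eq_same]
        omega) (z := 1) (CfsgLib.Blocks.memLocalRing_of_isIntegral isIntegral_one)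
    simpa using this
  have := CfsgLib.Blocks.memLocalIdeal_mul_right hq'
    (CfsgLib.Blocks.memLocalRing_of_isIntegral (hc₀.add hc₁))
  convert this using 1
  rw [Cfsg.centralChar, hval, CfsgLib.Blocks.charDegree_cast, he]
  push_cast
  ring

end CfsgLib.TameSD
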