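import Cfsg.Agent.BlockPairs.Nilpotent
import Cfsg.Prelude.Def_CaseTheorems

/-!
# Semidihedral subgroups and their automorphisms of odd order

`SDShape D h`: `D` is semidihedral of order `4 * h`, `h = 2 ^ e`, `2 ≤ e`, on the rotation `σ` and
the involution `τ`, conjugation by `τ` being `σ ^ a ↦ σ ^ iota h a`.  The elements outside the
rotations form two classes: involutions and elements of order four with square `z = σ ^ h`.  An
element of odd order normalizing a subgroup `Q` of `D` and fixing `w = σ ^ (h / 2)` centralizes `Q`.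
-/

set_option autoImplicit false
set_option linter.unusedSectionVars false
set_option linter.style.haveILetI false

namespace CfsgLib.TameSD

universe u

variable {G : Type u} [Group G]

/-- The exponent of the conjugate of a rotation. -/
def iota (h a : ℕ) : ℕ := a * (h - 1) % (2 * h)

theorem iota_lt {h : ℕ} (hh : 0 < h) (a : ℕ) : iota h a < 2 * h := Nat.mod_lt _ (by omega)

theorem iota_spec {h a : ℕ} (h4 : 4 ∣ h) (hh : 0 < h) (ha : a < 2 * h) :
    (a % 2 = 0 ∧ ((a = 0 ∧ iota h a = 0) ∨ (0 < a ∧ iota h a = 2 * h - a))) ∨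
      (a % 2 = 1 ∧ ((a < h ∧ iota h a = h - a) ∨ (h < a ∧ iota h a = 3 * h - a))) := by
  obtain ⟨k, rfl⟩ := h4
  have key : ∀ c b : ℕ, b < 2 * (4 * k) → a * (4 * k - 1) = 2 * (4 * k) * c + b →
      iota (4 * k) a = b := fun c b hb he => by
    rw [iota, he, Nat.mul_add_mod, Nat.mod_eq_of_lt hb]
  have hm : a * (4 * k - 1) + a = a * (4 * k) := by
    rw [← Nat.mul_succ]
    congr 1
    omega
  rcases Nat.even_or_odd' a with ⟨t, rfl | rfl⟩
  · left
    refine ⟨by omega, ?_⟩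
    rcases Nat.eq_zero_or_pos t with rfl | h0
    · exact Or.inl ⟨rfl, by simp [iota]⟩
    · refine Or.inr ⟨by omega, key (t - 1) _ (by omega) ?_⟩
      obtain ⟨s, rfl⟩ : ∃ s, t = s + 1 := ⟨t - 1, by omega⟩
      simp only [Nat.add_sub_cancel]
      have : 2 * (s + 1) * (4 * k) = 2 * (4 * k) * s + 2 * (4 * k) := by ring
      omega
  · right
    refine ⟨by omega, ?_⟩
    by_cases hlt : 2 * t + 1 < 4 * k
    · refine Or.inl ⟨hlt, key t _ (by omega) ?_⟩
      have : (2 * t + 1) * (4 * k) = 2 * (4 * k) * t + 4 * k := by ring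
      omega
    · refine Or.inr ⟨by omega, key (t - 1) _ (by omega) ?_⟩
      obtain ⟨s, rfl⟩ : ∃ s, t = s + 1 := ⟨t - 1, by omega⟩
      simp only [Nat.add_sub_cancel]
      have : (2 * (s + 1) + 1) * (4 * k) = 2 * (4 * k) * s + 3 * (4 * k) := by ring
      omega

/-- A semidihedral subgroup of order `4 * h`, `h` a power of two at least four. -/
structure SDShape (D : Subgroup G) (h : ℕ) where
  σ : G
  τ : G
  σ_mem : σ ∈ D
  τ_mem : τ ∈ D
  τ_not_mem : τ ∉ Subgroup.zpowers σ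
  order : orderOf σ = 2 * h
  conj : τ * σ * τ⁻¹ = σ ^ (h - 1)
  τ_sq : τ * τ = 1
  gen : ∀ x ∈ D, x ∈ Subgroup.zpowers σ ∨ ∃ a : ℕ, a < 2 * h ∧ x = τ * σ ^ a
  card : Nat.card D = 4 * h
  two_pow : ∃ e, 2 ≤ e ∧ h = 2 ^ e

theorem exists_sdshape (D : Subgroup G) (n : ℕ) (hn : 4 ≤ n) (hcard : Nat.card D = 2 ^ n)
    (hsd : Cfsg.IsQuasiDihedral D) : Nonempty (SDShape D (2 ^ (n - 2))) := by
  obtain ⟨m, hm, hc, x, y, hx, hy, hyx⟩ := hsd
  obtain rfl : n = m + 1 := Nat.pow_right_injective le_rfl (hcard.symm.trans hc)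
  rw [show m + 1 - 2 = m - 1 by omega]
  set h := 2 ^ (m - 1) with hh
  have h2 : 2 ^ m = 2 * h := by rw [hh, ← pow_succ']; congr 1; omega
  have h4 : 4 ≤ h := le_of_eq_of_le (by norm_num : 4 = 2 ^ 2) (Nat.pow_le_pow_right two_pos (by omega))
  haveI : Finite D := Nat.finite_of_card_ne_zero (by rw [hc]; exact pow_ne_zero _ two_ne_zero)
  have hcardD : Nat.card D = 4 * h := by rw [hc, pow_succ, h2]; ring
  have hy2 : y * y = 1 := by rw [← pow_two, ← hy, pow_orderOf_eq_one]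
  have hynot : y ∉ Subgroup.zpowers x := by
    rintro ⟨k, rfl⟩
    rw [((Commute.refl x).zpow_left k).eq, mul_inv_cancel_right] at hyx
    have hpow : x ^ (h - 2) = 1 := by
      refine mul_left_cancel (a := x) ?_
      rw [mul_one, ← pow_succ', show h - 2 + 1 = h - 1 by omega]
      exact hyx.symm
    have := Nat.le_of_dvd (by omega) (orderOf_dvd_of_pow_eq_one hpow)
    omega
  have hidx : (Subgroup.zpowers x).index = 2 := by
    have h1 := (Subgroup.zpowers x).index_mul_card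
    rw [Nat.card_zpowers, hx, h2, hcardD, show 4 * h = 2 * (2 * h) by ring] at h1
    exact Nat.eq_of_mul_eq_mul_right (by omega) h1
  have hmem : ∀ v : D, ((v : G) ∈ Subgroup.zpowers (x : G) ↔ v ∈ Subgroup.zpowers x) := fun v => by
    constructor
    · rintro ⟨k, hk⟩
      exact ⟨k, Subtype.ext (by simpa using hk)⟩
    · rintro ⟨k, rfl⟩
      exact ⟨k, by simp⟩
  refine ⟨⟨(x : G), (y : G), x.2, y.2, fun hh' => hynot ((hmem y).1 hh'),
    by rw [Subgroup.orderOf_coe, hx, h2], by simpa using congrArg Subtype.val hyx,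
    by exact_mod_cast congrArg Subtype.val hy2, fun v hv => ?_, hcardD, m - 1, by omega, rfl⟩⟩
  by_cases hvx : (⟨v, hv⟩ : D) ∈ Subgroup.zpowers x
  · exact Or.inl ((hmem ⟨v, hv⟩).2 hvx)
  · right
    have h1 : y * ⟨v, hv⟩ ∈ Subgroup.zpowers x :=
      (Subgroup.mul_mem_iff_of_index_two hidx).2 (iff_of_false hynot hvx)
    obtain ⟨a, ha, he⟩ : ∃ a, a < 2 * h ∧ x ^ a = y * ⟨v, hv⟩ := by
      obtain ⟨a, ha⟩ := (mem_powers_iff_mem_zpowers (x := x)).2 h1
      exact ⟨a % (2 * h), Nat.mod_lt _ (by omega), by rw [← h2, ← hx, pow_mod_orderOf]; exact ha⟩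
    refine ⟨a, ha, ?_⟩
    have : (⟨v, hv⟩ : D) = y * x ^ a := by rw [he, ← mul_assoc, hy2, one_mul]
    simpa using congrArg Subtype.val this

namespace SDShape

variable {D : Subgroup G} {h : ℕ} (S : SDShape D h)

include S

/-- The central involution. -/
def z : G := S.σ ^ h

/-- The rotation of order four. -/
def w : G := S.σ ^ (h / 2)

/-- The element of order four outside the rotations. -/
def f : G := S.τ * S.σ

theorem four_dvd : 4 ∣ h := by
  obtain ⟨e, he, rfl⟩ := S.two_pow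
  exact (show (4 : ℕ) = 2 ^ 2 by norm_num) ▸ pow_dvd_pow 2 he

theorem h_four_le : 4 ≤ h := by
  obtain ⟨e, he, rfl⟩ := S.two_pow
  exact le_of_eq_of_le (by norm_num : 4 = 2 ^ 2) (Nat.pow_le_pow_right two_pos he)

theorem h_pos : 0 < h := lt_of_lt_of_le (by norm_num) S.h_four_le

theorem iota_spec {a : ℕ} (ha : a < 2 * h) :
    (a % 2 = 0 ∧ ((a = 0 ∧ iota h a = 0) ∨ (0 < a ∧ iota h a = 2 * h - a))) ∨
      (a % 2 = 1 ∧ ((a < h ∧ iota h a = h - a) ∨ (h < a ∧ iota h a = 3 * h - a))) :=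
  TameSD.iota_spec S.four_dvd S.h_pos ha

theorem iota_iota {a : ℕ} (ha : a < 2 * h) : iota h (iota h a) = a := by
  have h1 := S.iota_spec ha
  have h2 := S.iota_spec (iota_lt S.h_pos a)
  obtain ⟨k, hk⟩ := S.four_dvd
  omega

theorem zpowers_le : Subgroup.zpowers S.σ ≤ D := Subgroup.zpowers_le.2 S.σ_mem

theorem pow_mem_zpowers (a : ℕ) : S.σ ^ a ∈ Subgroup.zpowers S.σ :=
  pow_mem (Subgroup.mem_zpowers _) a

theorem z_mem_zpowers : S.z ∈ Subgroup.zpowers S.σ := S.pow_mem_zpowers h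

theorem w_mem_zpowers : S.w ∈ Subgroup.zpowers S.σ := S.pow_mem_zpowers _

theorem z_mem : S.z ∈ D := S.zpowers_le S.z_mem_zpowers

theorem w_mem : S.w ∈ D := S.zpowers_le S.w_mem_zpowers

theorem f_mem : S.f ∈ D := mul_mem S.τ_mem S.σ_mem

theorem f_not_mem : S.f ∉ Subgroup.zpowers S.σ := fun hf =>
  S.τ_not_mem (by simpa [f] using mul_mem hf (inv_mem (Subgroup.mem_zpowers S.σ)))

theorem w_mul_w : S.w * S.w = S.z := by
  obtain ⟨k, hk⟩ := S.four_dvd
  rw [w, z, ← pow_add]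
  congr 1
  omega

theorem pow_two_h : S.σ ^ (2 * h) = 1 := by rw [← S.order, pow_orderOf_eq_one]

theorem pow_mod (a : ℕ) : S.σ ^ (a % (2 * h)) = S.σ ^ a := by rw [← S.order, pow_mod_orderOf]

theorem sigma_pow_inj {a b : ℕ} (ha : a < 2 * h) (hb : b < 2 * h) (he : S.σ ^ a = S.σ ^ b) :
    a = b :=
  pow_injOn_Iio_orderOf (by rw [Set.mem_Iio, S.order]; exact ha)
    (by rw [Set.mem_Iio, S.order]; exact hb) he

theorem exists_pow {v : G} (hv : v ∈ Subgroup.zpowers S.σ) [Finite G] :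
    ∃ a, a < 2 * h ∧ v = S.σ ^ a := by
  obtain ⟨k, hk⟩ := (mem_powers_iff_mem_zpowers (x := S.σ)).2 hv
  exact ⟨k % (2 * h), Nat.mod_lt _ (by have := S.h_pos; omega), by rw [S.pow_mod]; exact hk.symm⟩

theorem z_mul_z : S.z * S.z = 1 := by rw [z, ← pow_add, ← two_mul, S.pow_two_h]

theorem z_inv : S.z⁻¹ = S.z := inv_eq_of_mul_eq_one_right S.z_mul_z

theorem z_ne_one : S.z ≠ 1 := fun h1 => by
  have := S.h_pos
  have h2 := S.sigma_pow_inj (a := h) (b := 0) (by omega) (by omega) (by rw [pow_zero]; exact h1)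
  omega

theorem orderOf_z : orderOf S.z = 2 := orderOf_eq_prime (by rw [pow_two]; exact S.z_mul_z) S.z_ne_one

theorem orderOf_w : orderOf S.w = 4 := by
  refine orderOf_eq_prime_pow (p := 2) (n := 1) ?_ ?_
  · rw [pow_one, pow_two, S.w_mul_w]; exact S.z_ne_one
  · rw [show 2 ^ (1 + 1) = 2 + 2 by norm_num, pow_add, pow_two, S.w_mul_w, S.z_mul_z]

theorem w_inv : S.w⁻¹ = S.σ ^ (2 * h - h / 2) := by
  refine inv_eq_of_mul_eq_one_right ?_
  rw [w, ← pow_add, show h / 2 + (2 * h - h / 2) = 2 * h by omega, S.pow_two_h]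

theorem tau_inv : S.τ⁻¹ = S.τ := inv_eq_of_mul_eq_one_right S.τ_sq

theorem tau_conj_pow (a : ℕ) : S.τ * S.σ ^ a * S.τ⁻¹ = S.σ ^ iota h a := by
  rw [← _root_.conj_pow, S.conj, ← pow_mul, iota, S.pow_mod, mul_comm]

theorem pow_tau (a : ℕ) : S.σ ^ a * S.τ = S.τ * S.σ ^ iota h a := by
  rw [← S.tau_conj_pow a, ← mul_assoc, ← mul_assoc, S.τ_sq, one_mul, S.tau_inv]

theorem eq_tau_mul {x : G} (hx : x ∈ D) (hn : x ∉ Subgroup.zpowers S.σ) :
    ∃ a : ℕ, a < 2 * h ∧ x = S.τ * S.σ ^ a :=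
  (S.gen x hx).resolve_left hn

theorem refl_sq_eq {a : ℕ} (ha : a < 2 * h) :
    S.τ * S.σ ^ a * (S.τ * S.σ ^ a) = if a % 2 = 0 then 1 else S.z := by
  have h1 : S.τ * S.σ ^ a * (S.τ * S.σ ^ a) = S.σ ^ (iota h a + a) := by
    calc S.τ * S.σ ^ a * (S.τ * S.σ ^ a) = S.τ * (S.σ ^ a * S.τ) * S.σ ^ a := by group
      _ = S.τ * S.τ * S.σ ^ iota h a * S.σ ^ a := by rw [S.pow_tau]; group
      _ = _ := by rw [S.τ_sq, one_mul, ← pow_add]
  have hi := S.iota_spec ha
  rw [h1]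
  split_ifs with he
  · rcases (show iota h a + a = 0 ∨ iota h a + a = 2 * h by omega) with e | e <;>
      simp [e, S.pow_two_h]
  · rcases (show iota h a + a = h ∨ iota h a + a = h + 2 * h by omega) with e | e
    · rw [e, z]
    · rw [e, pow_add, S.pow_two_h, mul_one, z]

theorem refl_sq {x : G} (hx : x ∈ D) (hn : x ∉ Subgroup.zpowers S.σ) :
    x * x = 1 ∨ x * x = S.z := by
  obtain ⟨a, ha, rfl⟩ := S.eq_tau_mul hx hn
  rw [S.refl_sq_eq ha]
  split_ifs <;> simp

theorem f_sq : S.f * S.f = S.z := by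
  have := S.refl_sq_eq (a := 1) (by have := S.h_pos; omega)
  simpa [f] using this

theorem rot_comm {u v : G} (hu : u ∈ Subgroup.zpowers S.σ) (hv : v ∈ Subgroup.zpowers S.σ) :
    Commute u v := by
  obtain ⟨a, rfl⟩ := hu
  obtain ⟨b, rfl⟩ := hv
  exact (Commute.refl S.σ).zpow_zpow a b

/-- Elements outside the rotations conjugate them by `iota`. -/
theorem refl_conj {x : G} (hx : x ∈ D) (hn : x ∉ Subgroup.zpowers S.σ) (m : ℕ) :
    x * S.σ ^ m * x⁻¹ = S.σ ^ iota h m := by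
  obtain ⟨a, -, rfl⟩ := S.eq_tau_mul hx hn
  calc S.τ * S.σ ^ a * S.σ ^ m * (S.τ * S.σ ^ a)⁻¹
      = S.τ * (S.σ ^ a * S.σ ^ m * (S.σ ^ a)⁻¹) * S.τ⁻¹ := by group
    _ = S.σ ^ iota h m := by
      rw [(S.rot_comm (S.pow_mem_zpowers a) (S.pow_mem_zpowers m)).eq, mul_inv_cancel_right,
        S.tau_conj_pow]

theorem conj_rot [Finite G] {y : G} (hy : y ∈ D) (m : ℕ) :
    y * S.σ ^ m * y⁻¹ = S.σ ^ m ∨ y * S.σ ^ m * y⁻¹ = S.σ ^ iota h m := by
  by_cases hn : y ∈ Subgroup.zpowers S.σ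
  · exact Or.inl (by rw [(S.rot_comm hn (S.pow_mem_zpowers m)).eq, mul_inv_cancel_right])
  · exact Or.inr (S.refl_conj hy hn m)

theorem iota_h : iota h h = h := by
  have h1 := S.iota_spec (a := h) (by have := S.h_pos; omega)
  obtain ⟨k, hk⟩ := S.four_dvd
  omega

theorem z_central [Finite G] {x : G} (hx : x ∈ D) : Commute x S.z := by
  show x * S.z = S.z * x
  rcases S.conj_rot hx h with h1 | h1
  · exact mul_inv_eq_iff_eq_mul.1 h1
  · rw [S.iota_h] at h1
    exact mul_inv_eq_iff_eq_mul.1 h1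

theorem D_le_centralizer [Finite G] : D ≤ Subgroup.centralizer ({S.z} : Set G) := fun _ hx =>
  Subgroup.mem_centralizer_singleton_iff.2 (S.z_central hx).eq

theorem z_mem_centralizer [Finite G] : S.z ∈ Subgroup.centralizer (D : Set G) :=
  Subgroup.mem_centralizer_iff.2 fun _ hx => (S.z_central hx).eq

theorem w_conj {x : G} (hx : x ∈ D) (hn : x ∉ Subgroup.zpowers S.σ) :
    x * S.w * x⁻¹ = S.w⁻¹ := by
  rw [w, S.refl_conj hx hn, ← w, S.w_inv]
  congr 1
  have h1 := S.iota_spec (a := h / 2) (by have := S.h_pos; omega)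
  obtain ⟨k, hk⟩ := S.four_dvd
  have := S.h_pos
  omega

/-- The rotations of square one. -/
theorem eq_one_or_z [Finite G] {v : G} (hv : v ∈ Subgroup.zpowers S.σ) (h2 : v * v = 1) :
    v = 1 ∨ v = S.z := by
  obtain ⟨a, ha, rfl⟩ := S.exists_pow hv
  rw [← pow_add, ← S.pow_mod, ← pow_zero S.σ] at h2
  have := S.h_pos
  have h1 := S.sigma_pow_inj (Nat.mod_lt _ (by omega)) (by omega) h2
  rcases (show a = 0 ∨ a = h by
    rcases Nat.lt_or_ge (a + a) (2 * h) with h' | h'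
    · rw [Nat.mod_eq_of_lt h'] at h1; omega
    · rw [Nat.mod_eq_sub_mod h', Nat.mod_eq_of_lt (by omega)] at h1; omega) with e | e
  · exact Or.inl (by rw [e, pow_zero])
  · exact Or.inr (by rw [e, z])

/-- A rotation of order more than two is fixed by no element outside the rotations. -/
theorem iota_ne {a : ℕ} (ha : a < 2 * h) (h0 : a ≠ 0) (hh : a ≠ h) : iota h a ≠ a := by
  have h1 := S.iota_spec ha
  obtain ⟨k, hk⟩ := S.four_dvd
  omega

theorem eq_one_or_z_of_fixed [Finite G] {x v : G} (hx : x ∈ D) (hn : x ∉ Subgroup.zpowers S.σ)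
    (hv : v ∈ Subgroup.zpowers S.σ) (hc : Commute x v) : v = 1 ∨ v = S.z := by
  obtain ⟨a, ha, rfl⟩ := S.exists_pow hv
  have h1 := S.refl_conj hx hn a
  rw [hc.eq, mul_inv_cancel_right] at h1
  have h2 := S.sigma_pow_inj ha (iota_lt S.h_pos a) h1
  by_cases h0 : a = 0
  · exact Or.inl (by rw [h0, pow_zero])
  by_cases hh : a = h
  · exact Or.inr (by rw [hh, z])
  exact absurd h2.symm (S.iota_ne ha h0 hh)

/-- The centralizer in `D` of a rotation of order more than two. -/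
theorem inf_centralizer [Finite G] {v : G} (hv : v ∈ Subgroup.zpowers S.σ) (h1 : v ≠ 1)
    (hz : v ≠ S.z) : D ⊓ Subgroup.centralizer ({v} : Set G) = Subgroup.zpowers S.σ := by
  refine le_antisymm (fun x hx => ?_) fun _ hx =>
    ⟨S.zpowers_le hx, Subgroup.mem_centralizer_singleton_iff.2 (S.rot_comm hx hv).eq⟩
  by_contra hn
  rcases S.eq_one_or_z_of_fixed hx.1 hn hv (Subgroup.mem_centralizer_singleton_iff.1 hx.2) with e | e
  exacts [h1 e, hz e]

/-- The centralizer in `D` of an element outside the rotations. -/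
theorem mem_inf_centralizer_refl [Finite G] {x : G} (hx : x ∈ D) (hn : x ∉ Subgroup.zpowers S.σ)
    {y : G} : y ∈ D ⊓ Subgroup.centralizer ({x} : Set G) ↔
      y = 1 ∨ y = S.z ∨ y = x ∨ y = x * S.z := by
  constructor
  · rintro ⟨hyD, hy⟩
    have hc : Commute y x := Subgroup.mem_centralizer_singleton_iff.1 hy
    by_cases hyσ : y ∈ Subgroup.zpowers S.σ
    · rcases S.eq_one_or_z_of_fixed hx hn hyσ hc.symm with e | e <;> simp [e]
    · obtain ⟨a, -, ha⟩ := S.eq_tau_mul hyD hyσ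
      obtain ⟨b, -, hb⟩ := S.eq_tau_mul hx hn
      have hd : x⁻¹ * y ∈ Subgroup.zpowers S.σ := by
        rw [ha, hb, mul_inv_rev, mul_assoc, inv_mul_cancel_left]
        exact mul_mem (inv_mem (S.pow_mem_zpowers b)) (S.pow_mem_zpowers a)
      rcases S.eq_one_or_z_of_fixed hx hn hd
          (((Commute.refl x).inv_right).mul_right hc.symm) with e | e
      · rw [inv_mul_eq_one] at e
        simp [e]
      · rw [inv_mul_eq_iff_eq_mul] at e
        simp [e]
  · have hzc := S.z_central hx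
    intro hy
    refine ⟨?_, Subgroup.mem_centralizer_singleton_iff.2 ?_⟩
    · rcases hy with rfl | rfl | rfl | rfl
      exacts [one_mem _, S.z_mem, hx, mul_mem hx S.z_mem]
    · rcases hy with rfl | rfl | rfl | rfl
      · simp
      · exact hzc.symm.eq
      · rfl
      · exact ((Commute.refl x).mul_left hzc.symm).eq

theorem card_inf_centralizer_refl [Finite G] {x : G} (hx : x ∈ D)
    (hn : x ∉ Subgroup.zpowers S.σ) :
    Nat.card ↥(D ⊓ Subgroup.centralizer ({x} : Set G)) = 4 := by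
  classical
  have he : ((D ⊓ Subgroup.centralizer ({x} : Set G) : Subgroup G) : Set G) =
      ↑({1, S.z, x, x * S.z} : Finset G) := by
    ext y
    rw [SetLike.mem_coe, S.mem_inf_centralizer_refl hx hn]
    simp
  show Nat.card ↥((D ⊓ Subgroup.centralizer ({x} : Set G) : Subgroup G) : Set G) = 4
  rw [he, Nat.card_coe_set_eq, Set.ncard_coe_finset]
  have hx1 : x ≠ 1 := fun e => hn (e ▸ one_mem _)
  have hxz : x ≠ S.z := fun e => hn (e ▸ S.z_mem_zpowers)
  have hxz1 : x * S.z ≠ 1 := fun e => hxz (by rw [mul_eq_one_iff_eq_inv, S.z_inv] at e; exact e)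
  simp [Finset.card_insert_of_notMem, Ne.symm hx1, Ne.symm hxz, Ne.symm hxz1, S.z_ne_one,
    Ne.symm S.z_ne_one, hx1]

theorem card_zpowers_sigma : Nat.card (Subgroup.zpowers S.σ) = 2 * h := by
  rw [Nat.card_zpowers, S.order]

theorem isPGroup [Finite G] : IsPGroup 2 D := by
  obtain ⟨e, -, he⟩ := S.two_pow
  exact IsPGroup.of_card (n := e + 2) (by rw [S.card, he, pow_add]; ring)

/-- Translates by even rotations are conjugate. -/
theorem exists_conj_refl [Finite G] (a : ℕ) :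
    ∃ g ∈ D, g * (S.τ * S.σ ^ a) * g⁻¹ = S.τ * S.σ ^ (a % 2) := by
  have hh := S.h_four_le
  obtain ⟨k, hk⟩ := S.four_dvd
  set δ := S.σ ^ (h - 2) with hδ
  have ho : orderOf δ = h := by
    rw [hδ, orderOf_pow' S.σ (by omega : h - 2 ≠ 0), S.order]
    have hg : Nat.gcd (2 * h) (h - 2) = 2 := by
      have hdvd := Nat.gcd_dvd_right (2 * h) (h - 2)
      obtain ⟨e, -, he⟩ := S.two_pow
      have h1 : Nat.gcd (2 * h) (h - 2) ∣ 2 ^ (e + 1) := by
        rw [pow_succ', ← he]; exact Nat.gcd_dvd_left _ _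
      obtain ⟨i, -, hi⟩ := (Nat.dvd_prime_pow Nat.prime_two).1 h1
      have h2 : 2 ∣ Nat.gcd (2 * h) (h - 2) :=
        Nat.dvd_gcd (dvd_mul_right 2 h) ⟨2 * k - 1, by omega⟩
      have h3 : i < 2 := by
        by_contra hc
        have h4 : 4 ∣ h - 2 :=
          ((show (4 : ℕ) = 2 ^ 2 by norm_num) ▸ pow_dvd_pow 2 (not_lt.1 hc) : 4 ∣ 2 ^ i).trans
            (hi ▸ hdvd)
        omega
      interval_cases i
      · rw [hi] at h2; omega
      · simpa using hi
    rw [hg]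
    omega
  have hle : Subgroup.zpowers δ = Subgroup.zpowers (S.σ ^ 2) := by
    refine Subgroup.eq_of_le_of_card_ge (Subgroup.zpowers_le.2 ?_) ?_
    · rw [hδ, show h - 2 = 2 * (2 * k - 1) by omega, pow_mul]
      exact pow_mem (Subgroup.mem_zpowers _) _
    · rw [Nat.card_zpowers, Nat.card_zpowers, ho, orderOf_pow' S.σ two_ne_zero, S.order,
        Nat.gcd_mul_right_left]
      omega
  have hmem : (S.σ ^ (2 * (a / 2)))⁻¹ ∈ Subgroup.zpowers δ := by
    rw [hle, pow_mul]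
    exact inv_mem (pow_mem (Subgroup.mem_zpowers _) _)
  obtain ⟨j, hj⟩ := hmem
  simp only at hj
  refine ⟨S.σ ^ j, zpow_mem S.σ_mem j, ?_⟩
  have hconj : S.σ ^ j * S.τ = S.τ * (S.σ ^ (h - 1)) ^ j := by
    rw [← S.conj, _root_.conj_zpow, ← mul_assoc, ← mul_assoc, S.τ_sq, one_mul, S.tau_inv]
  have hd : (S.σ ^ (h - 1)) ^ j * (S.σ ^ j)⁻¹ = (S.σ ^ (2 * (a / 2)))⁻¹ := by
    rw [← hj, ← inv_zpow, ← ((Commute.refl S.σ).pow_left _).inv_right.mul_zpow, hδ]
    congr 1
    rw [mul_inv_eq_iff_eq_mul, ← pow_succ]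
    congr 1
    omega
  calc S.σ ^ j * (S.τ * S.σ ^ a) * (S.σ ^ j)⁻¹
      = S.σ ^ j * S.τ * (S.σ ^ a * (S.σ ^ j)⁻¹) := by group
    _ = S.τ * ((S.σ ^ (h - 1)) ^ j * (S.σ ^ j)⁻¹ * S.σ ^ a) := by
      rw [hconj, (((Commute.refl S.σ).pow_left a).zpow_right j).inv_right.eq]
      group
    _ = S.τ * S.σ ^ (a % 2) := by
      congr 1
      rw [hd, inv_mul_eq_iff_eq_mul, ← pow_add]
      congr 1
      omega

/-- The rotation of order four lies in the group of every rotation of larger order. -/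
theorem w_mem_zpowers_rot [Finite G] {u : G} (hu : u ∈ Subgroup.zpowers S.σ) (hu1 : u ≠ 1)
    (huz : u ≠ S.z) : S.w ∈ Subgroup.zpowers u := by
  obtain ⟨k, hk⟩ := S.isPGroup ⟨u, S.zpowers_le hu⟩
  obtain ⟨i, -, hi⟩ := (Nat.dvd_prime_pow Nat.prime_two).1
    (orderOf_dvd_of_pow_eq_one (x := u) (n := 2 ^ k) (congrArg Subtype.val hk))
  have hi2 : 2 ≤ i := by
    by_contra hc
    have h1 : orderOf u ∣ 2 := by
      rw [hi]
      exact (pow_dvd_pow 2 (show i ≤ 1 by omega)).trans (by norm_num)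
    rw [orderOf_dvd_iff_pow_eq_one, pow_two] at h1
    rcases S.eq_one_or_z hu h1 with e | e
    exacts [hu1 e, huz e]
  obtain ⟨j, rfl⟩ : ∃ j, i = j + 2 := ⟨i - 2, by omega⟩
  have hsplit : 2 ^ (j + 2) = 2 ^ j * 4 := by rw [pow_add]; norm_num
  have hv : orderOf (u ^ 2 ^ j) = 4 := by
    rw [orderOf_pow' u (pow_ne_zero j two_ne_zero), hi, hsplit,
      Nat.gcd_eq_right (Dvd.intro 4 rfl), Nat.mul_div_cancel_left _ (pow_pos two_pos j)]
  set v := u ^ 2 ^ j
  have hvσ : v ∈ Subgroup.zpowers S.σ := pow_mem hu _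
  have hv2 : v * v = S.z := by
    rcases S.eq_one_or_z (mul_mem hvσ hvσ) (by
      rw [← pow_two, ← pow_two, ← pow_mul]
      exact (show (2 * 2 : ℕ) = orderOf v by rw [hv]) ▸ pow_orderOf_eq_one v) with e | e
    · exfalso
      have h1 : orderOf v ∣ 2 := by rw [orderOf_dvd_iff_pow_eq_one, pow_two]; exact e
      rw [hv] at h1
      norm_num at h1
    · exact e
  rcases S.eq_one_or_z (mul_mem hvσ (inv_mem S.w_mem_zpowers)) (by
    rw [(S.rot_comm hvσ (inv_mem S.w_mem_zpowers)).symm.mul_mul_mul_comm, hv2, ← mul_inv_rev,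
      S.w_mul_w, mul_inv_cancel]) with e | e
  · rw [mul_inv_eq_one] at e
    exact e ▸ pow_mem (Subgroup.mem_zpowers u) _
  · rw [mul_inv_eq_iff_eq_mul, ← hv2] at e
    have : S.w = v⁻¹ := eq_inv_of_mul_eq_one_right (mul_left_cancel (a := v) (by
      rw [← mul_assoc, ← e, mul_one]))
    exact this ▸ inv_mem (pow_mem (Subgroup.mem_zpowers u) _)

/-- The centralizer of a rotation of order more than two centralizes `w`. -/
theorem centralizer_rot_le [Finite G] {u : G} (hu : u ∈ Subgroup.zpowers S.σ) (hu1 : u ≠ 1)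
    (huz : u ≠ S.z) :
    Subgroup.centralizer ({u} : Set G) ≤ Subgroup.centralizer ({S.w} : Set G) := fun g hg => by
  obtain ⟨k, hk⟩ := S.w_mem_zpowers_rot hu hu1 huz
  rw [Subgroup.mem_centralizer_singleton_iff] at hg ⊢
  rw [← hk]
  exact (Commute.zpow_right hg k).eq

section Aut

variable [Finite G] {Q : Subgroup G} {x : G}

/-- A translation commuting with an element of odd order is trivial. -/
theorem translation_eq_one {q c : G} (hx : Cfsg.IsPRegular 2 x) (hcD : c ∈ D)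
    (h1 : x * q * x⁻¹ = q * c) (hc : x * c * x⁻¹ = c) : c = 1 := by
  refine BlockPairs.isPGroup_centralizes (hp := ⟨Nat.prime_two⟩) S.isPGroup hcD hx fun N hN => ?_
  have h2 : ∀ N : ℕ, x ^ N * q * (x ^ N)⁻¹ = q * c ^ N := fun N => by
    induction N with
    | zero => simp
    | succ N ih =>
      have hcN : x * c ^ N * x⁻¹ = c ^ N := by rw [← _root_.conj_pow, hc]
      calc x ^ (N + 1) * q * (x ^ (N + 1))⁻¹ = x * (x ^ N * q * (x ^ N)⁻¹) * x⁻¹ := by
            rw [pow_succ']; group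
        _ = (x * q * x⁻¹) * (x * c ^ N * x⁻¹) := by rw [ih]; group
        _ = q * c ^ (N + 1) := by rw [h1, hcN, pow_succ', mul_assoc]
  have h3 := h2 N
  rw [hN, one_mul, inv_one, mul_one] at h3
  exact mul_left_cancel (a := q) (by rw [mul_one]; exact h3.symm)

/-- The automorphism of odd order fixes the rotations. -/
theorem rot_fixed (hQ : Q ≤ D) (hN : ∀ q ∈ Q, x * q * x⁻¹ ∈ Q) (hxw : Commute x S.w)
    (hx : Cfsg.IsPRegular 2 x) :
    ∀ m, ∀ u ∈ Q, u ∈ Subgroup.zpowers S.σ → orderOf u = m → x * u * x⁻¹ = u := by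
  intro m
  induction m using Nat.strong_induction_on with
  | _ m ih =>
    intro u huQ huσ hm
    have hxz : Commute x S.z := S.w_mul_w ▸ hxw.mul_right hxw
    by_cases h2 : u * u * (u * u) = 1
    · -- `u` is a power of `w`
      by_cases hu1 : u = 1
      · simp [hu1]
      rcases S.eq_one_or_z (mul_mem huσ huσ) h2 with e | e
      · rcases S.eq_one_or_z huσ e with e' | e'
        · exact absurd e' hu1
        · exact e' ▸ mul_inv_eq_iff_eq_mul.2 hxz.eq
      · have hd : u * S.w⁻¹ * (u * S.w⁻¹) = 1 := by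
          rw [(S.rot_comm huσ (inv_mem S.w_mem_zpowers)).symm.mul_mul_mul_comm, e, ← mul_inv_rev,
            S.w_mul_w, mul_inv_cancel]
        rcases S.eq_one_or_z (mul_mem huσ (inv_mem S.w_mem_zpowers)) hd with e' | e'
        · rw [mul_inv_eq_one] at e'
          exact e' ▸ mul_inv_eq_iff_eq_mul.2 hxw.eq
        · rw [mul_inv_eq_iff_eq_mul] at e'
          exact e' ▸ mul_inv_eq_iff_eq_mul.2 (hxz.mul_right hxw).eq
    have hu'σ : x * u * x⁻¹ ∈ Subgroup.zpowers S.σ := by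
      by_contra hn
      have h3 : x * (u * u * (u * u)) * x⁻¹ = 1 := by
        rw [show x * (u * u * (u * u)) * x⁻¹ =
          x * u * x⁻¹ * (x * u * x⁻¹) * (x * u * x⁻¹ * (x * u * x⁻¹)) by group]
        rcases S.refl_sq (hQ (hN u huQ)) hn with e | e <;> rw [e]
        · rw [mul_one]
        · exact S.z_mul_z
      exact h2 (conj_eq_one_iff.1 h3)
    have hlt : orderOf (u ^ 2) < m := by
      obtain ⟨k, hk⟩ := S.isPGroup ⟨u, hQ huQ⟩
      obtain ⟨i, -, hi⟩ := (Nat.dvd_prime_pow Nat.prime_two).1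
        (orderOf_dvd_of_pow_eq_one (x := u) (n := 2 ^ k) (congrArg Subtype.val hk))
      have hi0 : i ≠ 0 := fun h0 => h2 (by
        rw [h0, pow_zero, orderOf_eq_one_iff] at hi; simp [hi])
      rw [orderOf_pow' u two_ne_zero, ← hm, hi, Nat.gcd_eq_right (dvd_pow_self 2 hi0)]
      exact Nat.div_lt_self (pow_pos two_pos i) one_lt_two
    have hfix := ih _ hlt (u ^ 2) (pow_mem huQ 2) (pow_mem huσ 2) rfl
    set d := u⁻¹ * (x * u * x⁻¹) with hd
    have hdσ : d ∈ Subgroup.zpowers S.σ := mul_mem (inv_mem huσ) hu'σ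
    have hd2 : d * d = 1 := by
      have hcm := S.rot_comm (inv_mem huσ) hu'σ
      rw [hd, hcm.symm.mul_mul_mul_comm, show x * u * x⁻¹ * (x * u * x⁻¹) = x * u ^ 2 * x⁻¹ by
        rw [pow_two]; group, hfix]
      group
    have hdfix : x * d * x⁻¹ = d := by
      rcases S.eq_one_or_z hdσ hd2 with e | e <;> rw [e]
      · simp
      · exact mul_inv_eq_iff_eq_mul.2 hxz.eq
    have h1 : x * u * x⁻¹ = u * d := by rw [hd, mul_inv_cancel_left]
    rw [h1, S.translation_eq_one hx (S.zpowers_le hdσ) h1 hdfix, mul_one]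

/-- An element of odd order normalizing `Q` and fixing `w` centralizes `Q`. -/
theorem centralizes (hQ : Q ≤ D) (hN : x ∈ Subgroup.normalizer (Q : Set G))
    (hxw : Commute x S.w) (hx : Cfsg.IsPRegular 2 x) :
    x ∈ Subgroup.centralizer (Q : Set G) := by
  have hN' : ∀ q ∈ Q, x * q * x⁻¹ ∈ Q := fun q hq => (Subgroup.mem_normalizer_iff.1 hN q).1 hq
  have hrot := fun u hu hu' => S.rot_fixed hQ hN' hxw hx _ u hu hu' rfl
  refine Subgroup.mem_centralizer_iff.2 fun q hq => ?_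
  have key : x * q * x⁻¹ = q := by
    by_cases hqσ : q ∈ Subgroup.zpowers S.σ
    · exact hrot q hq hqσ
    have hq'σ : x * q * x⁻¹ ∉ Subgroup.zpowers S.σ := fun hmem => by
      have h1 := hrot _ (hN' q hq) hmem
      rw [mul_inv_eq_iff_eq_mul] at h1
      have h2 : x * q * x⁻¹ = q := mul_left_cancel (a := x) (by
        calc x * (x * q * x⁻¹) = x * q * x⁻¹ * x := h1
          _ = x * q := by group)
      exact hqσ (h2 ▸ hmem)
    obtain ⟨a, -, ha⟩ := S.eq_tau_mul (hQ (hN' q hq)) hq'σ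
    obtain ⟨b, -, hb⟩ := S.eq_tau_mul (hQ hq) hqσ
    set c := q⁻¹ * (x * q * x⁻¹) with hc
    have hcσ : c ∈ Subgroup.zpowers S.σ := by
      rw [hc, ha, hb, mul_inv_rev, mul_assoc, inv_mul_cancel_left]
      exact mul_mem (inv_mem (S.pow_mem_zpowers b)) (S.pow_mem_zpowers a)
    have hcQ : c ∈ Q := mul_mem (inv_mem hq) (hN' q hq)
    have h1 : x * q * x⁻¹ = q * c := by rw [hc, mul_inv_cancel_left]
    rw [h1, S.translation_eq_one hx (hQ hcQ) h1 (hrot c hcQ hcσ), mul_one]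
  exact (mul_inv_eq_iff_eq_mul.1 key).symm

end Aut

/-- A semidihedral subgroup seen inside a larger subgroup. -/
def restrict {K : Subgroup G} (hDK : D ≤ K) : SDShape (D.subgroupOf K) h where
  σ := ⟨S.σ, hDK S.σ_mem⟩
  τ := ⟨S.τ, hDK S.τ_mem⟩
  σ_mem := S.σ_mem
  τ_mem := S.τ_mem
  τ_not_mem := fun ⟨k, hk⟩ => S.τ_not_mem ⟨k, by simpa using congrArg Subtype.val hk⟩
  order := by rw [Subgroup.orderOf_mk, S.order]
  «conj» := Subtype.ext (by simpa using S.conj)
  τ_sq := Subtype.ext (by simpa using S.τ_sq)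
  gen := fun x hx => by
    rcases S.gen (x : G) hx with ⟨k, hk⟩ | ⟨k, hk', hk⟩
    · exact Or.inl ⟨k, Subtype.ext (by simpa using hk)⟩
    · exact Or.inr ⟨k, hk', Subtype.ext (by simpa using hk)⟩
  card := by rw [Nat.card_congr (Subgroup.subgroupOfEquivOfLe hDK).toEquiv, S.card]
  two_pow := S.two_pow

end SDShape

end CfsgLib.TameSD
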